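import Cfsg.Agent.CIT.BadBasic
import Cfsg.Agent.TwoGroups.Central

/-!
A bad radical 2-subgroup with quotient `S₃` has order four and yields a 2-element with centraliser
of order four in a Sylow 2-subgroup.
-/

set_option autoImplicit false

namespace CfsgLib.CIT

open CfsgLib.CITThreePrime

universe u

variable {G : Type u} [Group G] [Finite G]

omit [Finite G] in
theorem mem_map_conj {H : Subgroup G} {g z : G} :
    z ∈ H.map (MulAut.conj g).toMonoidHom ↔ g⁻¹ * z * g ∈ H := by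
  constructor
  · rintro ⟨w, hw, rfl⟩
    show g⁻¹ * (g * w * g⁻¹) * g ∈ H
    rwa [show g⁻¹ * (g * w * g⁻¹) * g = w by group]
  · intro hz
    exact ⟨_, hz, show g * (g⁻¹ * z * g) * g⁻¹ = z by group⟩

omit [Finite G] in
theorem omegaZ_map_conj (R : Subgroup G) (g : G) :
    omegaZ (R.map (MulAut.conj g).toMonoidHom) = (omegaZ R).map (MulAut.conj g).toMonoidHom := by
  ext z
  rw [mem_map_conj]
  constructor
  · rintro ⟨hz, hzc, hz2⟩
    refine ⟨mem_map_conj.1 hz, Subgroup.mem_centralizer_iff.2 fun y hy => ?_,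
      by rw [show g⁻¹ * z * g * (g⁻¹ * z * g) = g⁻¹ * (z * z) * g by group, hz2]; group⟩
    calc y * (g⁻¹ * z * g) = g⁻¹ * ((g * y * g⁻¹) * z) * g := by group
      _ = g⁻¹ * (z * (g * y * g⁻¹)) * g := by
          rw [Subgroup.mem_centralizer_iff.1 hzc (g * y * g⁻¹) ⟨y, hy, rfl⟩]
      _ = g⁻¹ * z * g * y := by group
  · rintro ⟨hz, hzc, hz2⟩
    refine ⟨mem_map_conj.2 hz, Subgroup.mem_centralizer_iff.2 ?_, ?_⟩
    · rintro _ ⟨y, hy, rfl⟩
      show g * y * g⁻¹ * z = z * (g * y * g⁻¹)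
      calc g * y * g⁻¹ * z = g * (y * (g⁻¹ * z * g)) * g⁻¹ := by group
        _ = g * ((g⁻¹ * z * g) * y) * g⁻¹ := by rw [Subgroup.mem_centralizer_iff.1 hzc y hy]
        _ = _ := by group
    · calc z * z = g * (g⁻¹ * z * g * (g⁻¹ * z * g)) * g⁻¹ := by group
        _ = 1 := by rw [hz2]; group

variable (h : InvCentTwo G) {R : Subgroup G} (hb : Bad6 R)
include hb

theorem Bad6.map_conj (g : G) : Bad6 (R.map (MulAut.conj g).toMonoidHom) := by
  have hN : Subgroup.normalizer ((R.map (MulAut.conj g).toMonoidHom : Subgroup G) : Set G) =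
      (Subgroup.normalizer (R : Set G)).map (MulAut.conj g).toMonoidHom :=
    (Subgroup.map_normalizer_eq_of_bijective R (MulAut.conj g).bijective).symm
  refine ⟨hb.isPGroup.map _, ?_, ?_, fun w hw hw2 => ?_, fun E h1 h2 h3 => ?_⟩
  · rw [omegaZ_map_conj, Subgroup.card_map_of_injective (f := (MulAut.conj g).toMonoidHom)
      (MulAut.conj g).injective, hb.card_omegaZ]
  · rw [hN, Subgroup.card_map_of_injective (f := (MulAut.conj g).toMonoidHom) (MulAut.conj g).injective,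
      Subgroup.card_map_of_injective (f := (MulAut.conj g).toMonoidHom) (MulAut.conj g).injective,
      hb.card_normalizer]
  · rw [omegaZ_map_conj, mem_map_conj]
    exact hb.mem_omegaZ _ (mem_map_conj.1 hw) (by
      rw [show g⁻¹ * w * g * (g⁻¹ * w * g) = g⁻¹ * (w * w) * g by group, hw2]; group)
  · rw [hN] at h1 h2
    intro e he
    rw [mem_map_conj]
    have hE : E.map (MulAut.conj g⁻¹).toMonoidHom ≤ R := by
      refine hb.le_self _ ?_ ?_ (h3.map _)
      · rintro _ ⟨y, hy, rfl⟩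
        have := mem_map_conj.1 (h1 hy)
        simpa using this
      · intro n hn
        refine Subgroup.mem_normalizer_fintype (S := ((E.map (MulAut.conj g⁻¹).toMonoidHom : Subgroup G) : Set G)) ?_
        rintro _ ⟨y, hy, rfl⟩
        show n * (g⁻¹ * y * g⁻¹⁻¹) * n⁻¹ ∈ _
        refine mem_map_conj.2 ?_
        have h4 : g * n * g⁻¹ ∈ Subgroup.normalizer (E : Set G) := h2 ⟨n, hn, rfl⟩
        have h5 := (Subgroup.mem_normalizer_iff.1 h4 y).1 hy
        rwa [show g⁻¹⁻¹ * (n * (g⁻¹ * y * g⁻¹⁻¹) * n⁻¹) * g⁻¹ = g * n * g⁻¹ * y * (g * n * g⁻¹)⁻¹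
          by group]
    exact hE ⟨e, he, show g⁻¹ * e * g⁻¹⁻¹ = _ by group⟩

include h

/-- Two such subgroups in one Sylow 2-subgroup of both normalisers force order four. -/
theorem Bad6.card_eq_four_of_pair {R' S : Subgroup G} (hb' : Bad6 R') (hne : R' ≠ R)
    (hcard : Nat.card R' = Nat.card R) (hS : S ≤ Subgroup.normalizer (R : Set G))
    (hS2 : IsPGroup 2 S) (hRS : R ≤ S) (hR'S : R' ≤ S) : Nat.card R = 4 := by
  obtain ⟨a, ha, haR⟩ : ∃ a ∈ omegaZ R', a ∉ R := by
    by_contra hcon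
    push Not at hcon
    have hle : omegaZ R' ≤ omegaZ R := fun w hw => hb.mem_omegaZ w (hcon w hw) hw.2.2
    have heq := Subgroup.eq_of_le_of_card_ge hle (by rw [hb.card_omegaZ, hb'.card_omegaZ])
    exact hne (by rw [← hb'.centralizer_eq h, heq, hb.centralizer_eq h])
  have h1 := hb.card_fix_sq h (hS (hR'S ha.1)) haR ha.2.2
  have h2 : Nat.card ↥(R ⊓ R') ≤ Nat.card ↥(R ⊓ Subgroup.centralizer ({a} : Set G)) :=
    Subgroup.card_le_of_le (inf_le_inf_left R fun y hy =>
      Subgroup.mem_centralizer_singleton_iff.2 (Subgroup.mem_centralizer_iff.1 ha.2.1 y hy))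
  have h3 := LocalP.card_mul_le_card_sup_mul_card_inf R R'
  have h4 : Nat.card ↥(R ⊔ R') ≤ 2 * Nat.card R :=
    (Subgroup.card_le_of_le (sup_le hRS hR'S)).trans (hb.card_le_two hS hS2).1
  rw [hcard] at h3
  have h5 : Nat.card R ≤ 2 * Nat.card ↥(R ⊓ Subgroup.centralizer ({a} : Set G)) := by
    refine Nat.le_of_mul_le_mul_left ?_ (Nat.card_pos (α := R))
    calc Nat.card R * Nat.card R ≤ 2 * Nat.card R * Nat.card ↥(R ⊓ R') :=
          h3.trans (Nat.mul_le_mul_right _ h4)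
      _ ≤ 2 * Nat.card R * Nat.card ↥(R ⊓ Subgroup.centralizer ({a} : Set G)) :=
          Nat.mul_le_mul_left _ h2
      _ = _ := by ring
  have := hb.four_le_card
  nlinarith

/-- A Sylow 2-subgroup of the normaliser is one of the group unless the order is four. -/
theorem Bad6.card_eq_four_or_sylow :
    Nat.card R = 4 ∨ ∀ E : Subgroup G, IsPGroup 2 E → Nat.card E ≤ 2 * Nat.card R := by
  haveI : Fact (Nat.Prime 2) := ⟨Nat.prime_two⟩
  by_contra hcon
  push Not at hcon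
  obtain ⟨hR4, E, hE, hEc⟩ := hcon
  obtain ⟨S, hS, hRS, hS2, hSc⟩ := hb.exists_sylow
  obtain ⟨P, hP⟩ := hS2.exists_le_sylow
  have hne : S ≠ P := fun e => by
    have h1 := card_le_sylow P hE
    rw [← e, hSc] at h1
    omega
  obtain ⟨y, hyP, hyN, hyS⟩ := exists_gt_normalizer P.2 hP hne
  refine hR4 (hb.card_eq_four_of_pair h (hb.map_conj y) (fun e => ?_) ?_ hS hS2 hRS ?_)
  · have hy : y ∈ Subgroup.normalizer (R : Set G) := Subgroup.mem_normalizer_iff_map_conj_eq.2 e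
    have hle := (hb.card_le_two (sup_le hS (Subgroup.zpowers_le.2 hy))
      (P.2.to_le (sup_le hP (Subgroup.zpowers_le.2 hyP)))).1
    rw [← hSc] at hle
    have := Subgroup.eq_of_le_of_card_ge le_sup_left hle
    exact hyS (this.ge (Subgroup.mem_sup_right (Subgroup.mem_zpowers y)))
  · exact Subgroup.card_map_of_injective (f := (MulAut.conj y).toMonoidHom) (MulAut.conj y).injective
  · rintro _ ⟨r, hr, rfl⟩
    exact (Subgroup.mem_normalizer_iff.1 hyN r).1 (hRS hr)

/-- If a Sylow 2-subgroup of the normaliser is one of the group, involution centralisers of `V`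
lie in the normaliser. -/
theorem Bad6.centralizer_le_normalizer (hsyl : ∀ E : Subgroup G, IsPGroup 2 E → Nat.card E ≤ 2 * Nat.card R)
    {v : G} (hv : v ∈ omegaZ R) (hv1 : v ≠ 1) :
    R ≤ Subgroup.centralizer ({v} : Set G) ∧
      Subgroup.centralizer ({v} : Set G) ≤ Subgroup.normalizer (R : Set G) ∧
      Nat.card (Subgroup.centralizer ({v} : Set G)) = 2 * Nat.card R := by
  haveI : Fact (Nat.Prime 2) := ⟨Nat.prime_two⟩
  obtain ⟨S, hS, hRS, hS2, hSc⟩ := hb.exists_sylow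
  have hC : IsPGroup 2 (Subgroup.centralizer ({v} : Set G)) :=
    h v (orderOf_eq_prime (by rw [sq]; exact hv.2.2) hv1)
  -- some element of `V#` is central in `S`
  obtain ⟨w, hw, hw1, hSw⟩ : ∃ w ∈ omegaZ R, w ≠ 1 ∧ S ≤ Subgroup.centralizer ({w} : Set G) := by
    obtain ⟨s, hs, hsR⟩ : ∃ s ∈ S, s ∉ R := by
      by_contra hcon
      push Not at hcon
      have := Subgroup.card_le_of_le (H := S) (K := R) hcon
      rw [hSc] at this
      have := hb.four_le_card
      omega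
    obtain ⟨z, hz, hz1⟩ := (Subgroup.bot_or_exists_ne_one _).resolve_left hb.omegaZ_ne_bot
    have hs2 : s ^ 2 * z = z * s ^ 2 :=
      Subgroup.mem_centralizer_iff.1 hz.2.1 _ (hb.sq_mem hS hS2 hRS hs)
    have hsz : s * z * s⁻¹ ∈ omegaZ R := conj_omegaZ (hS hs) hz
    have hkey : ∀ w ∈ omegaZ R, Commute s w → S ≤ Subgroup.centralizer ({w} : Set G) := by
      intro w hw hsw
      have hsle : R ⊔ Subgroup.zpowers s ≤ Subgroup.centralizer ({w} : Set G) :=
        sup_le (fun r hr => Subgroup.mem_centralizer_singleton_iff.2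
          (Subgroup.mem_centralizer_iff.1 hw.2.1 r hr))
          (Subgroup.zpowers_le.2 (Subgroup.mem_centralizer_singleton_iff.2 hsw.eq))
      refine le_trans (le_of_eq ?_) hsle
      refine (Subgroup.eq_of_le_of_card_ge (sup_le hRS (Subgroup.zpowers_le.2 hs)) ?_).symm
      rw [hSc]
      have hlt := lt_card_of_not_mem (le_sup_left : R ≤ R ⊔ Subgroup.zpowers s)
        (Subgroup.mem_sup_right (Subgroup.mem_zpowers s)) hsR
      obtain ⟨k, hk⟩ := IsPGroup.iff_card.1 hb.isPGroup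
      obtain ⟨l, hl⟩ := IsPGroup.iff_card.1
        (hS2.to_le (sup_le hRS (Subgroup.zpowers_le.2 hs)) : IsPGroup 2 ↥(R ⊔ Subgroup.zpowers s))
      rw [hk, hl] at hlt ⊢
      rw [← pow_succ']
      exact Nat.pow_le_pow_right (by norm_num) ((Nat.pow_lt_pow_iff_right (by norm_num)).1 hlt)
    by_cases hfix : z * (s * z * s⁻¹) = 1
    · refine ⟨z, hz, hz1, hkey z hz (mul_inv_eq_iff_eq_mul.1
        ((eq_inv_of_mul_eq_one_right hfix).trans (inv_eq_of_mul_eq_one_right hz.2.2)))⟩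
    · refine ⟨_, mul_mem hz hsz, hfix, hkey _ (mul_mem hz hsz) ?_⟩
      show s * (z * (s * z * s⁻¹)) = z * (s * z * s⁻¹) * s
      calc s * (z * (s * z * s⁻¹)) = (s * z * s⁻¹) * (s ^ 2 * z) * (s ^ 2)⁻¹ * s := by group
        _ = (s * z * s⁻¹) * z * s := by rw [hs2]; group
        _ = _ := by rw [hb.omegaZ_comm hsz hz]
  obtain ⟨g, hg, hgw⟩ := hb.exists_conj h hw hw1 hv hv1
  have hSv : S.map (MulAut.conj g).toMonoidHom ≤ Subgroup.centralizer ({v} : Set G) := by
    rintro _ ⟨s, hs, rfl⟩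
    refine Subgroup.mem_centralizer_singleton_iff.2 ?_
    show g * s * g⁻¹ * v = v * (g * s * g⁻¹)
    rw [← hgw]
    calc g * s * g⁻¹ * (g * w * g⁻¹) = g * (s * w) * g⁻¹ := by group
      _ = g * (w * s) * g⁻¹ := by rw [Subgroup.mem_centralizer_singleton_iff.1 (hSw hs)]
      _ = _ := by group
  have hcS : Nat.card (S.map (MulAut.conj g).toMonoidHom) = 2 * Nat.card R := by
    rw [Subgroup.card_map_of_injective (f := (MulAut.conj g).toMonoidHom) (MulAut.conj g).injective, hSc]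
  have heq := Subgroup.eq_of_le_of_card_ge hSv (by rw [hcS]; exact hsyl _ hC)
  refine ⟨fun r hr => Subgroup.mem_centralizer_singleton_iff.2
    (Subgroup.mem_centralizer_iff.1 hv.2.1 r hr), ?_, by rw [← heq, hcS]⟩
  rw [← heq]
  rintro _ ⟨s, hs, rfl⟩
  exact mul_mem (mul_mem hg (hS hs)) (inv_mem hg)

/-- Some involution of the normaliser outside `R` is conjugate into `V`. -/
theorem Bad6.exists_outer_conj (hO : Cfsg.pCore 2 G = ⊥)
    (hsyl : ∀ E : Subgroup G, IsPGroup 2 E → Nat.card E ≤ 2 * Nat.card R) :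
    ∃ a g v : G, a ∈ Subgroup.normalizer (R : Set G) ∧ a ∉ R ∧ v ∈ omegaZ R ∧ v ≠ 1 ∧
      g * v * g⁻¹ = a := by
  classical
  haveI : Fact (Nat.Prime 2) := ⟨Nat.prime_two⟩
  by_contra hcon
  push Not at hcon
  set X := Subgroup.normalizer (R : Set G) with hX
  set V := omegaZ R with hV
  -- conjugates of `V#` inside `X` lie in `V`
  have hin : ∀ g, ∀ v ∈ V, v ≠ 1 → g * v * g⁻¹ ∈ X → g * v * g⁻¹ ∈ V := fun g v hv hv1 hgX => by
    refine hb.mem_omegaZ _ ?_ (by
      rw [show g * v * g⁻¹ * (g * v * g⁻¹) = g * (v * v) * g⁻¹ by group, hv.2.2]; group)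
    by_contra hR
    exact hcon _ g v hgX hR hv hv1 rfl
  have hTI : ∀ g, ∀ v ∈ V, v ≠ 1 → g * v * g⁻¹ ∈ V → g ∈ X := by
    intro g v hv hv1 hgv
    rw [hX, ← hb.normalizer_omegaZ_eq h]
    refine Subgroup.mem_normalizer_fintype (S := (V : Set G)) fun y hy => ?_
    show g * y * g⁻¹ ∈ V
    rcases eq_or_ne y 1 with rfl | hy1
    · rw [mul_one, mul_inv_cancel]; exact one_mem _
    refine hin g y hy hy1 ((hb.centralizer_le_normalizer h hsyl hgv
      (fun e => hv1 (conj_eq_one_iff.1 e))).2.1 (Subgroup.mem_centralizer_singleton_iff.2 ?_))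
    calc g * y * g⁻¹ * (g * v * g⁻¹) = g * (y * v) * g⁻¹ := by group
      _ = g * (v * y) * g⁻¹ := by rw [hb.omegaZ_comm hy hv]
      _ = _ := by group
  have hclaim : ∀ t ∈ X, t * t = 1 → t ≠ 1 → Subgroup.centralizer ({t} : Set G) ≤ X := by
    intro t htX ht ht1
    obtain ⟨v, hv, hv1, htv⟩ := hb.exists_fix htX ht
    have hP := h t (orderOf_eq_prime (by rw [sq]; exact ht) ht1)
    set P := Subgroup.centralizer ({t} : Set G)
    by_contra hle
    obtain ⟨y, hy, hyN, hyE⟩ := exists_gt_normalizer hP (inf_le_left : P ⊓ X ≤ P)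
      (fun e => hle (inf_eq_left.1 e))
    have hvE : v ∈ P ⊓ X :=
      ⟨Subgroup.mem_centralizer_singleton_iff.2 htv.eq.symm, Subgroup.le_normalizer hv.1⟩
    exact hyE ⟨hy, hTI y v hv hv1 (hin y v hv hv1 ((Subgroup.mem_normalizer_iff.1 hyN v).1 hvE).2)⟩
  -- an involution outside `R`
  obtain ⟨S, hS, hRS, hS2, hSc⟩ := hb.exists_sylow
  obtain ⟨s, hs, hsR⟩ : ∃ s ∈ S, s ∉ R := by
    by_contra hc
    push Not at hc
    have := Subgroup.card_le_of_le (H := S) (K := R) hc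
    rw [hSc] at this
    have := hb.four_le_card
    omega
  have hcoreR : ∀ q : X, q ∈ Cfsg.pCore 2 X → (q : G) ∈ R := fun q hq =>
    hb.le_self (Cfsg.pCoreOf 2 X) pCoreOf_le le_normalizer_pCoreOf isPGroup_pCoreOf ⟨q, hq, rfl⟩
  have hRcore : ∀ q : X, (q : G) ∈ R → q ∈ Cfsg.pCore 2 X := by
    intro q hq
    obtain ⟨q', hq', e⟩ := le_pCoreOf (H := X) Subgroup.le_normalizer le_rfl hb.isPGroup hq
    rwa [Subtype.val_injective e] at hq'
  obtain ⟨t, x, p, -, -, -, hto, hst, -⟩ := exists_involution_inverting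
    (h.of_injective X.subtype Subtype.val_injective) (a := ⟨s, hS hs⟩)
    (fun hm => hsR (hcoreR _ hm)) (hRcore _ (hb.sq_mem hS hS2 hRS hs))
  have htR : (t : G) ∉ R := fun htR => hsR (by
    have h1 : (t : G) * (s⁻¹ * t)⁻¹ ∈ R := mul_mem htR (inv_mem (hcoreR _ hst))
    rwa [mul_inv_rev, inv_inv, mul_inv_cancel_left] at h1)
  have hto' : orderOf (t : G) = 2 := (Subgroup.orderOf_coe t).trans hto
  have ht2 : (t : G) * t = 1 := by rw [← sq, ← hto', pow_orderOf_eq_one]
  have ht1 : (t : G) ≠ 1 := fun e => htR (e ▸ one_mem R)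
  -- every conjugate of `V#` lies in `V`
  refine hb.omegaZ_ne_bot ((Subgroup.eq_bot_iff_forall _).2 fun w hw => ?_)
  by_contra hw1
  have hall : ∀ g, g * w * g⁻¹ ∈ V := by
    intro g
    set z := g * w * g⁻¹ with hz
    have hz2 : z * z = 1 := by
      rw [hz, show g * w * g⁻¹ * (g * w * g⁻¹) = g * (w * w) * g⁻¹ by group, hw.2.2]; group
    have hz1 : z ≠ 1 := fun e => hw1 (conj_eq_one_iff.1 e)
    set y := (t : G) * z with hy
    have hyinv : (t : G) * y * (t : G)⁻¹ = y⁻¹ := by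
      rw [hy, mul_inv_rev, inv_eq_of_mul_eq_one_right ht2, inv_eq_of_mul_eq_one_right hz2,
        ← mul_assoc (t : G) (t : G) z, ht2, one_mul]
    rcases Nat.even_or_odd (orderOf y) with ⟨k, hk⟩ | ⟨k, hk⟩
    · have hk0 : 0 < k := by have := orderOf_pos y; omega
      set u := y ^ k with hu
      have hu2 : u * u = 1 := by rw [hu, ← pow_add, ← hk, pow_orderOf_eq_one]
      have hu1 : u ≠ 1 := pow_ne_one_of_lt_orderOf hk0.ne' (by omega)
      have hut : Commute (t : G) u := mul_inv_eq_iff_eq_mul.1 (by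
        rw [hu, ← conj_pow, hyinv, inv_pow, ← hu, inv_eq_of_mul_eq_one_right hu2])
      have huz : Commute u z := by
        have h1 : Commute u ((t : G) * y) :=
          hut.symm.mul_right (Commute.pow_self y k)
        rwa [hy, ← mul_assoc, ht2, one_mul] at h1
      have huX : u ∈ X :=
        hclaim t t.2 ht2 ht1 (Subgroup.mem_centralizer_singleton_iff.2 hut.eq.symm)
      refine hin g w hw hw1 (hclaim u huX hu2 hu1 ?_)
      exact Subgroup.mem_centralizer_singleton_iff.2 huz.eq.symm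
    · exfalso
      refine hcon (t : G) (y ^ (k + 1) * g) w t.2 htR hw hw1 ?_
      have hc : y ^ (k + 1) * z * (y ^ (k + 1))⁻¹ = t := by
        have h2 : z * y * z⁻¹ = y⁻¹ := by
          rw [inv_eq_of_mul_eq_one_right hz2, hy, mul_inv_rev, inv_eq_of_mul_eq_one_right ht2,
            inv_eq_of_mul_eq_one_right hz2]
          simp only [mul_assoc, hz2, mul_one]
        have h3 : z * (y ^ (k + 1))⁻¹ = y ^ (k + 1) * z := by
          have h4 : z * y ^ (k + 1) * z⁻¹ = (y ^ (k + 1))⁻¹ := by rw [← conj_pow, h2, inv_pow]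
          rw [← h4, inv_eq_of_mul_eq_one_right hz2]
          simp only [← mul_assoc, hz2, one_mul]
        rw [mul_assoc, h3, ← mul_assoc, ← pow_add, show k + 1 + (k + 1) = orderOf y + 1 by omega,
          pow_succ, pow_orderOf_eq_one, one_mul, hy, mul_assoc, hz2, mul_one]
      rw [← hc, hz]; group
  have hVn : V.Normal := by
    constructor
    intro y hy g
    rcases eq_or_ne y 1 with rfl | hy1
    · rw [mul_one, mul_inv_cancel]; exact one_mem _
    obtain ⟨n, -, rfl⟩ := hb.exists_conj h hw hw1 hy hy1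
    rw [show g * (n * w * n⁻¹) * g⁻¹ = g * n * w * (g * n)⁻¹ by group]
    exact hall _
  exact hb.omegaZ_ne_bot (eq_bot_iff.2 ((BaerSuzuki.normal_pgroup_le_pCore hVn
    hb.isPGroup_omegaZ).trans hO.le))

theorem Bad6.card_eq_four (hO : Cfsg.pCore 2 G = ⊥) : Nat.card R = 4 := by
  classical
  haveI : Fact (Nat.Prime 2) := ⟨Nat.prime_two⟩
  by_contra hR4
  have hsyl := (hb.card_eq_four_or_sylow h).resolve_left hR4
  obtain ⟨a, g, v, haX, haR, hv, hv1, hga⟩ := hb.exists_outer_conj h hO hsyl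
  set R' := R.map (MulAut.conj g).toMonoidHom with hR'
  have hb' := hb.map_conj g
  have hcard : Nat.card R' = Nat.card R :=
    Subgroup.card_map_of_injective (f := (MulAut.conj g).toMonoidHom) (MulAut.conj g).injective
  have hsyl' : ∀ E : Subgroup G, IsPGroup 2 E → Nat.card E ≤ 2 * Nat.card R' := by
    rw [hcard]; exact hsyl
  have ha' : a ∈ omegaZ R' := by rw [hR', omegaZ_map_conj]; exact ⟨v, hv, hga⟩
  have ha2 : a * a = 1 := ha'.2.2
  have ha1 : a ≠ 1 := fun e => haR (e ▸ one_mem R)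
  obtain ⟨z, hz, hz1, haz⟩ := hb.exists_fix haX ha2
  have hzCa : z ∈ Subgroup.centralizer ({a} : Set G) :=
    Subgroup.mem_centralizer_singleton_iff.2 haz.eq.symm
  obtain ⟨hR'C, hCX', hCc⟩ := hb'.centralizer_le_normalizer h hsyl' ha' ha1
  by_cases hzR' : z ∈ R'
  · obtain ⟨hRz, hzX, hzc⟩ := hb.centralizer_le_normalizer h hsyl hz hz1
    obtain ⟨hR'z, -, -⟩ := hb'.centralizer_le_normalizer h hsyl'
      (hb'.mem_omegaZ z hzR' hz.2.2) hz1
    exact hR4 (hb.card_eq_four_of_pair h hb' (fun e => haR (e ▸ ha'.1)) hcard hzX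
      (h z (orderOf_eq_prime (by rw [sq]; exact hz.2.2) hz1)) hRz hR'z)
  have hVR : omegaZ R ≤ R := fun y hy => hy.1
  have hconjR : ∀ y ∈ R, a * y * a⁻¹ ∈ R := fun y hy => (Subgroup.mem_normalizer_iff.1 haX y).1 hy
  -- a coset of `V` fixed by `a`
  obtain ⟨g₀, hg₀, hg₀V, hc₀⟩ : ∃ g₀ ∈ R, g₀ ∉ omegaZ R ∧ g₀⁻¹ * (a * g₀ * a⁻¹) ∈ omegaZ R := by
    set W := R ⊔ Subgroup.zpowers a
    have hWX : W ≤ Subgroup.normalizer (R : Set G) :=
      sup_le Subgroup.le_normalizer (Subgroup.zpowers_le.2 haX)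
    have hza : IsPGroup 2 (Subgroup.zpowers a) := IsPGroup.of_card (n := 1) (by
      rw [Nat.card_zpowers, pow_one]; exact orderOf_eq_prime (by rw [sq]; exact ha2) ha1)
    have hW2 : IsPGroup 2 W :=
      hb.isPGroup.to_sup_of_normal_left' hza (Subgroup.zpowers_le.2 haX)
    haveI : ((omegaZ R).subgroupOf W).Normal := Subgroup.normal_subgroupOf_of_le_normalizer
      (hWX.trans (normalizer_le_normalizer_omegaZ R))
    set Q := W ⧸ (omegaZ R).subgroupOf W
    haveI hQc := (hW2.to_quotient ((omegaZ R).subgroupOf W))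
    have hne : Nat.card R ≠ Nat.card (omegaZ R) := by rw [hb.card_omegaZ]; exact hR4
    set N := (R.subgroupOf W).map (QuotientGroup.mk' ((omegaZ R).subgroupOf W)) with hN
    haveI : (R.subgroupOf W).Normal := Subgroup.normal_subgroupOf_of_le_normalizer hWX
    haveI hNn : N.Normal := Subgroup.Normal.map inferInstance _ (QuotientGroup.mk'_surjective _)
    have hN1 : N ≠ ⊥ := by
      intro e
      rw [hN, Subgroup.map_eq_bot_iff, QuotientGroup.ker_mk'] at e
      exact hne (congrArg (fun K : Subgroup G => Nat.card K) (le_antisymm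
        (fun r hr => e (show (⟨r, Subgroup.mem_sup_left hr⟩ : W) ∈ R.subgroupOf W from hr)) hVR))
    obtain ⟨q, hqN, hqc, hq1⟩ : ∃ q ∈ N, q ∈ Subgroup.center (W ⧸ (omegaZ R).subgroupOf W) ∧ q ≠ 1 := by
      have hCA : IsPGroup 2 (ConjAct (W ⧸ (omegaZ R).subgroupOf W)) :=
        hQc.of_equiv ConjAct.toConjAct
      have hNd : 2 ∣ Nat.card N := by
        obtain ⟨k, hk⟩ := IsPGroup.iff_card.1 (hQc.to_subgroup N)
        rw [hk]
        exact dvd_pow_self 2 fun e => hN1 (Subgroup.eq_bot_of_card_eq _ (by rw [hk, e, pow_zero]))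
      obtain ⟨q, hq, hq1⟩ := hCA.exists_fixed_point_of_prime_dvd_card_of_fixed_point N hNd
        (a := (1 : N)) fun m => smul_one m
      refine ⟨q, q.2, Subgroup.mem_center_iff.2 fun m => ?_, fun e => hq1 (Subtype.ext e).symm⟩
      exact mul_inv_eq_iff_eq_mul.1 (congrArg Subtype.val (hq (ConjAct.toConjAct m)))
    obtain ⟨w, hw, rfl⟩ := hqN
    refine ⟨w, hw, fun hwV => hq1 ((QuotientGroup.eq_one_iff w).2 hwV), ?_⟩
    set ā : W := ⟨a, Subgroup.mem_sup_right (Subgroup.mem_zpowers a)⟩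
    have h1 : (QuotientGroup.mk' ((omegaZ R).subgroupOf W)) (w⁻¹ * (ā * w * ā⁻¹)) = 1 := by
      rw [map_mul, map_mul, map_mul, Subgroup.mem_center_iff.1 hqc, map_inv, map_inv,
        mul_inv_cancel_right, inv_mul_cancel]
    exact (QuotientGroup.eq_one_iff (w⁻¹ * (ā * w * ā⁻¹))).1 h1
  obtain ⟨v₀, hv₀, hv₀1, hv₀a⟩ : ∃ v₀ ∈ omegaZ R, v₀ ≠ 1 ∧ ¬ Commute a v₀ := by
    by_contra hcon
    push Not at hcon
    refine haR (hb.centralizer_eq h ▸ Subgroup.mem_centralizer_iff.2 fun y hy => ?_)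
    rcases eq_or_ne y 1 with rfl | hy1
    · rw [one_mul, mul_one]
    exact (hcon y hy hy1).eq.symm
  obtain ⟨g₁, hg₁, hg₁V, hg₁a⟩ : ∃ g₁ ∈ R, g₁ ∉ omegaZ R ∧ Commute a g₁ := by
    set c := g₀⁻¹ * (a * g₀ * a⁻¹) with hc
    rcases eq_or_ne c 1 with hc1 | hc1
    · exact ⟨g₀, hg₀, hg₀V, mul_inv_eq_iff_eq_mul.1 (inv_mul_eq_one.1 hc1).symm⟩
    have hac : Commute a c := by
      refine mul_inv_eq_iff_eq_mul.1 ?_
      calc a * c * a⁻¹ = (a * g₀ * a⁻¹)⁻¹ * ((a * a) * g₀ * (a * a)⁻¹) := by rw [hc]; group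
        _ = c⁻¹ := by rw [ha2, hc]; group
        _ = c := inv_eq_of_mul_eq_one_right hc₀.2.2
    set d := v₀ * (a * v₀ * a⁻¹) with hd
    have hav : a * v₀ * a⁻¹ ∈ omegaZ R := conj_omegaZ haX hv₀
    have had : Commute a d := by
      show a * (v₀ * (a * v₀ * a⁻¹)) = v₀ * (a * v₀ * a⁻¹) * a
      calc a * (v₀ * (a * v₀ * a⁻¹)) = (a * v₀ * a⁻¹) * ((a * a) * v₀ * (a * a)⁻¹) * a := by group
        _ = (a * v₀ * a⁻¹) * v₀ * a := by rw [ha2]; group
        _ = _ := by rw [hb.omegaZ_comm hav hv₀]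
    have hd1 : d ≠ 1 := fun e => hv₀a (mul_inv_eq_iff_eq_mul.1
      ((eq_inv_of_mul_eq_one_right e).trans (inv_eq_of_mul_eq_one_right hv₀.2.2)))
    have hdz := hb.fix_unique h haR (mul_mem hv₀ hav) hd1 hz hz1 had haz
    have hcz := hb.fix_unique h haR hc₀ hc1 hz hz1 hac haz
    refine ⟨g₀ * v₀, mul_mem hg₀ hv₀.1, fun hm => hg₀V (by
      simpa using mul_mem hm (inv_mem hv₀)), mul_inv_eq_iff_eq_mul.1 ?_⟩
    calc a * (g₀ * v₀) * a⁻¹ = g₀ * c * (a * v₀ * a⁻¹) := by rw [hc]; group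
      _ = g₀ * (v₀ * (a * v₀ * a⁻¹) * (a * v₀ * a⁻¹)) := by
          rw [show c = v₀ * (a * v₀ * a⁻¹) from hcz.trans hdz.symm, mul_assoc]
      _ = g₀ * v₀ := by rw [mul_assoc v₀, hav.2.2, mul_one]
  obtain ⟨k, hk⟩ := exists_two_pow_of_mem hb.isPGroup hg₁
  have hg₁2 : g₁ ^ 2 ≠ 1 := fun e => hg₁V (hb.mem_omegaZ g₁ hg₁ (by rwa [← sq]))
  have hsq : g₁ ^ 2 ∈ R' := hb'.sq_mem hCX' (h a (orderOf_eq_prime (by rw [sq]; exact ha2) ha1))
    hR'C (Subgroup.mem_centralizer_singleton_iff.2 hg₁a.eq.symm)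
  obtain ⟨j, hj⟩ : ∃ j, k = j + 2 := by
    refine ⟨k - 2, ?_⟩
    have : ¬ orderOf g₁ ∣ 2 := fun hd => hg₁2 (orderOf_dvd_iff_pow_eq_one.1 hd)
    rw [hk] at this
    by_contra hlt
    exact this ((pow_dvd_pow 2 (show k ≤ 1 by omega)).trans (by norm_num))
  set w := (g₁ ^ 2) ^ 2 ^ j with hw
  have hwo : orderOf w = 2 := by
    refine orderOf_eq_prime ?_ ?_
    · rw [hw, ← pow_mul, ← pow_mul, show 2 * (2 ^ j * 2) = 2 ^ (j + 2) by ring, ← hj, ← hk,
        pow_orderOf_eq_one]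
    · rw [hw, ← pow_mul]
      refine pow_ne_one_of_lt_orderOf (by positivity) ?_
      rw [hk, hj, pow_add]
      have := Nat.one_le_two_pow (n := j)
      omega
  have hwV : w ∈ omegaZ R := hb.mem_omegaZ w (pow_mem (pow_mem hg₁ 2) _) (by
    rw [← sq, ← hwo, pow_orderOf_eq_one])
  have hwz : w = z := hb.fix_unique h haR hwV (fun e => by rw [e, orderOf_one] at hwo; omega) hz hz1
    ((hg₁a.pow_right 2).pow_right _) haz
  exact hzR' (hwz ▸ pow_mem hsq _)

/-- Some element of order two has centraliser of order four in a Sylow 2-subgroup. -/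
theorem Bad6.exists_centralizer_four (hO : Cfsg.pCore 2 G = ⊥) :
    ∃ (T : Sylow 2 G) (r : G), R ≤ (T : Subgroup G) ∧ 8 ≤ Nat.card (T : Subgroup G) ∧
      r ∈ (T : Subgroup G) ∧ orderOf r = 2 ∧
      Nat.card ↥((T : Subgroup G) ⊓ Subgroup.centralizer ({r} : Set G)) = 4 := by
  classical
  haveI : Fact (Nat.Prime 2) := ⟨Nat.prime_two⟩
  have hR4 := hb.card_eq_four h hO
  have hRV : R = omegaZ R := (Subgroup.eq_of_le_of_card_ge (fun z (hz : z ∈ omegaZ R) => hz.1)
    (by rw [hb.card_omegaZ, hR4])).symm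
  have hCR : Subgroup.centralizer (R : Set G) = R := by
    conv_lhs => rw [hRV]
    exact hb.centralizer_eq h
  obtain ⟨S, hS, hRS, hS2, hSc⟩ := hb.exists_sylow
  obtain ⟨P, hP⟩ := hS2.exists_le_sylow
  have hP8 : 8 ≤ Nat.card (P : Subgroup G) := by
    have := Subgroup.card_le_of_le hP
    rw [hSc, hR4] at this
    exact this
  have hPd : 2 ∣ Nat.card G := by
    obtain ⟨k, hk⟩ := IsPGroup.iff_card.1 P.2
    refine dvd_trans ?_ (Subgroup.card_subgroup_dvd_card (P : Subgroup G))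
    rw [hk] at hP8 ⊢
    exact dvd_pow_self 2 fun e => by rw [e] at hP8; norm_num at hP8
  obtain ⟨z, hzo, hzP, hzc⟩ := TwoGroups.exists_involution_commute hPd P
  have hzR : z ∈ R := hCR ▸ Subgroup.mem_centralizer_iff.2 fun y hy => (hzc y (hP (hRS hy))).eq
  obtain ⟨r, hr, hr1, hrz⟩ : ∃ r ∈ R, r ≠ 1 ∧ r ≠ z := by
    by_contra hcon
    push Not at hcon
    have hle := Set.ncard_le_ncard (show (R : Set G) ⊆ {1, z} from fun y hy => by
      rcases eq_or_ne y 1 with rfl | hy1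
      · exact Or.inl rfl
      · exact Or.inr (hcon y hy hy1)) (Set.toFinite _)
    rw [← Nat.card_coe_set_eq] at hle
    have h4 : Nat.card R ≤ 2 := hle.trans ((Set.ncard_insert_le _ _).trans (by simp))
    omega
  have hr2 : r * r = 1 := (hRV ▸ hr : r ∈ omegaZ R).2.2
  refine ⟨P, r, hRS.trans hP, hP8, hP (hRS hr), orderOf_eq_prime (by rw [sq]; exact hr2) hr1, ?_⟩
  rw [← hR4]
  refine congrArg (fun K : Subgroup G => Nat.card K) (le_antisymm ?_ (le_inf (hRS.trans hP) ?_))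
  · rintro y ⟨hyP, hyr⟩
    rw [← hCR]
    set D := R ⊓ Subgroup.centralizer ({y} : Set G)
    have hD : D = R := by
      have hsub : ({1, z, r} : Set G) ⊆ (D : Set G) := by
        rintro w (rfl | rfl | rfl)
        · exact one_mem _
        · exact ⟨hzR, Subgroup.mem_centralizer_singleton_iff.2 (hzc y hyP).eq.symm⟩
        · exact ⟨hr, Subgroup.mem_centralizer_singleton_iff.2
            (Subgroup.mem_centralizer_singleton_iff.1 hyr).symm⟩
      have h3 : 3 ≤ Nat.card D := by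
        have := Set.ncard_le_ncard hsub (Set.toFinite _)
        rw [Set.ncard_eq_three.2 ⟨1, z, r, fun e => by rw [← e, orderOf_one] at hzo; omega,
          Ne.symm hr1, Ne.symm hrz, rfl⟩, ← Nat.card_coe_set_eq] at this
        exact this
      have hd : Nat.card D ∣ 4 := hR4 ▸ Subgroup.card_dvd_of_le inf_le_left
      refine Subgroup.eq_of_le_of_card_ge inf_le_left ?_
      rw [hR4]
      have := Nat.le_of_dvd (by norm_num) hd
      interval_cases hn : Nat.card D <;> first | exact le_rfl | norm_num at hd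
    exact Subgroup.mem_centralizer_iff.2 fun w hw =>
      Subgroup.mem_centralizer_singleton_iff.1 (hD.ge hw).2
  · intro y hy
    exact Subgroup.mem_centralizer_singleton_iff.2
      (Subgroup.mem_centralizer_iff.1 (hCR.ge hy) r hr).symm

end CfsgLib.CIT
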