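import Cfsg.Agent.CIT.Global

/-!
First properties of a bad radical 2-subgroup with quotient `S₃`.
-/

set_option autoImplicit false

namespace CfsgLib.CIT

open CfsgLib.CITThreePrime

universe u

variable {G : Type u} [Group G] [Finite G] (h : InvCentTwo G) {R : Subgroup G} (hb : Bad6 R)

omit [Finite G] in
theorem conj_omegaZ {R : Subgroup G} {g : G} (hg : g ∈ Subgroup.normalizer (R : Set G)) {z : G}
    (hz : z ∈ omegaZ R) : g * z * g⁻¹ ∈ omegaZ R := by
  refine ⟨(Subgroup.mem_normalizer_iff.1 hg z).1 hz.1, Subgroup.mem_centralizer_iff.2 fun y hy => ?_,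
    by rw [show g * z * g⁻¹ * (g * z * g⁻¹) = g * (z * z) * g⁻¹ by group, hz.2.2]; group⟩
  have hy' : g⁻¹ * y * g ∈ R := by
    refine (Subgroup.mem_normalizer_iff.1 hg _).2 ?_
    rwa [show g * (g⁻¹ * y * g) * g⁻¹ = y by group]
  calc y * (g * z * g⁻¹) = g * ((g⁻¹ * y * g) * z) * g⁻¹ := by group
    _ = g * (z * (g⁻¹ * y * g)) * g⁻¹ := by rw [Subgroup.mem_centralizer_iff.1 hz.2.1 _ hy']
    _ = g * z * g⁻¹ * y := by group

theorem normalizer_le_normalizer_omegaZ (R : Subgroup G) :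
    Subgroup.normalizer (R : Set G) ≤ Subgroup.normalizer (omegaZ R : Set G) := fun g hg =>
  Subgroup.mem_normalizer_fintype (S := (omegaZ R : Set G)) fun _ hz => conj_omegaZ hg hz

include hb

omit [Finite G] in
theorem Bad6.omegaZ_comm {v w : G} (hv : v ∈ omegaZ R) (hw : w ∈ omegaZ R) : v * w = w * v :=
  Subgroup.mem_centralizer_iff.1 hw.2.1 v hv.1

omit [Finite G] in
theorem Bad6.isPGroup_omegaZ : IsPGroup 2 (omegaZ R) := fun z => ⟨1, Subtype.ext (by
  rw [pow_one, sq]; exact z.2.2.2)⟩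

omit [Finite G] in
theorem Bad6.omegaZ_ne_bot : omegaZ R ≠ ⊥ := fun e => by
  have := hb.card_omegaZ
  rw [e, Subgroup.card_bot] at this
  omega

theorem Bad6.four_le_card : 4 ≤ Nat.card R :=
  hb.card_omegaZ ▸ Subgroup.card_le_of_le fun _ hz => hz.1

theorem Bad6.ne_bot : R ≠ ⊥ := fun e => by
  have := hb.four_le_card
  rw [e, Subgroup.card_bot] at this
  omega

theorem Bad6.card_le_two {E : Subgroup G} (hE : E ≤ Subgroup.normalizer (R : Set G))
    (hE2 : IsPGroup 2 E) : Nat.card E ≤ 2 * Nat.card R ∧ Nat.card E ∣ 2 * Nat.card R := by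
  haveI : Fact (Nat.Prime 2) := ⟨Nat.prime_two⟩
  have h1 := Subgroup.card_dvd_of_le hE
  rw [hb.card_normalizer, show 6 * Nat.card R = 3 * (2 * Nat.card R) by ring] at h1
  obtain ⟨k, hk⟩ := IsPGroup.iff_card.1 hE2
  have h2 : Nat.card E ∣ 2 * Nat.card R := by
    rw [hk] at h1 ⊢
    exact (Nat.Coprime.pow_left k (by norm_num : Nat.Coprime 2 3)).dvd_of_dvd_mul_left h1
  exact ⟨Nat.le_of_dvd (by have := hb.four_le_card; omega) h2, h2⟩

/-- A 2-subgroup over `R` in the normaliser has its squares in `R`. -/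
theorem Bad6.sq_mem {E : Subgroup G} (hE : E ≤ Subgroup.normalizer (R : Set G))
    (hE2 : IsPGroup 2 E) (hRE : R ≤ E) {g : G} (hg : g ∈ E) : g ^ 2 ∈ R := by
  have h1 := (hb.card_le_two hE hE2).2
  rw [← Subgroup.card_mul_index (R.subgroupOf E),
    Nat.card_congr (Subgroup.subgroupOfEquivOfLe hRE).toEquiv, mul_comm 2] at h1
  have h2 := (Nat.mul_dvd_mul_iff_left (Nat.card_pos (α := R))).1 h1
  rcases (Nat.dvd_prime Nat.prime_two).1 h2 with h3 | h3
  · exact pow_mem (Subgroup.subgroupOf_eq_top.1 (Subgroup.index_eq_one.1 h3) hg) 2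
  · exact Subgroup.sq_mem_of_index_two h3 (⟨g, hg⟩ : E)

theorem Bad6.exists_sylow : ∃ S : Subgroup G, S ≤ Subgroup.normalizer (R : Set G) ∧ R ≤ S ∧
    IsPGroup 2 S ∧ Nat.card S = 2 * Nat.card R := by
  haveI : Fact (Nat.Prime 2) := ⟨Nat.prime_two⟩
  obtain ⟨k, hk⟩ := IsPGroup.iff_card.1 hb.isPGroup
  obtain ⟨S₀, hS₀⟩ := Sylow.exists_subgroup_card_pow_prime (G := Subgroup.normalizer (R : Set G)) 2
    (n := k + 1) (by rw [hb.card_normalizer, hk, pow_succ]; exact ⟨3, by ring⟩)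
  set S := S₀.map (Subgroup.normalizer (R : Set G)).subtype with hS
  have hSc : Nat.card S = 2 * Nat.card R := by
    rw [hS, Subgroup.card_map_of_injective Subtype.val_injective, hS₀, hk, pow_succ, mul_comm]
  have hS2 : IsPGroup 2 S := IsPGroup.of_card (n := k + 1) (by rw [hSc, hk, pow_succ, mul_comm])
  have hSle : S ≤ Subgroup.normalizer (R : Set G) := Subgroup.map_subtype_le _
  refine ⟨S, hSle, ?_, hS2, hSc⟩
  have hle := (hb.card_le_two (sup_le hSle Subgroup.le_normalizer)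
    (hS2.to_sup_of_normal_right' hb.isPGroup hSle)).1
  rw [← hSc] at hle
  exact le_sup_right.trans (Subgroup.eq_of_le_of_card_ge le_sup_left hle).ge

theorem Bad6.exists_three : ∃ x ∈ Subgroup.normalizer (R : Set G), orderOf x = 3 := by
  haveI : Fact (Nat.Prime 3) := ⟨Nat.prime_three⟩
  obtain ⟨x, hx⟩ := exists_prime_orderOf_dvd_card' (G := Subgroup.normalizer (R : Set G)) 3
    (by rw [hb.card_normalizer]; exact ⟨2 * Nat.card R, by ring⟩)
  exact ⟨x, x.2, by rw [Subgroup.orderOf_coe]; exact hx⟩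

include h

/-- `C(V) = R`. -/
theorem Bad6.centralizer_eq : Subgroup.centralizer (omegaZ R : Set G) = R := by
  have hle : R ≤ Subgroup.centralizer (omegaZ R : Set G) := fun r hr =>
    Subgroup.mem_centralizer_iff.2 fun z hz => (Subgroup.mem_centralizer_iff.1 hz.2.1 r hr).symm
  refine le_antisymm ?_ hle
  have hC := centralizer_isPGroup h hb.isPGroup_omegaZ hb.omegaZ_ne_bot
  by_contra hne
  obtain ⟨y, hy, hyN, hyR⟩ := exists_gt_normalizer hC hle (fun e => hne e.ge)
  refine hyR (hb.le_self (Subgroup.centralizer (omegaZ R : Set G) ⊓ Subgroup.normalizer (R : Set G))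
    inf_le_right (fun g hg => Subgroup.mem_normalizer_fintype (S := ((Subgroup.centralizer
      (omegaZ R : Set G) ⊓ Subgroup.normalizer (R : Set G) : Subgroup G) : Set G)) fun c hc =>
      ⟨Subgroup.mem_centralizer_iff.2 fun z hz => ?_,
        Subgroup.mul_mem _ (Subgroup.mul_mem _ hg hc.2) (Subgroup.inv_mem _ hg)⟩)
    (hC.to_le inf_le_left) ⟨hy, hyN⟩)
  have hz' : g⁻¹ * z * g ∈ omegaZ R := by simpa using conj_omegaZ (Subgroup.inv_mem _ hg) hz
  calc z * (g * c * g⁻¹) = g * ((g⁻¹ * z * g) * c) * g⁻¹ := by group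
    _ = g * (c * (g⁻¹ * z * g)) * g⁻¹ := by rw [Subgroup.mem_centralizer_iff.1 hc.1 _ hz']
    _ = g * c * g⁻¹ * z := by group

theorem Bad6.normalizer_omegaZ_eq :
    Subgroup.normalizer (omegaZ R : Set G) = Subgroup.normalizer (R : Set G) := by
  refine le_antisymm (fun g hg => ?_) (normalizer_le_normalizer_omegaZ R)
  refine Subgroup.mem_normalizer_fintype (S := (R : Set G)) fun r hr => ?_
  show g * r * g⁻¹ ∈ R
  rw [← hb.centralizer_eq h]
  refine Subgroup.mem_centralizer_iff.2 fun z hz => ?_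
  have hz' : g⁻¹ * z * g ∈ omegaZ R := by
    refine (Subgroup.mem_normalizer_iff.1 hg _).2 ?_
    rwa [show g * (g⁻¹ * z * g) * g⁻¹ = z by group]
  calc z * (g * r * g⁻¹) = g * ((g⁻¹ * z * g) * r) * g⁻¹ := by group
    _ = g * (r * (g⁻¹ * z * g)) * g⁻¹ := by rw [Subgroup.mem_centralizer_iff.1 hz'.2.1 r hr]
    _ = g * r * g⁻¹ * z := by group

omit hb in
theorem commute_three_eq_one {z x : G} (hz2 : z * z = 1) (hx : orderOf x = 3) (hzx : Commute z x) :
    z = 1 := by
  by_contra hz1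
  have := h.eq_one_of_commute Nat.prime_three (by norm_num) (k := 1)
    (by rw [pow_one]; exact orderOf_eq_prime (by rw [sq]; exact hz2) hz1) hz1 (a := 1)
    (by rw [hx, pow_one]) hzx
  rw [this, orderOf_one] at hx
  omega

/-- The normaliser is transitive on `V#`. -/
theorem Bad6.exists_conj {v w : G} (hv : v ∈ omegaZ R) (hv1 : v ≠ 1) (hw : w ∈ omegaZ R)
    (hw1 : w ≠ 1) : ∃ g ∈ Subgroup.normalizer (R : Set G), g * v * g⁻¹ = w := by
  classical
  obtain ⟨x, hxN, hx⟩ := hb.exists_three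
  set a := x * v * x⁻¹ with ha
  set b := x * a * x⁻¹ with hb'
  have hva : a ≠ v := fun e => hv1 (commute_three_eq_one h hv.2.2 hx (mul_inv_eq_iff_eq_mul.1 e).symm)
  have hx3 : x ^ 3 = 1 := by rw [← hx]; exact pow_orderOf_eq_one x
  have hab : b ≠ a := fun e => hva (mul_left_cancel (mul_right_cancel e))
  have hvb : b ≠ v := fun e => by
    refine hva ?_
    calc a = x * v * x⁻¹ := rfl
      _ = x * b * x⁻¹ := by rw [e]
      _ = (x * x * x) * v * (x * x * x)⁻¹ := by rw [hb', ha]; group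
      _ = v := by rw [← pow_three', hx3]; group
  have hamem : a ∈ omegaZ R := conj_omegaZ hxN hv
  have hbmem : b ∈ omegaZ R := conj_omegaZ hxN hamem
  have hsub : ({v, a, b} : Set G) ⊆ (omegaZ R : Set G) \ {1} := by
    rintro y (rfl | rfl | rfl)
    · exact ⟨hv, hv1⟩
    · exact ⟨hamem, fun e => hv1 (conj_eq_one_iff.1 e)⟩
    · exact ⟨hbmem, fun e => hv1 (conj_eq_one_iff.1 (conj_eq_one_iff.1 e))⟩
  have hcard : ((omegaZ R : Set G) \ {1}).ncard = 3 := by
    rw [Set.ncard_sdiff (Set.singleton_subset_iff.2 (omegaZ R).one_mem), Set.ncard_singleton,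
      ← Nat.card_coe_set_eq]
    show Nat.card (omegaZ R) - 1 = 3
    rw [hb.card_omegaZ]
  have heq := Set.eq_of_subset_of_ncard_le hsub (by
    rw [hcard, Set.ncard_eq_three.2 ⟨v, a, b, hva.symm, hvb.symm, hab.symm, rfl⟩]) (Set.toFinite _)
  have : w ∈ ({v, a, b} : Set G) := heq ▸ ⟨hw, hw1⟩
  rcases this with rfl | rfl | rfl
  · exact ⟨1, one_mem _, by group⟩
  · exact ⟨x, hxN, rfl⟩
  · exact ⟨x * x, mul_mem hxN hxN, by rw [hb', ha]; group⟩

omit h in
/-- An element of square one in the normaliser fixes an involution of `V`. -/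
theorem Bad6.exists_fix {a : G} (haN : a ∈ Subgroup.normalizer (R : Set G)) (ha : a * a = 1) :
    ∃ v ∈ omegaZ R, v ≠ 1 ∧ Commute a v := by
  obtain ⟨v, hv, hv1⟩ := (Subgroup.bot_or_exists_ne_one _).resolve_left hb.omegaZ_ne_bot
  have hv' : a * v * a⁻¹ ∈ omegaZ R := conj_omegaZ haN hv
  by_cases hfix : v * (a * v * a⁻¹) = 1
  · exact ⟨v, hv, hv1, mul_inv_eq_iff_eq_mul.1
      ((eq_inv_of_mul_eq_one_right hfix).trans (inv_eq_of_mul_eq_one_right hv.2.2))⟩
  · refine ⟨_, mul_mem hv hv', hfix, ?_⟩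
    show a * (v * (a * v * a⁻¹)) = v * (a * v * a⁻¹) * a
    calc a * (v * (a * v * a⁻¹)) = (a * v * a⁻¹) * ((a * a) * v * (a * a)⁻¹) * a := by group
      _ = (a * v * a⁻¹) * v * a := by rw [ha]; group
      _ = _ := by rw [hb.omegaZ_comm hv' hv]

/-- An element outside `R` fixes at most one involution of `V`. -/
theorem Bad6.fix_unique {a z w : G} (haR : a ∉ R) (hz : z ∈ omegaZ R) (hz1 : z ≠ 1)
    (hw : w ∈ omegaZ R) (hw1 : w ≠ 1) (hza : Commute a z) (hwa : Commute a w) : z = w := by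
  by_contra hne
  refine haR (hb.centralizer_eq h ▸ ?_)
  set C := omegaZ R ⊓ Subgroup.centralizer ({a} : Set G)
  have hzC : z ∈ C := ⟨hz, Subgroup.mem_centralizer_singleton_iff.2 hza.eq.symm⟩
  have hwC : w ∈ C := ⟨hw, Subgroup.mem_centralizer_singleton_iff.2 hwa.eq.symm⟩
  have hsub : ({1, z, w} : Set G) ⊆ (C : Set G) := by
    rintro y (rfl | rfl | rfl)
    exacts [one_mem _, hzC, hwC]
  have h3 : 3 ≤ Nat.card C := by
    have := Set.ncard_le_ncard hsub (Set.toFinite _)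
    rw [Set.ncard_eq_three.2 ⟨1, z, w, Ne.symm hz1, Ne.symm hw1, hne, rfl⟩, ← Nat.card_coe_set_eq] at this
    exact this
  have hd : Nat.card C ∣ 4 := hb.card_omegaZ ▸ Subgroup.card_dvd_of_le inf_le_left
  have h4 : Nat.card C = 4 := by
    have := Nat.le_of_dvd (by norm_num) hd
    interval_cases hn : Nat.card C <;> first | rfl | norm_num at hd
  have hCV : C = omegaZ R := Subgroup.eq_of_le_of_card_ge inf_le_left (by rw [h4, hb.card_omegaZ])
  exact Subgroup.mem_centralizer_iff.2 fun y hy =>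
    Subgroup.mem_centralizer_singleton_iff.1 (hCV.ge hy).2

/-- Fixed points in `R` of an involution outside `R`. -/
theorem Bad6.card_fix_sq {a : G} (haN : a ∈ Subgroup.normalizer (R : Set G)) (haR : a ∉ R)
    (ha : a * a = 1) : Nat.card ↥(R ⊓ Subgroup.centralizer ({a} : Set G)) ^ 2 ≤ Nat.card R := by
  classical
  haveI : Fact (Nat.Prime 2) := ⟨Nat.prime_two⟩
  set H := Subgroup.normalizer (R : Set G) with hH
  obtain ⟨x, p, hp, hp2, hxo, hax⟩ := exists_inverted (G := H) (a := ⟨a, haN⟩) (fun hmem => haR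
    (hb.le_self (Cfsg.pCoreOf 2 H) pCoreOf_le le_normalizer_pCoreOf isPGroup_pCoreOf
      ⟨⟨a, haN⟩, hmem, rfl⟩)) (Subtype.ext ha)
  have hp3 : p = 3 := by
    have h1 : p ∣ Nat.card H := hxo ▸ orderOf_dvd_natCard x
    obtain ⟨k, hk⟩ := IsPGroup.iff_card.1 hb.isPGroup
    rw [hH, hb.card_normalizer, hk, show 6 * 2 ^ k = 3 * 2 ^ (k + 1) by ring] at h1
    rcases hp.dvd_mul.1 h1 with h1 | h1
    · exact (Nat.prime_dvd_prime_iff_eq hp Nat.prime_three).1 h1
    · exact absurd ((Nat.prime_dvd_prime_iff_eq hp Nat.prime_two).1 (hp.dvd_of_dvd_pow h1)) hp2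
  rw [hp3, ← Subgroup.orderOf_coe] at hxo
  have hax' : a * (x : G) * a⁻¹ = (x : G)⁻¹ := congrArg Subtype.val hax
  have hx3 : (x : G) ^ 3 = 1 := by rw [← hxo]; exact pow_orderOf_eq_one _
  set A := R ⊓ Subgroup.centralizer ({a} : Set G)
  have hmemR : ∀ r ∈ R, (x : G) * r * (x : G)⁻¹ ∈ R := fun r hr =>
    (Subgroup.mem_normalizer_iff.1 x.2 r).1 hr
  have hinj : Function.Injective (fun z : A × A =>
      (⟨(z.1 : G) * ((x : G) * z.2 * (x : G)⁻¹), mul_mem z.1.2.1 (hmemR _ z.2.2.1)⟩ : R)) := by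
    rintro ⟨⟨y, hy⟩, ⟨z, hz⟩⟩ ⟨⟨y', hy'⟩, ⟨z', hz'⟩⟩ e
    have e' : y * ((x : G) * z * (x : G)⁻¹) = y' * ((x : G) * z' * (x : G)⁻¹) := congrArg Subtype.val e
    set d := y'⁻¹ * y with hd
    have hd1 : d = (x : G) * (z' * z⁻¹) * (x : G)⁻¹ := by
      rw [hd, eq_comm, eq_inv_mul_iff_mul_eq]
      calc y' * ((x : G) * (z' * z⁻¹) * (x : G)⁻¹)
          = y' * ((x : G) * z' * (x : G)⁻¹) * ((x : G) * z * (x : G)⁻¹)⁻¹ := by group
        _ = _ := by rw [← e', mul_inv_cancel_right]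
    have hdA : d ∈ A := mul_mem (inv_mem hy') hy
    have c1 : Commute d a := Subgroup.mem_centralizer_singleton_iff.1 hdA.2
    have c2 : Commute d ((x : G) * a * (x : G)⁻¹) := by
      rw [hd1]
      exact (show Commute (z' * z⁻¹) a from Subgroup.mem_centralizer_singleton_iff.1
        (mul_mem hz' (inv_mem hz) : z' * z⁻¹ ∈ A).2).map (MulAut.conj (x : G)).toMonoidHom
    have e3 : a * ((x : G) * a * (x : G)⁻¹) = x := by
      calc a * ((x : G) * a * (x : G)⁻¹) = (a * x * a⁻¹) * (a * a) * (x : G)⁻¹ := by group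
        _ = x := by
          rw [hax', ha, mul_one, ← mul_inv_rev, ← sq]
          exact inv_eq_of_mul_eq_one_right (by rw [← pow_succ]; exact hx3)
    have hdone : d = 1 := by
      by_contra hd0
      obtain ⟨k, hk⟩ := exists_two_pow_of_mem hb.isPGroup hdA.1
      have := h.eq_one_of_commute Nat.prime_three (by norm_num) hk hd0 (a := 1)
        (by rw [hxo, pow_one]) (e3 ▸ c1.mul_right c2)
      rw [this, orderOf_one] at hxo
      omega
    have hyy : y = y' := (inv_mul_eq_one.1 hdone).symm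
    subst hyy
    exact Prod.ext rfl (Subtype.ext (mul_left_cancel (mul_right_cancel (mul_left_cancel e'))))
  have := Nat.card_le_card_of_injective _ hinj
  rwa [Nat.card_prod, ← sq] at this

end CfsgLib.CIT
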