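import Cfsg.Agent.CIT.BadQCoord

/-!
The kinds of bad radical 2-subgroups, by the quotient of the normaliser.
-/

set_option autoImplicit false

namespace CfsgLib.CIT

open CfsgLib.CITThreePrime

universe u

variable {G : Type u} [Group G] [Finite G]

/-- The admissible quotients: solvable, tame, or `SL₂(q)` with `q ≥ 4` even. -/
def GoodQuot (K : Type u) [Group K] : Prop :=
  Group.IsSolvable K ∨ Tame K ∨
    ∃ (F : Type) (_ : Field F) (_ : Fintype F) (_ : CharP F 2),
      4 ≤ Fintype.card F ∧ Nonempty (K ≃* Matrix.SpecialLinearGroup (Fin 2) F)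

/-- Every quotient of a radical normaliser is admissible. -/
def GoodSections (G : Type u) [Group G] : Prop :=
  ∀ R : Subgroup G, Radical R → GoodQuot (Subgroup.normalizer (R : Set G) ⧸
    Cfsg.pCore 2 (Subgroup.normalizer (R : Set G)))

theorem bad_cases (h : InvCentTwo G) (hsec : GoodSections G) {R S : Subgroup G} (hR : Radical R)
    (hS : Maximal (fun E : Subgroup G => E ≤ Subgroup.normalizer (R : Set G) ∧ IsPGroup 2 E) S)
    (hbad : ¬ Cfsg.thompsonSubgroupOf 2 S ≤ R) :
    Bad6 R ∨ ∃ q, 4 ≤ q ∧ BadQ R q := by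
  classical
  haveI : Fact (Nat.Prime 2) := ⟨Nat.prime_two⟩
  rcases hsec R hR with hsol | htame | ⟨F, _, _, _, hF, ⟨e⟩⟩
  rotate_left 2
  · exact Or.inr ⟨_, hF, badQ_of_sl_two h hR hS hbad e⟩
  all_goals
    obtain ⟨hR1, hRQ⟩ := hR
    set H := Subgroup.normalizer (R : Set G)
    set Q := Cfsg.pCore 2 H with hQdef
    have hmapQ : Q.map H.subtype = R := hRQ
    have hQ : Q ≠ ⊥ := fun e => hR1 (by rw [← hmapQ, e, Subgroup.map_bot])
    have hQS' : Q ≤ S.subgroupOf H := fun z hz =>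
      pCoreOf_le_of_maximal hS (show (z : G) ∈ Cfsg.pCoreOf 2 H from ⟨z, hz, rfl⟩)
    have hmapS : (S.subgroupOf H).map H.subtype = S :=
      (Subgroup.subgroupOf_map_subtype _ _).trans (inf_eq_left.2 hS.1.1)
    have hH : InvCentTwo H := h.of_injective H.subtype Subtype.val_injective
    have hbad' : ¬ Cfsg.thompsonSubgroupOf 2 (S.subgroupOf H) ≤ Q := fun hle => hbad (by
      have := Subgroup.map_mono (f := H.subtype) hle
      rwa [← LocalP.thompsonSubgroupOf_map H.subtype Subtype.val_injective, hmapS, hmapQ] at this)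
  · obtain ⟨h4, h6, hinv⟩ := bad_six_of_isSolvable hH hQ hsol hQS' hbad'
    have hcardQ : Nat.card Q = Nat.card R := by
      rw [← hmapQ, Subgroup.card_map_of_injective Subtype.val_injective]
    refine Or.inl ⟨hmapQ ▸ (Constrained.isPGroup_pCore (p := 2)).map _, ?_, ?_, fun w hw hw2 => ?_,
      fun E h1 h2 h3 => (le_pCoreOf h1 h2 h3).trans hRQ.le⟩
    · rw [← hmapQ, ← map_omegaZ, Subgroup.card_map_of_injective Subtype.val_injective, h4]
    · rw [← hcardQ, ← h6, Subgroup.index_mul_card]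
    · rw [← hmapQ] at hw
      obtain ⟨z, hz, rfl⟩ := hw
      rw [← hmapQ, ← map_omegaZ]
      exact ⟨z, hinv z hz (Subtype.ext hw2), rfl⟩
  · exact absurd (thompson_le_pCore_of_tame hH hQ htame hQS') hbad'

/-- No bad radical subgroup, or one of the two kinds. -/
theorem noBad_or_bad (h : InvCentTwo G) (hsec : GoodSections G) :
    NoBad G ∨ (∃ R : Subgroup G, Bad6 R) ∨ ∃ (R : Subgroup G) (q : ℕ), 4 ≤ q ∧ BadQ R q := by
  by_cases hnb : NoBad G
  · exact Or.inl hnb
  refine Or.inr ?_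
  simp only [NoBad, not_forall] at hnb
  obtain ⟨R, hR, S, hS, hbad⟩ := hnb
  rcases bad_cases h hsec hR hS hbad with h6 | ⟨q, hq, hbq⟩
  · exact Or.inl ⟨R, h6⟩
  · exact Or.inr ⟨R, q, hq, hbq⟩

end CfsgLib.CIT
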