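import Cfsg.Agent.SL2.Sylow
import Cfsg.Agent.Classical.Linear.Card

/-!
Two-subgroups of `SL₂(2ⁿ)`.
-/

set_option autoImplicit false

namespace CfsgLib.CIT

open CfsgLib.SL2

variable {F : Type*} [Field F] [Fintype F] [CharP F 2]

local notation "SL₂" => Matrix.SpecialLinearGroup (Fin 2) F

/-- A 2-subgroup lies in a conjugate of `U`. -/
theorem exists_conj_le_U {E : Subgroup SL₂} (hE : IsPGroup 2 E) :
    ∃ c : SL₂, ∀ e ∈ E, ∃ t : F, c⁻¹ * e * c = u t := by
  haveI : Fact (Nat.Prime 2) := ⟨Nat.prime_two⟩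
  obtain ⟨P, hP⟩ := hE.exists_le_sylow
  obtain ⟨c, hc⟩ := exists_conj_uSylow P
  refine ⟨c, fun e he => ?_⟩
  have h1 : e ∈ (P : Subgroup SL₂) := hP he
  rw [hc] at h1
  obtain ⟨y, hy, rfl⟩ := h1
  obtain ⟨t, rfl⟩ := mem_U.1 hy
  exact ⟨t, show c⁻¹ * (c * u t * c⁻¹) * c = u t by group⟩

theorem u_mul_self (t : F) : u t * u t = (1 : SL₂) := by
  rw [← u_add, CharTwo.add_self_eq_zero, u_zero]

/-- 2-elements square to one. -/
theorem mul_self_of_two_pow {g : SL₂} {k : ℕ} (hg : orderOf g = 2 ^ k) : g * g = 1 := by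
  haveI : Fact (Nat.Prime 2) := ⟨Nat.prime_two⟩
  obtain ⟨c, hc⟩ := exists_conj_le_U (IsPGroup.of_card (n := k) (by rw [Nat.card_zpowers, hg]) :
    IsPGroup 2 (Subgroup.zpowers g))
  obtain ⟨t, ht⟩ := hc g (Subgroup.mem_zpowers g)
  calc g * g = c * ((c⁻¹ * g * c) * (c⁻¹ * g * c)) * c⁻¹ := by group
    _ = 1 := by rw [ht, u_mul_self]; group

theorem card_two_subgroup_le {E : Subgroup SL₂} (hE : IsPGroup 2 E) :
    Nat.card E ≤ Fintype.card F := by
  obtain ⟨c, hc⟩ := exists_conj_le_U hE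
  choose f hf using hc
  rw [← Nat.card_eq_fintype_card]
  refine Nat.card_le_card_of_injective (fun e : E => f e.1 e.2) fun a b h => Subtype.ext ?_
  have h1 : c⁻¹ * (a : SL₂) * c = c⁻¹ * (b : SL₂) * c := by
    rw [hf a.1 a.2, hf b.1 b.2]; exact congrArg u h
  exact mul_left_cancel (mul_right_cancel h1)

theorem w_mul_self : (w : SL₂) * w = 1 := by rw [w_mul_w, neg_one_eq_one]

/-- `w u(1)` has order three. -/
theorem orderOf_w_mul_u : orderOf ((w : SL₂) * u 1) = 3 := by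
  haveI : Fact (Nat.Prime 3) := ⟨Nat.prime_three⟩
  have h2 : (2 : F) = 0 := CharTwo.two_eq_zero
  refine orderOf_eq_prime (p := 3) ?_ ?_
  · rw [pow_succ, pow_two]
    apply ext4 <;>
      simp [Matrix.mul_apply, Fin.sum_univ_two] <;> linear_combination h2
  · intro e
    have := congrArg (fun g : SL₂ => g 0 0) e
    simp [Matrix.mul_apply, Fin.sum_univ_two] at this

theorem one_lt_card_sq : 3 ≤ Fintype.card F ^ 2 - 1 := by
  have := Fintype.one_lt_card (α := F)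
  have : 2 ^ 2 ≤ Fintype.card F ^ 2 := Nat.pow_le_pow_left this 2
  omega

theorem card_sl_even : Nat.card SL₂ = Fintype.card F * (Fintype.card F ^ 2 - 1) :=
  CfsgLib.Classical.Linear.card_sl_two

theorem odd_sq_sub_one : Odd (Fintype.card F ^ 2 - 1) := by
  obtain ⟨n, -, hn⟩ := FiniteField.card F 2
  refine Nat.Even.sub_odd (Nat.one_le_pow _ _ Fintype.card_pos) ?_ odd_one
  rw [hn, ← pow_mul]
  exact Nat.even_pow.2 ⟨even_two, Nat.mul_ne_zero n.pos.ne' two_ne_zero⟩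

end CfsgLib.CIT
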