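import Cfsg.Agent.CIT.Bad
import Cfsg.Agent.CIT.SLTwoEven

/-!
A radical 2-subgroup with `SL₂(q)` on top and with an offender.
-/

set_option autoImplicit false

namespace CfsgLib.CIT

open CfsgLib.CITThreePrime

universe u

variable {G : Type u} [Group G] [Finite G]

/-- A radical 2-subgroup `R` with `N(R)/R ≅ SL₂(q)`, `|Ω₁(Z(R))| = q²`, and an elementary abelian
subgroup of order at least `q²` outside. -/
structure BadQ (R : Subgroup G) (q : ℕ) : Prop where
  isPGroup : IsPGroup 2 R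
  card_omegaZ : Nat.card (omegaZ R) = q ^ 2
  card_normalizer : Nat.card (Subgroup.normalizer (R : Set G)) = q * (q ^ 2 - 1) * Nat.card R
  mem_omegaZ : ∀ w ∈ R, w * w = 1 → w ∈ omegaZ R
  le_self : ∀ E : Subgroup G, E ≤ Subgroup.normalizer (R : Set G) →
    Subgroup.normalizer (R : Set G) ≤ Subgroup.normalizer (E : Set G) → IsPGroup 2 E → E ≤ R
  exists_quot : ∃ (F : Type) (_ : Field F) (_ : Fintype F) (_ : CharP F 2)
    (φ : Subgroup.normalizer (R : Set G) →* Matrix.SpecialLinearGroup (Fin 2) F),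
    Fintype.card F = q ∧ Function.Surjective φ ∧ φ.ker = R.subgroupOf (Subgroup.normalizer (R : Set G))
  exists_elementary : ∃ A : Subgroup G, A ≤ Subgroup.normalizer (R : Set G) ∧
    Cfsg.IsElementaryAbelian 2 A ∧ ¬ A ≤ R ∧ q ^ 2 ≤ Nat.card A

theorem card_sup_dvd_mul {X : Type*} [Group X] [Finite X] {A B : Subgroup X}
    (h : A ≤ Subgroup.normalizer (B : Set X)) :
    Nat.card ↥(A ⊔ B) ∣ Nat.card A * Nat.card B := by
  haveI : (B.subgroupOf (A ⊔ B)).Normal :=
    (Subgroup.normal_subgroupOf_iff_le_normalizer le_sup_right).2 (sup_le h Subgroup.le_normalizer)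
  have h1 := Subgroup.relIndex_mul_relIndex ⊥ B (A ⊔ B) bot_le le_sup_right
  rw [Subgroup.relIndex_bot_left, Subgroup.relIndex_bot_left] at h1
  have h2 : B.relIndex (A ⊔ B) = B.relIndex A := by
    have h3 := Subgroup.relIndex_sup_right (A.subgroupOf (A ⊔ B)) (B.subgroupOf (A ⊔ B))
    rwa [← Subgroup.subgroupOf_sup le_sup_left le_sup_right, Subgroup.relIndex_subgroupOf le_rfl,
      Subgroup.relIndex_subgroupOf le_sup_left] at h3
  rw [← h1, h2, mul_comm]
  exact Nat.mul_dvd_mul_right (Subgroup.relIndex_dvd_card _ _) _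

theorem badQ_of_sl_two (h : InvCentTwo G) {R S : Subgroup G} (hR : Radical R)
    (hS : Maximal (fun E : Subgroup G => E ≤ Subgroup.normalizer (R : Set G) ∧ IsPGroup 2 E) S)
    (hbad : ¬ Cfsg.thompsonSubgroupOf 2 S ≤ R) {F : Type} [Field F] [Fintype F] [CharP F 2]
    (e : (Subgroup.normalizer (R : Set G) ⧸ Cfsg.pCore 2 (Subgroup.normalizer (R : Set G))) ≃*
      Matrix.SpecialLinearGroup (Fin 2) F) :
    BadQ R (Fintype.card F) := by
  classical
  haveI : Fact (Nat.Prime 2) := ⟨Nat.prime_two⟩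
  obtain ⟨hR1, hRQ⟩ := hR
  set H := Subgroup.normalizer (R : Set G)
  set Q := Cfsg.pCore 2 H with hQdef
  set π := QuotientGroup.mk' Q
  have hmapQ : Q.map H.subtype = R := hRQ
  have hQp : IsPGroup 2 Q := Constrained.isPGroup_pCore
  have hQ : Q ≠ ⊥ := fun e => hR1 (by rw [← hmapQ, e, Subgroup.map_bot])
  have hRp : IsPGroup 2 R := hmapQ ▸ hQp.map _
  have hQS' : Q ≤ S.subgroupOf H := fun z hz =>
    pCoreOf_le_of_maximal hS (show (z : G) ∈ Cfsg.pCoreOf 2 H from ⟨z, hz, rfl⟩)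
  have hmapS : (S.subgroupOf H).map H.subtype = S :=
    (Subgroup.subgroupOf_map_subtype _ _).trans (inf_eq_left.2 hS.1.1)
  have hH : InvCentTwo H := h.of_injective H.subtype Subtype.val_injective
  have hbad' : ¬ Cfsg.thompsonSubgroupOf 2 (S.subgroupOf H) ≤ Q := fun hle => hbad (by
    have := Subgroup.map_mono (f := H.subtype) hle
    rwa [← LocalP.thompsonSubgroupOf_map H.subtype Subtype.val_injective, hmapS, hmapQ] at this)
  obtain ⟨A, hA, a, ha, haQ, hle₀⟩ := exists_offender hH hQ hQS' hbad'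
  have hle : Nat.card (omegaZ Q) ≤ Nat.card (A.map π) ^ 2 := hle₀
  set q := Fintype.card F with hq
  have ha2 : a * a = 1 := by rw [← sq]; exact ((LocalP.isElementaryAbelian_iff).1 hA.2.1).2 a ha
  -- the image of the offender
  have hAb : Nat.card (A.map π) ≤ Fintype.card F := by
    rw [← Subgroup.card_map_of_injective (f := e.toMonoidHom) e.injective]
    exact card_two_subgroup_le ((LocalP.isPGroup_of_isElementaryAbelian hA.2.1).map π |>.map _)
  have hKc : Nat.card (H ⧸ Q) = q * (q ^ 2 - 1) := (Nat.card_congr e.toEquiv).trans card_sl_even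
  have hV2 : ∀ z ∈ omegaZ Q, z * z = 1 := fun z hz => (mem_omegaZ.1 hz).2.2
  have hVgt : 1 < Nat.card (omegaZ Q) := (Subgroup.one_lt_card_iff_ne_bot _).2 (omegaZ_ne_bot hQp hQ)
  have hV : Nat.card (omegaZ Q) = q ^ 2 := by
    have h1 : q ^ 2 - 1 ≤ Nat.card (omegaZ Q) - 1 := Nat.le_of_dvd (by omega) (hH.dvd_card_sub_one (omegaZ Q) hV2 odd_sq_sub_one
      ((hKc ▸ dvd_mul_left (q ^ 2 - 1) q).trans (Subgroup.card_quotient_dvd_card _)))
    have h2 : Nat.card (omegaZ Q) ≤ q ^ 2 := hle.trans (Nat.pow_le_pow_left hAb 2)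
    omega
  -- an element of order three inverted by `a`
  obtain ⟨x, hx, hax⟩ : ∃ x : H, orderOf x = 3 ∧ a * x * a⁻¹ = x⁻¹ := by
    have han : π a ≠ 1 := fun e1 => haQ ((QuotientGroup.eq_one_iff a).1 e1)
    have han2 : e (π a) * e (π a) = 1 := by rw [← map_mul, ← map_mul, ha2, map_one, map_one]
    -- conjugate the image into `U`
    obtain ⟨c, hc⟩ := exists_conj_le_U (E := Subgroup.zpowers (e (π a))) (IsPGroup.of_card (n := 1) (by
      rw [Nat.card_zpowers, pow_one]
      exact orderOf_eq_prime (by rw [sq]; exact han2)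
        (fun e1 => han (e.injective (e1.trans e.map_one.symm)))))
    obtain ⟨t, ht⟩ := hc _ (Subgroup.mem_zpowers _)
    have ht0 : t ≠ 0 := fun e0 => han (e.injective (by
      rw [map_one, show e (π a) = c * (c⁻¹ * e (π a) * c) * c⁻¹ by group, ht, e0, SL2.u_zero]; group))
    obtain ⟨s, hs⟩ : ∃ s : F, s * s = t := by
      obtain ⟨s, hs⟩ := (frobeniusEquiv F 2).surjective t
      exact ⟨s, (sq s).symm.trans hs⟩
    have hs0 : s ≠ 0 := fun e0 => ht0 (by rw [← hs, e0, mul_zero])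
    let d := SL2.d (Units.mk0 s hs0)
    let m := c * d
    have hm : m⁻¹ * e (π a) * m = SL2.u 1 := by
      show (c * d)⁻¹ * e (π a) * (c * d) = _
      rw [show (c * d)⁻¹ * e (π a) * (c * d) = d⁻¹ * (c⁻¹ * e (π a) * c) * d⁻¹⁻¹ by group, ht,
        show d⁻¹ = SL2.d (Units.mk0 s hs0)⁻¹ from (map_inv _ _).symm, SL2.d_conj_u]
      congr 1
      rw [Units.val_inv_eq_inv_val, Units.val_mk0, ← hs]
      field_simp
    set y := m * ((SL2.w : Matrix.SpecialLinearGroup (Fin 2) F) * SL2.u 1) * m⁻¹ with hy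
    have hyo : orderOf y = 3 := by rw [hy, StronglyEmbedded.orderOf_conj, orderOf_w_mul_u]
    have hyinv : e (π a) * y * (e (π a))⁻¹ = y⁻¹ := by
      rw [show e (π a) = m * SL2.u 1 * m⁻¹ by rw [← hm]; group, hy]
      calc m * SL2.u 1 * m⁻¹ * (m * (SL2.w * SL2.u 1) * m⁻¹) * (m * SL2.u 1 * m⁻¹)⁻¹
          = m * (SL2.u 1 * SL2.w) * m⁻¹ := by group
        _ = m * ((SL2.u 1)⁻¹ * (SL2.w : Matrix.SpecialLinearGroup (Fin 2) F)⁻¹) * m⁻¹ := by
            rw [inv_eq_of_mul_eq_one_right (u_mul_self (1 : F)), inv_eq_of_mul_eq_one_right w_mul_self]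
        _ = (m * (SL2.w * SL2.u 1) * m⁻¹)⁻¹ := by group
    set z := e.symm y
    have hzo : orderOf z = 3 := by rw [MulEquiv.orderOf_eq, hyo]
    have hzinv : π a * z * (π a)⁻¹ = z⁻¹ := e.injective (by
      rw [map_mul, map_mul, map_inv, map_inv, MulEquiv.apply_symm_apply, hyinv])
    set K := Subgroup.zpowers z ⊔ Subgroup.zpowers (π a) with hK
    set Y := K.comap π
    have haY : a ∈ Y := Subgroup.mem_sup_right (Subgroup.mem_zpowers _)
    have hpa : π a * π a = 1 := by rw [← map_mul, ha2, map_one]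
    have hnorm : Subgroup.zpowers (π a) ≤ Subgroup.normalizer (Subgroup.zpowers z : Set (H ⧸ Q)) := by
      rw [Subgroup.zpowers_le, Subgroup.mem_normalizer_iff_map_conj_eq, MonoidHom.map_zpowers]
      show Subgroup.zpowers (π a * z * (π a)⁻¹) = _
      rw [hzinv, Subgroup.zpowers_inv]
    have hKcard : Nat.card K ∣ 6 := by
      rw [hK, sup_comm]
      refine (card_sup_dvd_mul hnorm).trans ?_
      rw [Nat.card_zpowers, Nat.card_zpowers, hzo, show (6 : ℕ) = 2 * 3 from rfl]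
      exact Nat.mul_dvd_mul_right (orderOf_dvd_of_pow_eq_one (by rw [sq]; exact hpa)) 3
    have haY' : (⟨a, haY⟩ : Y) ∉ Cfsg.pCore 2 Y := by
      intro hmem
      obtain ⟨g, hg⟩ := QuotientGroup.mk'_surjective Q z
      have hgY : g ∈ Y := show π g ∈ K from hg ▸ Subgroup.mem_sup_left (Subgroup.mem_zpowers z)
      have hconj := (inferInstance : (Cfsg.pCore 2 Y).Normal).conj_mem _ hmem ⟨g, hgY⟩
      have hmem' := mul_mem hmem hconj
      obtain ⟨k, hk⟩ := exists_two_pow_of_mem (Constrained.isPGroup_pCore (p := 2) (G := Y)) hmem'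
      have hd : orderOf (π (a * (g * a * g⁻¹))) ∣ 2 ^ k := by
        rw [← hk, ← Subgroup.orderOf_coe]; exact orderOf_map_dvd π _
      have hco : π (a * (g * a * g⁻¹)) = z⁻¹ * z⁻¹ := by
        rw [map_mul, map_mul, map_mul, map_inv, hg]
        calc π a * (z * π a * z⁻¹) = (π a * z * (π a)⁻¹) * (π a * π a) * z⁻¹ := by group
          _ = z⁻¹ * z⁻¹ := by rw [hpa, hzinv, mul_one]
      rw [hco, ← mul_inv_rev, orderOf_inv, ← sq, orderOf_pow' z two_ne_zero, hzo] at hd
      norm_num at hd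
      exact absurd ((Nat.prime_dvd_prime_iff_eq Nat.prime_three Nat.prime_two).1
        (Nat.prime_three.dvd_of_dvd_pow hd)) (by norm_num)
    obtain ⟨x, p, hp, hp2, hxo, hax⟩ := exists_inverted haY' (Subtype.ext ha2)
    refine ⟨x, ?_, congrArg Subtype.val hax⟩
    obtain rfl : p = 3 := by
      by_contra hp3
      have h1 : orderOf (π (x : H)) ∣ p := hxo ▸ (Subgroup.orderOf_coe x) ▸ orderOf_map_dvd π _
      have h2 : orderOf (π (x : H)) ∣ 6 := by
        refine dvd_trans ?_ hKcard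
        exact (Subgroup.orderOf_coe (⟨π (x : H), x.2⟩ : K)) ▸ orderOf_dvd_natCard _
      have h3 : Nat.Coprime p 6 := Nat.Coprime.mul_right
        ((Nat.coprime_primes hp Nat.prime_two).2 hp2) ((Nat.coprime_primes hp Nat.prime_three).2 hp3)
      have hxQ : (x : H) ∈ Q := (QuotientGroup.eq_one_iff _).1
        (orderOf_eq_one_iff.1 (Nat.eq_one_of_dvd_coprimes h3 h1 h2))
      obtain ⟨k, hk⟩ := exists_two_pow_of_mem hQp hxQ
      rw [Subgroup.orderOf_coe, hxo] at hk
      exact hp2 ((Nat.prime_dvd_prime_iff_eq hp Nat.prime_two).1 (hp.dvd_of_dvd_pow (dvd_of_eq hk)))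
    rw [Subgroup.orderOf_coe, hxo]
  have hAbV : Nat.card (A.map π) ^ 2 ≤ Nat.card (omegaZ Q) := hV ▸ Nat.pow_le_pow_left hAb 2
  have hinv : ∀ w ∈ Q, w * w = 1 → w ∈ omegaZ Q := fun w hw hw2 =>
    mem_omegaZ_of_sq hH hQS' hA ha hx hax hAbV hw hw2
  have hcardQ : Nat.card Q = Nat.card R := by
    rw [← hmapQ, Subgroup.card_map_of_injective Subtype.val_injective]
  have homega : (omegaZ Q).map H.subtype = omegaZ R := by rw [map_omegaZ, hmapQ]
  have hQsub : R.subgroupOf H = Q := by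
    rw [← hmapQ]; exact Subgroup.comap_map_eq_self_of_injective Subtype.val_injective Q
  refine ⟨hRp, ?_, ?_, fun w hw hw2 => ?_, fun E h1 h2 h3 => (le_pCoreOf h1 h2 h3).trans hRQ.le,
    ⟨F, inferInstance, inferInstance, inferInstance, e.toMonoidHom.comp π, rfl,
      e.surjective.comp (QuotientGroup.mk'_surjective Q), ?_⟩, ⟨A.map H.subtype,
      Subgroup.map_subtype_le _, LocalP.isElementaryAbelian_map _ hA.2.1, fun hle' => haQ ?_, ?_⟩⟩
  · rw [← homega, Subgroup.card_map_of_injective Subtype.val_injective, hV]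
  · rw [← hcardQ, ← hKc, Subgroup.card_eq_card_quotient_mul_card_subgroup Q]
  · rw [← hmapQ] at hw
    obtain ⟨z, hz, rfl⟩ := hw
    rw [← homega]
    exact ⟨z, hinv z hz (Subtype.ext hw2), rfl⟩
  · rw [← MonoidHom.comap_ker, (MonoidHom.ker_eq_bot_iff _).2 e.injective, MonoidHom.comap_bot,
      QuotientGroup.ker_mk', hQsub]
  · show a ∈ Q
    rw [← hQsub]; exact hle' ⟨a, ha, rfl⟩
  · rw [Subgroup.card_map_of_injective Subtype.val_injective, ← hV]
    exact hA.2.2 _ (fun z hz => hQS' hz.1) ((LocalP.isElementaryAbelian_iff).2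
      ⟨fun z hz z' hz' => Subgroup.mem_centralizer_iff.1 hz'.2.1 z hz.1, fun z hz => (sq z).trans hz.2.2⟩)

end CfsgLib.CIT
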