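import Cfsg.Agent.CIT.BadQ

/-!
A bad radical 2-subgroup with `SL₂(q)` on top has order `q²`.
-/

set_option autoImplicit false

namespace CfsgLib.CIT

open CfsgLib.CITThreePrime

universe u

variable {G : Type u} [Group G] [Finite G] (h : InvCentTwo G) {R : Subgroup G} {q : ℕ} (hb : BadQ R q)
include hb

theorem BadQ.even : ∃ n, 1 ≤ n ∧ q = 2 ^ n := by
  obtain ⟨F, _, _, _, φ, hF, -, -⟩ := hb.exists_quot
  obtain ⟨n, -, hn⟩ := FiniteField.card F 2
  exact ⟨n, n.pos, by rw [← hF, hn]⟩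

theorem BadQ.two_le : 2 ≤ q := by
  obtain ⟨n, hn, rfl⟩ := hb.even
  exact le_self_pow₀ (by norm_num) (by omega)

theorem BadQ.odd_sq_sub_one : Odd (q ^ 2 - 1) := by
  obtain ⟨F, _, _, _, φ, hF, -, -⟩ := hb.exists_quot
  exact hF ▸ CIT.odd_sq_sub_one

omit [Finite G] in
theorem BadQ.omegaZ_comm {v w : G} (hv : v ∈ omegaZ R) (hw : w ∈ omegaZ R) : v * w = w * v :=
  Subgroup.mem_centralizer_iff.1 hw.2.1 v hv.1

omit [Finite G] in
theorem BadQ.isPGroup_omegaZ : IsPGroup 2 (omegaZ R) := fun z => ⟨1, Subtype.ext (by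
  rw [pow_one, sq]; exact z.2.2.2)⟩

theorem BadQ.omegaZ_ne_bot : omegaZ R ≠ ⊥ := fun e => by
  have h1 := hb.card_omegaZ
  rw [e, Subgroup.card_bot] at h1
  have := hb.two_le
  nlinarith

theorem BadQ.sq_le_card : q ^ 2 ≤ Nat.card R :=
  hb.card_omegaZ ▸ Subgroup.card_le_of_le fun _ hz => hz.1

theorem BadQ.card_le_two {E : Subgroup G} (hE : E ≤ Subgroup.normalizer (R : Set G))
    (hE2 : IsPGroup 2 E) : Nat.card E ≤ q * Nat.card R ∧ Nat.card E ∣ q * Nat.card R := by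
  haveI : Fact (Nat.Prime 2) := ⟨Nat.prime_two⟩
  have h1 := Subgroup.card_dvd_of_le hE
  rw [hb.card_normalizer, show q * (q ^ 2 - 1) * Nat.card R = (q ^ 2 - 1) * (q * Nat.card R) by ring] at h1
  obtain ⟨k, hk⟩ := IsPGroup.iff_card.1 hE2
  have h2 : Nat.card E ∣ q * Nat.card R := by
    rw [hk] at h1 ⊢
    exact (Nat.Coprime.pow_left k (Nat.coprime_two_left.2 hb.odd_sq_sub_one)).dvd_of_dvd_mul_left h1
  exact ⟨Nat.le_of_dvd (Nat.mul_pos (by have := hb.two_le; omega) Nat.card_pos) h2, h2⟩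

/-- Squares of 2-elements of the normaliser lie in `R`. -/
theorem BadQ.sq_mem {g : G} (hg : g ∈ Subgroup.normalizer (R : Set G)) {k : ℕ}
    (hk : orderOf g = 2 ^ k) : g ^ 2 ∈ R := by
  obtain ⟨F, _, _, _, φ, -, -, hker⟩ := hb.exists_quot
  have hd : orderOf (φ ⟨g, hg⟩) ∣ 2 ^ k := by
    have hd := orderOf_map_dvd φ ⟨g, hg⟩
    rwa [Subgroup.orderOf_mk, hk] at hd
  obtain ⟨i, -, hi⟩ := (Nat.dvd_prime_pow Nat.prime_two).1 hd
  have hmem : (⟨g, hg⟩ : Subgroup.normalizer (R : Set G)) ^ 2 ∈ φ.ker := by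
    rw [MonoidHom.mem_ker, map_pow, sq]
    exact mul_self_of_two_pow hi
  rw [hker] at hmem
  exact hmem

theorem BadQ.exists_sylow : ∃ S : Subgroup G, S ≤ Subgroup.normalizer (R : Set G) ∧ R ≤ S ∧
    IsPGroup 2 S ∧ Nat.card S = q * Nat.card R := by
  haveI : Fact (Nat.Prime 2) := ⟨Nat.prime_two⟩
  obtain ⟨k, hk⟩ := IsPGroup.iff_card.1 hb.isPGroup
  obtain ⟨n, hn, hq⟩ := hb.even
  obtain ⟨S₀, hS₀⟩ := Sylow.exists_subgroup_card_pow_prime (G := Subgroup.normalizer (R : Set G)) 2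
    (n := n + k) (by
      rw [hb.card_normalizer, hk, pow_add, hq,
        show 2 ^ n * ((2 ^ n) ^ 2 - 1) * 2 ^ k = 2 ^ n * 2 ^ k * ((2 ^ n) ^ 2 - 1) by ring]
      exact dvd_mul_right _ _)
  set S := S₀.map (Subgroup.normalizer (R : Set G)).subtype with hS
  have hSc : Nat.card S = q * Nat.card R := by
    rw [hS, Subgroup.card_map_of_injective Subtype.val_injective, hS₀, hk, hq, pow_add]
  have hS2 : IsPGroup 2 S := IsPGroup.of_card (n := n + k) (by rw [hSc, hk, hq, pow_add])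
  have hSle : S ≤ Subgroup.normalizer (R : Set G) := Subgroup.map_subtype_le _
  refine ⟨S, hSle, ?_, hS2, hSc⟩
  have hle := (hb.card_le_two (sup_le hSle Subgroup.le_normalizer)
    (hS2.to_sup_of_normal_right' hb.isPGroup hSle)).1
  rw [← hSc] at hle
  exact le_sup_right.trans (Subgroup.eq_of_le_of_card_ge le_sup_left hle).ge

omit [Finite G] in
/-- An involution of the normaliser outside `R`. -/
theorem BadQ.exists_outer : ∃ t ∈ Subgroup.normalizer (R : Set G), t ∉ R ∧ t * t = 1 := by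
  obtain ⟨A, hA, hAel, hAR, -⟩ := hb.exists_elementary
  obtain ⟨t, ht, htR⟩ := SetLike.not_le_iff_exists.1 hAR
  exact ⟨t, hA ht, htR, by rw [← sq]; exact hAel.2 t ht⟩

/-- An element of square one in the normaliser fixes an involution of `V`. -/
theorem BadQ.exists_fix {a : G} (haN : a ∈ Subgroup.normalizer (R : Set G)) (ha : a * a = 1) :
    ∃ v ∈ omegaZ R, v ≠ 1 ∧ Commute a v := by
  obtain ⟨v, hv, hv1⟩ := (Subgroup.bot_or_exists_ne_one _).resolve_left hb.omegaZ_ne_bot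
  have hv' : a * v * a⁻¹ ∈ omegaZ R := conj_omegaZ haN hv
  by_cases hfix : v * (a * v * a⁻¹) = 1
  · exact ⟨v, hv, hv1, mul_inv_eq_iff_eq_mul.1
      ((eq_inv_of_mul_eq_one_right hfix).trans (inv_eq_of_mul_eq_one_right hv.2.2))⟩
  · refine ⟨_, mul_mem hv hv', hfix, ?_⟩
    show a * (v * (a * v * a⁻¹)) = v * (a * v * a⁻¹) * a
    calc a * (v * (a * v * a⁻¹)) = (a * v * a⁻¹) * ((a * a) * v * (a * a)⁻¹) * a := by group
      _ = (a * v * a⁻¹) * v * a := by rw [ha]; group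
      _ = _ := by rw [hb.omegaZ_comm hv' hv]

include h

/-- `C(V) = R`. -/
theorem BadQ.centralizer_eq : Subgroup.centralizer (omegaZ R : Set G) = R := by
  have hle : R ≤ Subgroup.centralizer (omegaZ R : Set G) := fun r hr =>
    Subgroup.mem_centralizer_iff.2 fun z hz => (Subgroup.mem_centralizer_iff.1 hz.2.1 r hr).symm
  refine le_antisymm ?_ hle
  have hC := centralizer_isPGroup h hb.isPGroup_omegaZ hb.omegaZ_ne_bot
  by_contra hne
  obtain ⟨y, hy, hyN, hyR⟩ := exists_gt_normalizer hC hle (fun e => hne e.ge)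
  refine hyR (hb.le_self (Subgroup.centralizer (omegaZ R : Set G) ⊓ Subgroup.normalizer (R : Set G))
    inf_le_right (fun g hg => Subgroup.mem_normalizer_fintype (S := ((Subgroup.centralizer
      (omegaZ R : Set G) ⊓ Subgroup.normalizer (R : Set G) : Subgroup G) : Set G)) fun c hc =>
      ⟨Subgroup.mem_centralizer_iff.2 fun z hz => ?_,
        Subgroup.mul_mem _ (Subgroup.mul_mem _ hg hc.2) (Subgroup.inv_mem _ hg)⟩)
    (hC.to_le inf_le_left) ⟨hy, hyN⟩)
  have hz' : g⁻¹ * z * g ∈ omegaZ R := by simpa using conj_omegaZ (Subgroup.inv_mem _ hg) hz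
  calc z * (g * c * g⁻¹) = g * ((g⁻¹ * z * g) * c) * g⁻¹ := by group
    _ = g * (c * (g⁻¹ * z * g)) * g⁻¹ := by rw [Subgroup.mem_centralizer_iff.1 hc.1 _ hz']
    _ = g * c * g⁻¹ * z := by group

theorem BadQ.normalizer_omegaZ_eq :
    Subgroup.normalizer (omegaZ R : Set G) = Subgroup.normalizer (R : Set G) := by
  refine le_antisymm (fun g hg => ?_) (normalizer_le_normalizer_omegaZ R)
  refine Subgroup.mem_normalizer_fintype (S := (R : Set G)) fun r hr => ?_
  show g * r * g⁻¹ ∈ R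
  rw [← hb.centralizer_eq h]
  refine Subgroup.mem_centralizer_iff.2 fun z hz => ?_
  have hz' : g⁻¹ * z * g ∈ omegaZ R := by
    refine (Subgroup.mem_normalizer_iff.1 hg _).2 ?_
    rwa [show g * (g⁻¹ * z * g) * g⁻¹ = z by group]
  calc z * (g * r * g⁻¹) = g * ((g⁻¹ * z * g) * r) * g⁻¹ := by group
    _ = g * (r * (g⁻¹ * z * g)) * g⁻¹ := by rw [Subgroup.mem_centralizer_iff.1 hz'.2.1 r hr]
    _ = g * r * g⁻¹ * z := by group

/-- The normaliser is transitive on `V#` and point stabilisers are Sylow 2-subgroups. -/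
theorem BadQ.transitive {v : G} (hv : v ∈ omegaZ R) (hv1 : v ≠ 1) :
    (∀ w ∈ omegaZ R, w ≠ 1 → ∃ g ∈ Subgroup.normalizer (R : Set G), g * v * g⁻¹ = w) ∧
      Nat.card ↥(Subgroup.normalizer (R : Set G) ⊓ Subgroup.centralizer ({v} : Set G)) = q * Nat.card R := by
  classical
  set X := Subgroup.normalizer (R : Set G) with hX
  let α := {z : G // z ∈ omegaZ R ∧ z ≠ 1}
  letI act : MulAction X α :=
    { smul := fun g z => ⟨(g : G) * z * (g : G)⁻¹, conj_omegaZ g.2 z.2.1,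
        fun e => z.2.2 (conj_eq_one_iff.1 e)⟩
      one_smul := fun z => Subtype.ext (show (1 : G) * z * (1 : G)⁻¹ = z by simp)
      mul_smul := fun g g' z => Subtype.ext (show (g : G) * g' * z * ((g : G) * g')⁻¹ =
        g * ((g' : G) * z * (g' : G)⁻¹) * (g : G)⁻¹ by group) }
  set x₀ : α := ⟨v, hv, hv1⟩
  have hst : Nat.card (MulAction.stabilizer X x₀) = Nat.card ↥(X ⊓ Subgroup.centralizer ({v} : Set G)) := by
    refine Nat.card_congr ⟨fun g => ⟨g.1, g.1.2, Subgroup.mem_centralizer_singleton_iff.2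
        (mul_inv_eq_iff_eq_mul.1 (congrArg Subtype.val g.2))⟩,
      fun g => ⟨⟨g, g.2.1⟩, Subtype.ext (mul_inv_eq_iff_eq_mul.2
        (Subgroup.mem_centralizer_singleton_iff.1 g.2.2))⟩, fun _ => rfl, fun _ => rfl⟩
  have hle := (hb.card_le_two (inf_le_left : X ⊓ Subgroup.centralizer ({v} : Set G) ≤ X)
    ((h v (orderOf_eq_prime (by rw [sq]; exact hv.2.2) hv1)).to_le inf_le_right)).1
  have hα : Nat.card α = q ^ 2 - 1 := by
    have : Nat.card α = ((omegaZ R : Set G) \ {1}).ncard := by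
      rw [← Nat.card_coe_set_eq]; exact Nat.card_congr (Equiv.setCongr rfl)
    rw [this, Set.ncard_sdiff (Set.singleton_subset_iff.2 (omegaZ R).one_mem), Set.ncard_singleton,
      ← Nat.card_coe_set_eq, ← hb.card_omegaZ]
    rfl
  have horb : (MulAction.orbit X x₀).ncard ≤ q ^ 2 - 1 := hα ▸ Set.ncard_le_card _
  have hprod := (MulAction.stabilizer X x₀).card_mul_index
  rw [MulAction.index_stabilizer, hst, show Nat.card X = q * (q ^ 2 - 1) * Nat.card R from hb.card_normalizer] at hprod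
  have hq0 : 0 < q ^ 2 - 1 := by
    have := Nat.pow_le_pow_left hb.two_le 2
    omega
  set O := (MulAction.orbit X x₀).ncard
  set C := Nat.card ↥(X ⊓ Subgroup.centralizer ({v} : Set G))
  have hR0 : 0 < q * Nat.card R := Nat.mul_pos (by have := hb.two_le; omega) Nat.card_pos
  have hkey : q ^ 2 - 1 ≤ O ∧ q * Nat.card R ≤ C := by
    have h1 : C * O = q * Nat.card R * (q ^ 2 - 1) := by rw [hprod]; ring
    constructor
    · refine Nat.le_of_mul_le_mul_left ?_ hR0
      rw [← h1]; exact Nat.mul_le_mul_right _ hle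
    · refine Nat.le_of_mul_le_mul_right ?_ hq0
      rw [← h1]; exact Nat.mul_le_mul_left _ horb
  refine ⟨fun w hw hw1 => ?_, le_antisymm hle hkey.2⟩
  have hall : MulAction.orbit X x₀ = Set.univ :=
    Set.eq_of_subset_of_ncard_le (Set.subset_univ _) (by rw [Set.ncard_univ, hα]; exact hkey.1)
  obtain ⟨g, hg⟩ := MulAction.mem_orbit_iff.1 (hall.symm ▸ Set.mem_univ (⟨w, hw, hw1⟩ : α))
  exact ⟨g, g.2, congrArg Subtype.val hg⟩

/-- Fixed points of an involution outside `R` on an invariant subgroup of `R`. -/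
theorem BadQ.card_fix_sq {W : Subgroup G} (hWR : W ≤ R)
    (hW : Subgroup.normalizer (R : Set G) ≤ Subgroup.normalizer (W : Set G)) {a : G}
    (haN : a ∈ Subgroup.normalizer (R : Set G)) (haR : a ∉ R) (ha : a * a = 1) :
    Nat.card ↥(W ⊓ Subgroup.centralizer ({a} : Set G)) ^ 2 ≤ Nat.card W := by
  classical
  set H := Subgroup.normalizer (R : Set G) with hH
  obtain ⟨x, p, hp, hp2, hxo, hax⟩ := exists_inverted (G := H) (a := ⟨a, haN⟩) (fun hmem => haR
    (hb.le_self (Cfsg.pCoreOf 2 H) pCoreOf_le le_normalizer_pCoreOf isPGroup_pCoreOf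
      ⟨⟨a, haN⟩, hmem, rfl⟩)) (Subtype.ext ha)
  rw [← Subgroup.orderOf_coe] at hxo
  have hax' : a * (x : G) * a⁻¹ = (x : G)⁻¹ := congrArg Subtype.val hax
  set A := W ⊓ Subgroup.centralizer ({a} : Set G)
  have hmemW : ∀ r ∈ W, (x : G) * r * (x : G)⁻¹ ∈ W := fun r hr =>
    (Subgroup.mem_normalizer_iff.1 (hW x.2) r).1 hr
  have hinj : Function.Injective (fun z : A × A =>
      (⟨(z.1 : G) * ((x : G) * z.2 * (x : G)⁻¹), mul_mem z.1.2.1 (hmemW _ z.2.2.1)⟩ : W)) := by
    rintro ⟨⟨y, hy⟩, ⟨z, hz⟩⟩ ⟨⟨y', hy'⟩, ⟨z', hz'⟩⟩ e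
    have e' : y * ((x : G) * z * (x : G)⁻¹) = y' * ((x : G) * z' * (x : G)⁻¹) := congrArg Subtype.val e
    set d := y'⁻¹ * y with hd
    have hd1 : d = (x : G) * (z' * z⁻¹) * (x : G)⁻¹ := by
      rw [hd, eq_comm, eq_inv_mul_iff_mul_eq]
      calc y' * ((x : G) * (z' * z⁻¹) * (x : G)⁻¹)
          = y' * ((x : G) * z' * (x : G)⁻¹) * ((x : G) * z * (x : G)⁻¹)⁻¹ := by group
        _ = _ := by rw [← e', mul_inv_cancel_right]
    have hdA : d ∈ A := mul_mem (inv_mem hy') hy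
    have c1 : Commute d a := Subgroup.mem_centralizer_singleton_iff.1 hdA.2
    have c2 : Commute d ((x : G) * a * (x : G)⁻¹) := by
      rw [hd1]
      exact (show Commute (z' * z⁻¹) a from Subgroup.mem_centralizer_singleton_iff.1
        (mul_mem hz' (inv_mem hz) : z' * z⁻¹ ∈ A).2).map (MulAut.conj (x : G)).toMonoidHom
    have e3 : a * ((x : G) * a * (x : G)⁻¹) = (x : G)⁻¹ * (x : G)⁻¹ := by
      calc a * ((x : G) * a * (x : G)⁻¹) = (a * x * a⁻¹) * (a * a) * (x : G)⁻¹ := by group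
        _ = _ := by rw [hax', ha, mul_one]
    have hdone : d = 1 := by
      by_contra hd0
      obtain ⟨k, hk⟩ := exists_two_pow_of_mem hb.isPGroup (hWR hdA.1)
      have hord : orderOf ((x : G)⁻¹ * (x : G)⁻¹) = p := by
        have hc : Nat.Coprime (orderOf ((x : G)⁻¹)) 2 := by
          rw [orderOf_inv, hxo]; exact (Nat.coprime_primes hp Nat.prime_two).2 hp2
        rw [← sq, hc.orderOf_pow, orderOf_inv, hxo]
      have := h.eq_one_of_commute hp hp2 hk hd0 (a := 1)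
        (by rw [hord, pow_one]) (e3 ▸ c1.mul_right c2)
      rw [this, orderOf_one] at hord
      exact hp.ne_one hord.symm
    have hyy : y = y' := (inv_mul_eq_one.1 hdone).symm
    subst hyy
    exact Prod.ext rfl (Subtype.ext (mul_left_cancel (mul_right_cancel (mul_left_cancel e'))))
  have := Nat.card_le_card_of_injective _ hinj
  rwa [Nat.card_prod, ← sq] at this

/-- The fixed points of an involution outside `R` on `V` are commutators of order `q`. -/
theorem BadQ.fix_omegaZ {a : G} (haN : a ∈ Subgroup.normalizer (R : Set G)) (haR : a ∉ R)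
    (ha : a * a = 1) :
    Nat.card ↥(omegaZ R ⊓ Subgroup.centralizer ({a} : Set G)) = q ∧
      ∀ c ∈ omegaZ R, Commute a c → ∃ v ∈ omegaZ R, v * (a * v * a⁻¹) = c := by
  classical
  set V := omegaZ R with hV
  set A := V ⊓ Subgroup.centralizer ({a} : Set G) with hA
  have h1 := hb.card_fix_sq h (W := V) (fun z hz => hz.1) (normalizer_le_normalizer_omegaZ R) haN haR ha
  rw [hb.card_omegaZ] at h1
  have hle : Nat.card A ≤ q := by
    by_contra hlt
    have := Nat.pow_lt_pow_left (not_le.1 hlt) (two_ne_zero)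
    have h1' : Nat.card A ^ 2 ≤ q ^ 2 := h1
    omega
  have hconj : ∀ x ∈ V, a * x * a⁻¹ ∈ V := fun x hx => conj_omegaZ haN hx
  let d : V →* V := MonoidHom.mk' (fun z => ⟨(z : G) * (a * z * a⁻¹),
      V.mul_mem z.2 (hconj _ z.2)⟩) fun x y => Subtype.ext (by
    show (x : G) * y * (a * ((x : G) * y) * a⁻¹) =
      (x : G) * (a * x * a⁻¹) * ((y : G) * (a * y * a⁻¹))
    calc (x : G) * y * (a * ((x : G) * y) * a⁻¹)
        = (x : G) * (y * (a * x * a⁻¹)) * (a * y * a⁻¹) := by group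
      _ = (x : G) * ((a * x * a⁻¹) * y) * (a * y * a⁻¹) := by
          rw [hb.omegaZ_comm y.2 (hconj _ x.2)]
      _ = _ := by group)
  have hker : d.ker.map V.subtype ≤ A := by
    rintro _ ⟨z, hz, rfl⟩
    have h0 : (z : G) * (a * z * a⁻¹) = 1 := congrArg Subtype.val (MonoidHom.mem_ker.1 hz)
    exact ⟨z.2, Subgroup.mem_centralizer_singleton_iff.2 (mul_inv_eq_iff_eq_mul.1
      ((eq_inv_of_mul_eq_one_right h0).trans (inv_eq_of_mul_eq_one_right z.2.2.2))).symm⟩
  have hran : d.range.map V.subtype ≤ A := by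
    rintro _ ⟨_, ⟨x, rfl⟩, rfl⟩
    refine ⟨(d x).2, Subgroup.mem_centralizer_singleton_iff.2 (mul_inv_eq_iff_eq_mul.1 ?_).symm⟩
    show a * ((x : G) * (a * x * a⁻¹)) * a⁻¹ = (x : G) * (a * x * a⁻¹)
    calc a * ((x : G) * (a * x * a⁻¹)) * a⁻¹
        = (a * x * a⁻¹) * ((a * a) * x * (a * a)⁻¹) := by group
      _ = (a * x * a⁻¹) * x := by rw [ha]; group
      _ = _ := (hb.omegaZ_comm x.2 (hconj _ x.2)).symm
  have hker' : Nat.card d.ker ≤ Nat.card A := by
    rw [← Subgroup.card_map_of_injective (f := V.subtype) Subtype.val_injective]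
    exact Subgroup.card_le_of_le hker
  have hprod : q ^ 2 = Nat.card (d.range.map V.subtype) * Nat.card d.ker := by
    rw [Subgroup.card_map_of_injective Subtype.val_injective, ← hb.card_omegaZ,
      Subgroup.card_eq_card_quotient_mul_card_subgroup d.ker,
      Nat.card_congr (QuotientGroup.quotientKerEquivRange d).toEquiv]
  have hran' := Subgroup.card_le_of_le hran
  have hq := hb.two_le
  have hAge : q ≤ Nat.card A := by nlinarith
  have hAq : Nat.card A = q := le_antisymm hle hAge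
  refine ⟨hAq, fun c hc hac => ?_⟩
  have heq : d.range.map V.subtype = A :=
    Subgroup.eq_of_le_of_card_ge hran (by rw [hAq]; nlinarith)
  obtain ⟨_, ⟨x, rfl⟩, hx⟩ := heq.ge (show c ∈ A from ⟨hc,
    Subgroup.mem_centralizer_singleton_iff.2 hac.eq.symm⟩)
  exact ⟨x, x.2, hx⟩

omit h in
theorem BadQ.map_conj (g : G) : BadQ (R.map (MulAut.conj g).toMonoidHom) q := by
  have hN : Subgroup.normalizer ((R.map (MulAut.conj g).toMonoidHom : Subgroup G) : Set G) =
      (Subgroup.normalizer (R : Set G)).map (MulAut.conj g).toMonoidHom :=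
    (Subgroup.map_normalizer_eq_of_bijective R (MulAut.conj g).bijective).symm
  have hinj : Function.Injective (MulAut.conj g).toMonoidHom := (MulAut.conj g).injective
  refine ⟨hb.isPGroup.map _, ?_, ?_, fun w hw hw2 => ?_, fun E h1 h2 h3 => ?_, ?_, ?_⟩
  · rw [omegaZ_map_conj, Subgroup.card_map_of_injective hinj, hb.card_omegaZ]
  · rw [hN, Subgroup.card_map_of_injective hinj, Subgroup.card_map_of_injective hinj, hb.card_normalizer]
  · rw [omegaZ_map_conj, mem_map_conj]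
    exact hb.mem_omegaZ _ (mem_map_conj.1 hw) (by
      rw [show g⁻¹ * w * g * (g⁻¹ * w * g) = g⁻¹ * (w * w) * g by group, hw2]; group)
  · rw [hN] at h1 h2
    intro e he
    rw [mem_map_conj]
    have hE : E.map (MulAut.conj g⁻¹).toMonoidHom ≤ R := by
      refine hb.le_self _ ?_ ?_ (h3.map _)
      · rintro _ ⟨y, hy, rfl⟩
        have := mem_map_conj.1 (h1 hy)
        simpa using this
      · intro n hn
        refine Subgroup.mem_normalizer_fintype (S := ((E.map (MulAut.conj g⁻¹).toMonoidHom : Subgroup G) : Set G)) ?_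
        rintro _ ⟨y, hy, rfl⟩
        show n * (g⁻¹ * y * g⁻¹⁻¹) * n⁻¹ ∈ _
        refine mem_map_conj.2 ?_
        have h4 : g * n * g⁻¹ ∈ Subgroup.normalizer (E : Set G) := h2 ⟨n, hn, rfl⟩
        have h5 := (Subgroup.mem_normalizer_iff.1 h4 y).1 hy
        rwa [show g⁻¹⁻¹ * (n * (g⁻¹ * y * g⁻¹⁻¹) * n⁻¹) * g⁻¹ = g * n * g⁻¹ * y * (g * n * g⁻¹)⁻¹
          by group]
    exact hE ⟨e, he, show g⁻¹ * e * g⁻¹⁻¹ = _ by group⟩
  · obtain ⟨F, i₁, i₂, i₃, φ, hF, hφ, hker⟩ := hb.exists_quot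
    rw [hN]
    let eN := (Subgroup.normalizer (R : Set G)).equivMapOfInjective _ hinj
    refine ⟨F, i₁, i₂, i₃, φ.comp eN.symm.toMonoidHom, hF, hφ.comp eN.symm.surjective, ?_⟩
    ext y
    obtain ⟨z, rfl⟩ := eN.surjective y
    show φ (eN.symm (eN z)) = 1 ↔ _
    rw [MulEquiv.symm_apply_apply, ← MonoidHom.mem_ker, hker, Subgroup.mem_subgroupOf,
      Subgroup.mem_subgroupOf, Subgroup.coe_equivMapOfInjective_apply,
      Subgroup.mem_map_iff_mem hinj]
  · obtain ⟨A, h1, h2, h3, h4⟩ := hb.exists_elementary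
    exact ⟨A.map _, hN ▸ Subgroup.map_mono h1, LocalP.isElementaryAbelian_map _ h2,
      fun hle => h3 ((Subgroup.map_le_map_iff_of_injective hinj).1 hle),
      by rwa [Subgroup.card_map_of_injective hinj]⟩

/-- Two such subgroups in one Sylow 2-subgroup of the normaliser force order `q²`. -/
theorem BadQ.card_eq_of_pair {R' S : Subgroup G} (hb' : BadQ R' q) (hne : R' ≠ R)
    (hcard : Nat.card R' = Nat.card R) (hS : S ≤ Subgroup.normalizer (R : Set G))
    (hS2 : IsPGroup 2 S) (hRS : R ≤ S) (hR'S : R' ≤ S) : Nat.card R = q ^ 2 := by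
  obtain ⟨a, ha, haR⟩ : ∃ a ∈ omegaZ R', a ∉ R := by
    by_contra hcon
    push Not at hcon
    have hle : omegaZ R' ≤ omegaZ R := fun w hw => hb.mem_omegaZ w (hcon w hw) hw.2.2
    have heq := Subgroup.eq_of_le_of_card_ge hle (by rw [hb.card_omegaZ, hb'.card_omegaZ])
    exact hne (by rw [← hb'.centralizer_eq h, heq, hb.centralizer_eq h])
  have h1 := hb.card_fix_sq h (W := R) le_rfl le_rfl (hS (hR'S ha.1)) haR ha.2.2
  have h2 : Nat.card ↥(R ⊓ R') ≤ Nat.card ↥(R ⊓ Subgroup.centralizer ({a} : Set G)) :=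
    Subgroup.card_le_of_le (inf_le_inf_left R fun y hy =>
      Subgroup.mem_centralizer_singleton_iff.2 (Subgroup.mem_centralizer_iff.1 ha.2.1 y hy))
  have h3 := LocalP.card_mul_le_card_sup_mul_card_inf R R'
  have h4 : Nat.card ↥(R ⊔ R') ≤ q * Nat.card R :=
    (Subgroup.card_le_of_le (sup_le hRS hR'S)).trans (hb.card_le_two hS hS2).1
  rw [hcard] at h3
  have h5 : Nat.card R ≤ q * Nat.card ↥(R ⊓ Subgroup.centralizer ({a} : Set G)) := by
    refine Nat.le_of_mul_le_mul_left ?_ (Nat.card_pos (α := R))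
    calc Nat.card R * Nat.card R ≤ q * Nat.card R * Nat.card ↥(R ⊓ R') :=
          h3.trans (Nat.mul_le_mul_right _ h4)
      _ ≤ q * Nat.card R * Nat.card ↥(R ⊓ Subgroup.centralizer ({a} : Set G)) :=
          Nat.mul_le_mul_left _ h2
      _ = _ := by ring
  refine le_antisymm ?_ hb.sq_le_card
  refine Nat.le_of_mul_le_mul_right ?_ (Nat.card_pos (α := R))
  calc Nat.card R * Nat.card R ≤ (q * Nat.card ↥(R ⊓ Subgroup.centralizer ({a} : Set G))) *
        (q * Nat.card ↥(R ⊓ Subgroup.centralizer ({a} : Set G))) := Nat.mul_le_mul h5 h5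
    _ = q ^ 2 * Nat.card ↥(R ⊓ Subgroup.centralizer ({a} : Set G)) ^ 2 := by ring
    _ ≤ _ := Nat.mul_le_mul_left _ h1

theorem BadQ.card_eq_or_sylow :
    Nat.card R = q ^ 2 ∨ ∀ E : Subgroup G, IsPGroup 2 E → Nat.card E ≤ q * Nat.card R := by
  haveI : Fact (Nat.Prime 2) := ⟨Nat.prime_two⟩
  by_contra hcon
  push Not at hcon
  obtain ⟨hR4, E, hE, hEc⟩ := hcon
  obtain ⟨S, hS, hRS, hS2, hSc⟩ := hb.exists_sylow
  obtain ⟨P, hP⟩ := hS2.exists_le_sylow
  have hne : S ≠ P := fun e => by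
    have h1 := card_le_sylow P hE
    rw [← e, hSc] at h1
    omega
  obtain ⟨y, hyP, hyN, hyS⟩ := exists_gt_normalizer P.2 hP hne
  refine hR4 (hb.card_eq_of_pair h (hb.map_conj y) (fun e => ?_) ?_ hS hS2 hRS ?_)
  · have hy : y ∈ Subgroup.normalizer (R : Set G) := Subgroup.mem_normalizer_iff_map_conj_eq.2 e
    have hle := (hb.card_le_two (sup_le hS (Subgroup.zpowers_le.2 hy))
      (P.2.to_le (sup_le hP (Subgroup.zpowers_le.2 hyP)))).1
    rw [← hSc] at hle
    have := Subgroup.eq_of_le_of_card_ge le_sup_left hle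
    exact hyS (this.ge (Subgroup.mem_sup_right (Subgroup.mem_zpowers y)))
  · exact Subgroup.card_map_of_injective (f := (MulAut.conj y).toMonoidHom) (MulAut.conj y).injective
  · rintro _ ⟨r, hr, rfl⟩
    exact (Subgroup.mem_normalizer_iff.1 hyN r).1 (hRS hr)

theorem BadQ.centralizer_le_normalizer
    (hsyl : ∀ E : Subgroup G, IsPGroup 2 E → Nat.card E ≤ q * Nat.card R)
    {v : G} (hv : v ∈ omegaZ R) (hv1 : v ≠ 1) :
    R ≤ Subgroup.centralizer ({v} : Set G) ∧
      Subgroup.centralizer ({v} : Set G) ≤ Subgroup.normalizer (R : Set G) := by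
  have heq := Subgroup.eq_of_le_of_card_ge
    (inf_le_right : Subgroup.normalizer (R : Set G) ⊓ Subgroup.centralizer ({v} : Set G) ≤ _)
    (((hsyl _ (h v (orderOf_eq_prime (by rw [sq]; exact hv.2.2) hv1))).trans
      (hb.transitive h hv hv1).2.ge))
  exact ⟨fun r hr => Subgroup.mem_centralizer_singleton_iff.2
    (Subgroup.mem_centralizer_iff.1 hv.2.1 r hr), heq.ge.trans inf_le_left⟩

/-- Some involution of the normaliser outside `R` is conjugate into `V`. -/
theorem BadQ.exists_outer_conj (hO : Cfsg.pCore 2 G = ⊥)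
    (hsyl : ∀ E : Subgroup G, IsPGroup 2 E → Nat.card E ≤ q * Nat.card R) :
    ∃ a g v : G, a ∈ Subgroup.normalizer (R : Set G) ∧ a ∉ R ∧ v ∈ omegaZ R ∧ v ≠ 1 ∧
      g * v * g⁻¹ = a := by
  classical
  haveI : Fact (Nat.Prime 2) := ⟨Nat.prime_two⟩
  by_contra hcon
  push Not at hcon
  set X := Subgroup.normalizer (R : Set G) with hX
  set V := omegaZ R with hV
  have hin : ∀ g, ∀ v ∈ V, v ≠ 1 → g * v * g⁻¹ ∈ X → g * v * g⁻¹ ∈ V := fun g v hv hv1 hgX => by
    refine hb.mem_omegaZ _ ?_ (by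
      rw [show g * v * g⁻¹ * (g * v * g⁻¹) = g * (v * v) * g⁻¹ by group, hv.2.2]; group)
    by_contra hR
    exact hcon _ g v hgX hR hv hv1 rfl
  have hTI : ∀ g, ∀ v ∈ V, v ≠ 1 → g * v * g⁻¹ ∈ V → g ∈ X := by
    intro g v hv hv1 hgv
    rw [hX, ← hb.normalizer_omegaZ_eq h]
    refine Subgroup.mem_normalizer_fintype (S := (V : Set G)) fun y hy => ?_
    show g * y * g⁻¹ ∈ V
    rcases eq_or_ne y 1 with rfl | hy1
    · rw [mul_one, mul_inv_cancel]; exact one_mem _
    refine hin g y hy hy1 ((hb.centralizer_le_normalizer h hsyl hgv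
      (fun e => hv1 (conj_eq_one_iff.1 e))).2 (Subgroup.mem_centralizer_singleton_iff.2 ?_))
    calc g * y * g⁻¹ * (g * v * g⁻¹) = g * (y * v) * g⁻¹ := by group
      _ = g * (v * y) * g⁻¹ := by rw [hb.omegaZ_comm hy hv]
      _ = _ := by group
  have hclaim : ∀ t ∈ X, t * t = 1 → t ≠ 1 → Subgroup.centralizer ({t} : Set G) ≤ X := by
    intro t htX ht ht1
    obtain ⟨v, hv, hv1, htv⟩ := hb.exists_fix htX ht
    have hP := h t (orderOf_eq_prime (by rw [sq]; exact ht) ht1)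
    set P := Subgroup.centralizer ({t} : Set G)
    by_contra hle
    obtain ⟨y, hy, hyN, hyE⟩ := exists_gt_normalizer hP (inf_le_left : P ⊓ X ≤ P)
      (fun e => hle (inf_eq_left.1 e))
    have hvE : v ∈ P ⊓ X :=
      ⟨Subgroup.mem_centralizer_singleton_iff.2 htv.eq.symm, Subgroup.le_normalizer hv.1⟩
    exact hyE ⟨hy, hTI y v hv hv1 (hin y v hv hv1 ((Subgroup.mem_normalizer_iff.1 hyN v).1 hvE).2)⟩
  obtain ⟨t, htX, htR, ht2⟩ := hb.exists_outer
  have ht1 : t ≠ 1 := fun e => htR (e ▸ one_mem R)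
  refine hb.omegaZ_ne_bot ((Subgroup.eq_bot_iff_forall _).2 fun w hw => ?_)
  by_contra hw1
  have hall : ∀ g, g * w * g⁻¹ ∈ V := by
    intro g
    set z := g * w * g⁻¹ with hz
    have hz2 : z * z = 1 := by
      rw [hz, show g * w * g⁻¹ * (g * w * g⁻¹) = g * (w * w) * g⁻¹ by group, hw.2.2]; group
    set y := t * z with hy
    have hyinv : t * y * t⁻¹ = y⁻¹ := by
      rw [hy, mul_inv_rev, inv_eq_of_mul_eq_one_right ht2, inv_eq_of_mul_eq_one_right hz2,
        ← mul_assoc t t z, ht2, one_mul]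
    rcases Nat.even_or_odd (orderOf y) with ⟨k, hk⟩ | ⟨k, hk⟩
    · have hk0 : 0 < k := by have := orderOf_pos y; omega
      set u := y ^ k with hu
      have hu2 : u * u = 1 := by rw [hu, ← pow_add, ← hk, pow_orderOf_eq_one]
      have hu1 : u ≠ 1 := pow_ne_one_of_lt_orderOf hk0.ne' (by omega)
      have hut : Commute t u := mul_inv_eq_iff_eq_mul.1 (by
        rw [hu, ← conj_pow, hyinv, inv_pow, ← hu, inv_eq_of_mul_eq_one_right hu2])
      have huz : Commute u z := by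
        have h1 : Commute u (t * y) :=
          hut.symm.mul_right (Commute.pow_self y k)
        rwa [hy, ← mul_assoc, ht2, one_mul] at h1
      have huX : u ∈ X :=
        hclaim t htX ht2 ht1 (Subgroup.mem_centralizer_singleton_iff.2 hut.eq.symm)
      refine hin g w hw hw1 (hclaim u huX hu2 hu1 ?_)
      exact Subgroup.mem_centralizer_singleton_iff.2 huz.eq.symm
    · exfalso
      refine hcon t (y ^ (k + 1) * g) w htX htR hw hw1 ?_
      have hc : y ^ (k + 1) * z * (y ^ (k + 1))⁻¹ = t := by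
        have h2 : z * y * z⁻¹ = y⁻¹ := by
          rw [inv_eq_of_mul_eq_one_right hz2, hy, mul_inv_rev, inv_eq_of_mul_eq_one_right ht2,
            inv_eq_of_mul_eq_one_right hz2]
          simp only [mul_assoc, hz2, mul_one]
        have h3 : z * (y ^ (k + 1))⁻¹ = y ^ (k + 1) * z := by
          have h4 : z * y ^ (k + 1) * z⁻¹ = (y ^ (k + 1))⁻¹ := by rw [← conj_pow, h2, inv_pow]
          rw [← h4, inv_eq_of_mul_eq_one_right hz2]
          simp only [← mul_assoc, hz2, one_mul]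
        rw [mul_assoc, h3, ← mul_assoc, ← pow_add, show k + 1 + (k + 1) = orderOf y + 1 by omega,
          pow_succ, pow_orderOf_eq_one, one_mul, hy, mul_assoc, hz2, mul_one]
      rw [← hc, hz]; group
  have hVn : V.Normal := by
    constructor
    intro y hy g
    rcases eq_or_ne y 1 with rfl | hy1
    · rw [mul_one, mul_inv_cancel]; exact one_mem _
    obtain ⟨n, -, rfl⟩ := (hb.transitive h hw hw1).1 y hy hy1
    rw [show g * (n * w * n⁻¹) * g⁻¹ = g * n * w * (g * n)⁻¹ by group]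
    exact hall _
  exact hb.omegaZ_ne_bot (eq_bot_iff.2 ((BaerSuzuki.normal_pgroup_le_pCore hVn
    hb.isPGroup_omegaZ).trans hO.le))

/-- An involution outside `R` fixes an element of `R` outside `V` when `R ≠ V`. -/
theorem BadQ.exists_fix_outside {a : G} (haN : a ∈ Subgroup.normalizer (R : Set G)) (haR : a ∉ R)
    (ha : a * a = 1) (hne : Nat.card R ≠ q ^ 2) :
    ∃ g ∈ R, g ∉ omegaZ R ∧ Commute a g := by
  classical
  haveI : Fact (Nat.Prime 2) := ⟨Nat.prime_two⟩
  set W := R ⊔ Subgroup.zpowers a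
  have hWX : W ≤ Subgroup.normalizer (R : Set G) :=
    sup_le Subgroup.le_normalizer (Subgroup.zpowers_le.2 haN)
  have hza : IsPGroup 2 (Subgroup.zpowers a) := IsPGroup.of_card (n := 1) (by
    rw [Nat.card_zpowers, pow_one]
    exact orderOf_eq_prime (by rw [sq]; exact ha) (fun e => haR (e ▸ one_mem R)))
  have hW2 : IsPGroup 2 W := hb.isPGroup.to_sup_of_normal_left' hza (Subgroup.zpowers_le.2 haN)
  haveI : ((omegaZ R).subgroupOf W).Normal := Subgroup.normal_subgroupOf_of_le_normalizer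
    (hWX.trans (normalizer_le_normalizer_omegaZ R))
  have hQc := hW2.to_quotient ((omegaZ R).subgroupOf W)
  set N := (R.subgroupOf W).map (QuotientGroup.mk' ((omegaZ R).subgroupOf W)) with hN
  haveI : (R.subgroupOf W).Normal := Subgroup.normal_subgroupOf_of_le_normalizer hWX
  haveI hNn : N.Normal := Subgroup.Normal.map inferInstance _ (QuotientGroup.mk'_surjective _)
  have hN1 : N ≠ ⊥ := by
    intro e
    rw [hN, Subgroup.map_eq_bot_iff, QuotientGroup.ker_mk'] at e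
    refine hne (hb.card_omegaZ ▸ congrArg (fun K : Subgroup G => Nat.card K) (le_antisymm
      (fun r hr => e (show (⟨r, Subgroup.mem_sup_left hr⟩ : W) ∈ R.subgroupOf W from hr))
      fun y hy => hy.1))
  obtain ⟨q₀, hqN, hqc, hq1⟩ : ∃ q ∈ N, q ∈ Subgroup.center (W ⧸ (omegaZ R).subgroupOf W) ∧ q ≠ 1 := by
    have hCA : IsPGroup 2 (ConjAct (W ⧸ (omegaZ R).subgroupOf W)) := hQc.of_equiv ConjAct.toConjAct
    have hNd : 2 ∣ Nat.card N := by
      obtain ⟨k, hk⟩ := IsPGroup.iff_card.1 (hQc.to_subgroup N)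
      rw [hk]
      exact dvd_pow_self 2 fun e => hN1 (Subgroup.eq_bot_of_card_eq _ (by rw [hk, e, pow_zero]))
    obtain ⟨x, hx, hx1⟩ := hCA.exists_fixed_point_of_prime_dvd_card_of_fixed_point N hNd
      (a := (1 : N)) fun m => smul_one m
    refine ⟨x, x.2, Subgroup.mem_center_iff.2 fun m => ?_, fun e => hx1 (Subtype.ext e).symm⟩
    exact mul_inv_eq_iff_eq_mul.1 (congrArg Subtype.val (hx (ConjAct.toConjAct m)))
  obtain ⟨g₀, hg₀, rfl⟩ := hqN
  set ā : W := ⟨a, Subgroup.mem_sup_right (Subgroup.mem_zpowers a)⟩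
  have h1 : (QuotientGroup.mk' ((omegaZ R).subgroupOf W)) (g₀⁻¹ * (ā * g₀ * ā⁻¹)) = 1 := by
    rw [map_mul, map_mul, map_mul, Subgroup.mem_center_iff.1 hqc, map_inv, map_inv,
      mul_inv_cancel_right, inv_mul_cancel]
  have hc₀ : (g₀ : G)⁻¹ * (a * g₀ * a⁻¹) ∈ omegaZ R :=
    (QuotientGroup.eq_one_iff (g₀⁻¹ * (ā * g₀ * ā⁻¹))).1 h1
  set c := (g₀ : G)⁻¹ * (a * g₀ * a⁻¹) with hc
  have hg₀V : (g₀ : G) ∉ omegaZ R := fun hm => hq1 ((QuotientGroup.eq_one_iff g₀).2 hm)
  have hac : Commute a c := by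
    refine mul_inv_eq_iff_eq_mul.1 ?_
    calc a * c * a⁻¹ = (a * g₀ * a⁻¹)⁻¹ * ((a * a) * g₀ * (a * a)⁻¹) := by rw [hc]; group
      _ = c⁻¹ := by rw [ha, hc]; group
      _ = c := inv_eq_of_mul_eq_one_right hc₀.2.2
  obtain ⟨v, hv, hvc⟩ := (hb.fix_omegaZ h haN haR ha).2 c hc₀ hac
  have hav : a * v * a⁻¹ ∈ omegaZ R := conj_omegaZ haN hv
  refine ⟨g₀ * v, mul_mem hg₀ hv.1, fun hm => hg₀V (by simpa using mul_mem hm (inv_mem hv)),
    mul_inv_eq_iff_eq_mul.1 ?_⟩
  calc a * ((g₀ : G) * v) * a⁻¹ = g₀ * c * (a * v * a⁻¹) := by rw [hc]; group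
    _ = g₀ * (v * ((a * v * a⁻¹) * (a * v * a⁻¹))) := by rw [← hvc]; simp only [mul_assoc]
    _ = g₀ * v := by rw [hav.2.2, mul_one]

/-- A bad radical 2-subgroup is elementary of order `q²`. -/
theorem BadQ.card_eq (hO : Cfsg.pCore 2 G = ⊥) : Nat.card R = q ^ 2 := by
  classical
  haveI : Fact (Nat.Prime 2) := ⟨Nat.prime_two⟩
  by_contra hR4
  have hsyl := (hb.card_eq_or_sylow h).resolve_left hR4
  obtain ⟨a, g, v, haX, haR, hv, hv1, hga⟩ := hb.exists_outer_conj h hO hsyl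
  set R' := R.map (MulAut.conj g).toMonoidHom with hR'
  have hb' := hb.map_conj g
  have hcard : Nat.card R' = Nat.card R :=
    Subgroup.card_map_of_injective (f := (MulAut.conj g).toMonoidHom) (MulAut.conj g).injective
  have hsyl' : ∀ E : Subgroup G, IsPGroup 2 E → Nat.card E ≤ q * Nat.card R' := by
    rw [hcard]; exact hsyl
  have ha' : a ∈ omegaZ R' := by rw [hR', omegaZ_map_conj]; exact ⟨v, hv, hga⟩
  have ha2 : a * a = 1 := ha'.2.2
  have ha1 : a ≠ 1 := fun e => haR (e ▸ one_mem R)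
  have hR'C := hb'.centralizer_le_normalizer h hsyl' ha' ha1
  obtain ⟨g₁, hg₁, hg₁V, hg₁a⟩ := hb.exists_fix_outside h haX haR ha2 hR4
  obtain ⟨k, hk⟩ := exists_two_pow_of_mem hb.isPGroup hg₁
  have hg₁2 : g₁ ^ 2 ≠ 1 := fun e => hg₁V (hb.mem_omegaZ g₁ hg₁ (by rwa [← sq]))
  have hsq : g₁ ^ 2 ∈ R' :=
    hb'.sq_mem (hR'C.2 (Subgroup.mem_centralizer_singleton_iff.2 hg₁a.eq.symm)) hk
  obtain ⟨j, hj⟩ : ∃ j, k = j + 2 := by
    refine ⟨k - 2, ?_⟩
    have : ¬ orderOf g₁ ∣ 2 := fun hd => hg₁2 (orderOf_dvd_iff_pow_eq_one.1 hd)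
    rw [hk] at this
    by_contra hlt
    exact this ((pow_dvd_pow 2 (show k ≤ 1 by omega)).trans (by norm_num))
  set w := (g₁ ^ 2) ^ 2 ^ j with hw
  have hwo : orderOf w = 2 := by
    refine orderOf_eq_prime ?_ ?_
    · rw [hw, ← pow_mul, ← pow_mul, show 2 * (2 ^ j * 2) = 2 ^ (j + 2) by ring, ← hj, ← hk,
        pow_orderOf_eq_one]
    · rw [hw, ← pow_mul]
      refine pow_ne_one_of_lt_orderOf (by positivity) ?_
      rw [hk, hj, pow_add]
      have := Nat.one_le_two_pow (n := j)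
      omega
  have hw1 : w ≠ 1 := fun e => by rw [e, orderOf_one] at hwo; omega
  have hw2 : w * w = 1 := by rw [← sq, ← hwo, pow_orderOf_eq_one]
  have hwV : w ∈ omegaZ R := hb.mem_omegaZ w (pow_mem (pow_mem hg₁ 2) _) hw2
  have hwV' : w ∈ omegaZ R' := hb'.mem_omegaZ w (pow_mem hsq _) hw2
  exact hR4 (hb.card_eq_of_pair h hb' (fun e => haR (e ▸ ha'.1)) hcard
    (hb.centralizer_le_normalizer h hsyl hwV hw1).2
    (h w hwo) (hb.centralizer_le_normalizer h hsyl hwV hw1).1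
    (hb'.centralizer_le_normalizer h hsyl' hwV' hw1).1)

end CfsgLib.CIT
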