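import Cfsg.Agent.CIT.BadQCard

/-!
Coordinates in `N(V)` for a bad elementary abelian radical subgroup `V` of order `q²`.
-/

set_option autoImplicit false

namespace CfsgLib.CIT

open CfsgLib.CITThreePrime

universe u

variable {G : Type u} [Group G] [Finite G]

/-- Coordinates on `Z₀ = V ∩ C(S)` and on `S/V`. -/
structure Coord (V S : Subgroup G) (F : Type) [Field F] where
  hs : Fˣ → G
  e : F → G
  π : G → F
  w : G
  hs_normalizer : ∀ s, hs s ∈ Subgroup.normalizer (V : Set G)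
  hs_normalizer' : ∀ s, hs s ∈ Subgroup.normalizer (S : Set G)
  e_mem : ∀ t, e t ∈ V ⊓ Subgroup.centralizer (S : Set G)
  e_add : ∀ t t', e (t + t') = e t * e t'
  e_one : e 1 ≠ 1
  e_mul : ∀ (s : Fˣ) (t : F), e (s * t) = hs s * e t * (hs s)⁻¹
  π_mul : ∀ g ∈ S, ∀ g' ∈ S, π (g * g') = π g + π g'
  π_eq_zero : ∀ g ∈ S, (π g = 0 ↔ g ∈ V)
  π_conj : ∀ (s : Fˣ), ∀ g ∈ S, π ((hs s)⁻¹ * g * hs s) = ((s⁻¹ : Fˣ) : F) ^ 2 * π g
  w_mem : w ∈ Subgroup.normalizer (V : Set G)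
  w_not_mem : ∀ z ∈ V ⊓ Subgroup.centralizer (S : Set G), z ≠ 1 →
    w * z * w⁻¹ ∉ V ⊓ Subgroup.centralizer (S : Set G)
  w_twist : ∀ h ∈ Subgroup.normalizer (V : Set G), h ∈ Subgroup.normalizer (S : Set G) →
    ∀ z ∈ V ⊓ Subgroup.centralizer (S : Set G),
      (w * (h * z * h⁻¹) * w⁻¹)⁻¹ * (h⁻¹ * (w * z * w⁻¹) * h) ∈ V ⊓ Subgroup.centralizer (S : Set G)

set_option maxHeartbeats 1600000 in
theorem BadQ.exists_coord (h : InvCentTwo G) {R : Subgroup G} {q : ℕ} (hb : BadQ R q)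
    (hR : Nat.card R = q ^ 2) {S : Subgroup G} (hS : S ≤ Subgroup.normalizer (R : Set G))
    (hS2 : IsPGroup 2 S) (hRS : R ≤ S) (hSc : Nat.card S = q * Nat.card R) :
    Nat.card ↥(R ⊓ Subgroup.centralizer (S : Set G)) = q ∧
      ∃ (F : Type) (_ : Field F) (_ : Fintype F) (_ : CharP F 2),
        Fintype.card F = q ∧ Nonempty (Coord R S F) := by
  classical
  haveI : Fact (Nat.Prime 2) := ⟨Nat.prime_two⟩
  have hRV : omegaZ R = R := Subgroup.eq_of_le_of_card_ge (fun z hz => hz.1)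
    (by rw [hR, hb.card_omegaZ])
  have hR2 : ∀ v ∈ R, v * v = 1 := fun v hv => (hRV.ge hv).2.2
  have hRc : ∀ v ∈ R, ∀ v' ∈ R, v * v' = v' * v := fun v hv v' hv' =>
    hb.omegaZ_comm (hRV.ge hv) (hRV.ge hv')
  set X := Subgroup.normalizer (R : Set G) with hX
  have hXR : ∀ g ∈ X, ∀ v ∈ R, g * v * g⁻¹ ∈ R := fun g hg v hv =>
    (Subgroup.mem_normalizer_iff.1 hg v).1 hv
  obtain ⟨F, _, _, _, φ₀, hF, hφ₀, hker₀⟩ := hb.exists_quot
  -- normalise so that `S` maps onto `U`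
  set P := (S.subgroupOf X).map φ₀ with hP
  have hP2 : IsPGroup 2 P :=
    (hS2.of_equiv (Subgroup.subgroupOfEquivOfLe hS).symm).map φ₀
  have hPc : Nat.card P = q := by
    have h1 := Subgroup.card_eq_card_quotient_mul_card_subgroup (φ₀.comp (S.subgroupOf X).subtype).ker
    rw [Nat.card_congr (Subgroup.subgroupOfEquivOfLe hS).toEquiv, hSc,
      Nat.card_congr (QuotientGroup.quotientKerEquivRange (φ₀.comp (S.subgroupOf X).subtype)).toEquiv,
      MonoidHom.range_comp, Subgroup.range_subtype, ← hP] at h1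
    have h2 : Nat.card (φ₀.comp (S.subgroupOf X).subtype).ker = Nat.card R := by
      refine Nat.card_congr ⟨fun g => ⟨((g : S.subgroupOf X) : X), ?_⟩,
        fun r => ⟨⟨⟨r, hS (hRS r.2)⟩, hRS r.2⟩, ?_⟩, fun _ => rfl, fun _ => rfl⟩
      · have hg := g.2
        rw [MonoidHom.mem_ker, MonoidHom.comp_apply, ← MonoidHom.mem_ker, hker₀] at hg
        exact hg
      · rw [MonoidHom.mem_ker, MonoidHom.comp_apply, ← MonoidHom.mem_ker, hker₀]
        exact r.2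
    rw [h2] at h1
    exact (Nat.eq_of_mul_eq_mul_right Nat.card_pos h1).symm
  obtain ⟨c, hc⟩ := exists_conj_le_U hP2
  set φ : X →* Matrix.SpecialLinearGroup (Fin 2) F := (MulAut.conj c⁻¹).toMonoidHom.comp φ₀ with hφ
  have hφa : ∀ g : X, φ g = c⁻¹ * φ₀ g * c := fun g => by
    show c⁻¹ * φ₀ g * c⁻¹⁻¹ = _; rw [inv_inv]
  have hφs : Function.Surjective φ := (MulAut.conj c⁻¹).surjective.comp hφ₀
  have hker : ∀ g : X, φ g = 1 ↔ (g : G) ∈ R := fun g => by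
    rw [hφa]
    constructor
    · intro e
      have e' : φ₀ g = 1 := by
        calc φ₀ g = c * (c⁻¹ * φ₀ g * c) * c⁻¹ := by group
          _ = 1 := by rw [e]; group
      rw [← MonoidHom.mem_ker, hker₀] at e'
      exact e'
    · intro hg
      have e' : φ₀ g = 1 := by rw [← MonoidHom.mem_ker, hker₀]; exact hg
      rw [e']; group
  -- `S` is the preimage of `U`
  have hSU : ∀ g : X, (g : G) ∈ S ↔ ∃ t, φ g = SL2.u t := by
    have h1 : ∀ g : X, (g : G) ∈ S → ∃ t, φ g = SL2.u t := fun g hg => by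
      obtain ⟨t, ht⟩ := hc _ ⟨g, hg, rfl⟩
      exact ⟨t, (hφa g).trans ht⟩
    intro g
    refine ⟨h1 g, fun ⟨t, ht⟩ => ?_⟩
    have hsur : ∀ t : F, ∃ s : X, (s : G) ∈ S ∧ φ s = SL2.u t := by
      choose f hf using fun p : P => hc p.1 p.2
      have hinj : Function.Injective f := fun a b e => Subtype.ext (by
        have := (hf a).trans ((congrArg SL2.u e).trans (hf b).symm)
        exact mul_left_cancel (mul_right_cancel this))
      have hbij := (Nat.bijective_iff_injective_and_card f).2 ⟨hinj, by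
        rw [hPc, ← hF, Nat.card_eq_fintype_card (α := F)]⟩
      intro t
      obtain ⟨⟨_, s, hs, rfl⟩, hst⟩ := hbij.2 t
      exact ⟨s, hs, (hφa s).trans ((hf _).trans (congrArg SL2.u hst))⟩
    obtain ⟨s, hs, hst⟩ := hsur t
    have : ((g * s⁻¹ : X) : G) ∈ R := (hker _).1 (by rw [map_mul, map_inv, ht, hst, mul_inv_cancel])
    have h2 := S.mul_mem (hRS this) hs
    rwa [Subgroup.coe_mul, Subgroup.coe_inv, inv_mul_cancel_right] at h2
  choose gl hgl using fun t : F => hφs (SL2.u t)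
  choose hl hhl using fun s : Fˣ => hφs (SL2.d s)
  obtain ⟨wl, hwl⟩ := hφs SL2.w
  have hglS : ∀ t, (gl t : G) ∈ S := fun t => (hSU _).2 ⟨t, hgl t⟩
  set Z := R ⊓ Subgroup.centralizer (S : Set G) with hZ
  have hZR : ∀ z ∈ Z, z ∈ R := fun z hz => hz.1
  have hZS : ∀ z ∈ Z, ∀ g ∈ S, g * z * g⁻¹ = z := fun z hz g hg =>
    mul_inv_eq_iff_eq_mul.2 (Subgroup.mem_centralizer_iff.1 hz.2 g hg)
  -- conjugation on `R` depends only on the image
  have hact : ∀ g g' : X, φ g = φ g' → ∀ v ∈ R, (g : G) * v * (g : G)⁻¹ = g' * v * (g' : G)⁻¹ := by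
    intro g g' e v hv
    have hr : ((g'⁻¹ * g : X) : G) ∈ R := (hker _).1 (by rw [map_mul, map_inv, e, inv_mul_cancel])
    rw [Subgroup.coe_mul, Subgroup.coe_inv] at hr
    calc (g : G) * v * (g : G)⁻¹ = g' * (((g' : G)⁻¹ * g) * v * ((g' : G)⁻¹ * g)⁻¹) * (g' : G)⁻¹ := by group
      _ = g' * v * (g' : G)⁻¹ := by rw [hRc _ hr v hv, mul_inv_cancel_right]
  -- points fixed by an element of `S` outside `R` are fixed by `S`
  have hfix : ∀ g ∈ S, g ∉ R → ∀ v ∈ R, g * v = v * g → v ∈ Z := by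
    intro g hg hgR v hv hgv
    rcases eq_or_ne v 1 with rfl | hv1
    · exact one_mem _
    obtain ⟨-, hC⟩ := hb.transitive h (hRV.ge hv) hv1
    set C := X ⊓ Subgroup.centralizer ({v} : Set G) with hCdef
    have hC2 : IsPGroup 2 C :=
      (h v (orderOf_eq_prime (by rw [sq]; exact hR2 v hv) hv1)).to_le inf_le_right
    obtain ⟨d, hd⟩ := exists_conj_le_U ((hC2.of_equiv
      (Subgroup.subgroupOfEquivOfLe (inf_le_left : C ≤ X)).symm).map φ)
    have hgC : g ∈ C := ⟨hS hg, Subgroup.mem_centralizer_singleton_iff.2 hgv⟩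
    obtain ⟨t, ht⟩ := (hSU ⟨g, hS hg⟩).1 hg
    obtain ⟨t', ht'⟩ := hd _ ⟨⟨g, hS hg⟩, hgC, rfl⟩
    have ht0 : t ≠ 0 := fun e => hgR ((hker ⟨g, hS hg⟩).1 (by rw [ht, e, SL2.u_zero]))
    have hdB : d ∈ (SL2.B : Subgroup (Matrix.SpecialLinearGroup (Fin 2) F)) := by
      by_contra hdB
      have hmem : SL2.u t ∈ (SL2.U : Subgroup (Matrix.SpecialLinearGroup (Fin 2) F)) ⊓
          (SL2.U).map (MulAut.conj d).toMonoidHom := by
        refine ⟨SL2.u_mem_U t, ⟨SL2.u t', SL2.u_mem_U t', ?_⟩⟩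
        show d * SL2.u t' * d⁻¹ = SL2.u t
        rw [← ht', ht]; group
      rw [SL2.U_inf_conj hdB, Subgroup.mem_bot, SL2.u_eq_one_iff] at hmem
      exact ht0 hmem
    have hle : C ≤ S := fun x hx => by
      refine (hSU ⟨x, hx.1⟩).2 ?_
      obtain ⟨r, hr⟩ := hd _ ⟨⟨x, hx.1⟩, hx, rfl⟩
      have hmem := (Subgroup.mem_normalizer_iff.1 (SL2.B_le_normalizer_U hdB) _).1 (SL2.u_mem_U r)
      rw [← hr] at hmem
      obtain ⟨r', hr'⟩ := SL2.mem_U.1 hmem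
      exact ⟨r', by rw [← hr']; group⟩
    have heq := Subgroup.eq_of_le_of_card_ge hle (by rw [hSc, hC])
    exact ⟨hv, Subgroup.mem_centralizer_iff.2 fun y hy =>
      Subgroup.mem_centralizer_singleton_iff.1 (heq.ge hy).2⟩
  -- commutators
  have hcZ : ∀ g ∈ S, ∀ v ∈ R, g * v * g⁻¹ * v ∈ Z := by
    intro g hg v hv
    have hgv := hXR g (hS hg) v hv
    by_cases hgR : g ∈ R
    · rw [hRc g hgR v hv, mul_inv_cancel_right, hR2 v hv]; exact one_mem _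
    refine hfix g hg hgR _ (mul_mem hgv hv) ?_
    obtain ⟨k, hk⟩ := exists_two_pow_of_mem hS2 hg
    have h2 : g * g * v = v * (g * g) := by
      rw [← sq]; exact hRc _ (hb.sq_mem (hS hg) hk) v hv
    calc g * (g * v * g⁻¹ * v) = (g * g * v) * (g * g)⁻¹ * (g * v * g⁻¹) * g := by
          group
      _ = v * (g * v * g⁻¹) * g := by rw [h2]; group
      _ = g * v * g⁻¹ * v * g := by rw [hRc v hv _ hgv]
  have hcmul : ∀ g ∈ S, ∀ g' ∈ S, ∀ v ∈ R,
      g * g' * v * (g * g')⁻¹ * v = (g' * v * g'⁻¹ * v) * (g * v * g⁻¹ * v) := by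
    intro g hg g' hg' v hv
    calc g * g' * v * (g * g')⁻¹ * v = g * ((g' * v * g'⁻¹ * v) * v⁻¹) * g⁻¹ * v := by group
      _ = (g * (g' * v * g'⁻¹ * v) * g⁻¹) * (g * v * g⁻¹ * v) := by
          rw [inv_eq_of_mul_eq_one_right (hR2 v hv)]; group
      _ = _ := by rw [hZS _ (hcZ g' hg' v hv) g hg]
  -- the element of order three
  set x := wl * gl 1 with hx
  have hφx : φ x = SL2.w * SL2.u 1 := by rw [hx, map_mul, hwl, hgl]
  have hx3 : ∀ v ∈ R, ((x ^ 3 : X) : G) * v * ((x ^ 3 : X) : G)⁻¹ = v := fun v hv => by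
    rw [hact (x ^ 3) 1 (by rw [map_pow, hφx, map_one, ← orderOf_w_mul_u (F := F), pow_orderOf_eq_one]) v hv]
    simp
  have hfpf : ∀ v ∈ R, (x : G) * v * (x : G)⁻¹ = v → v = 1 := by
    intro v hv hxv
    by_contra hv1
    obtain ⟨j, hj⟩ := h.orderOf_of_commute (k := 1) (x := v)
      (by rw [pow_one]; exact orderOf_eq_prime (by rw [sq]; exact hR2 v hv) hv1) hv1
      (show Commute v (x : G) from (mul_inv_eq_iff_eq_mul.1 hxv).symm)
    have hd := orderOf_map_dvd φ x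
    rw [hφx, orderOf_w_mul_u, ← Subgroup.orderOf_coe, hj] at hd
    exact absurd ((Nat.prime_dvd_prime_iff_eq Nat.prime_three Nat.prime_two).1
      (Nat.prime_three.dvd_of_dvd_pow hd)) (by norm_num)
  have hsum : ∀ v ∈ R, v * ((x : G) * v * (x : G)⁻¹) * ((x : G) * ((x : G) * v * (x : G)⁻¹) * (x : G)⁻¹) = 1 := by
    intro v hv
    have h1 := hXR _ x.2 v hv
    have h2 := hXR _ x.2 _ h1
    refine hfpf _ (mul_mem (mul_mem hv h1) h2) ?_
    have h3 : (x : G) * ((x : G) * ((x : G) * v * (x : G)⁻¹) * (x : G)⁻¹) * (x : G)⁻¹ = v := by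
      have := hx3 v hv
      rw [Subgroup.coe_pow, pow_three'] at this
      calc (x : G) * ((x : G) * ((x : G) * v * (x : G)⁻¹) * (x : G)⁻¹) * (x : G)⁻¹
          = (x : G) * x * x * v * ((x : G) * x * x)⁻¹ := by group
        _ = v := this
    calc (x : G) * (v * ((x : G) * v * (x : G)⁻¹) * ((x : G) * ((x : G) * v * (x : G)⁻¹) * (x : G)⁻¹)) * (x : G)⁻¹
        = ((x : G) * v * (x : G)⁻¹) * ((x : G) * ((x : G) * v * (x : G)⁻¹) * (x : G)⁻¹) *
          ((x : G) * ((x : G) * ((x : G) * v * (x : G)⁻¹) * (x : G)⁻¹) * (x : G)⁻¹) := by group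
      _ = v * (((x : G) * v * (x : G)⁻¹) * ((x : G) * ((x : G) * v * (x : G)⁻¹) * (x : G)⁻¹)) := by
          rw [h3, hRc _ (mul_mem h1 h2) v hv]
      _ = _ := (mul_assoc _ _ _).symm
  have hww : ∀ v ∈ R, (wl : G) * ((wl : G) * v * (wl : G)⁻¹) * (wl : G)⁻¹ = v := fun v hv => by
    calc (wl : G) * ((wl : G) * v * (wl : G)⁻¹) * (wl : G)⁻¹
        = ((wl * wl : X) : G) * v * ((wl * wl : X) : G)⁻¹ := by rw [Subgroup.coe_mul]; group
      _ = v := by rw [hact (wl * wl) 1 (by rw [map_mul, hwl, w_mul_self, map_one]) v hv]; simp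
  -- the key identity
  have hM1 : ∀ z ∈ Z, (gl 1 : G) * ((wl : G) * z * (wl : G)⁻¹) * (gl 1 : G)⁻¹ *
      ((wl : G) * z * (wl : G)⁻¹) = z := by
    intro z hz
    set v := (wl : G) * z * (wl : G)⁻¹ with hv
    have hvR : v ∈ R := hXR _ wl.2 z hz.1
    set c₁ := (gl 1 : G) * v * (gl 1 : G)⁻¹ * v with hc₁
    have hc₁Z : c₁ ∈ Z := hcZ _ (hglS 1) v hvR
    have e1 : (x : G) * z * (x : G)⁻¹ = v := by
      rw [hx, Subgroup.coe_mul, hv]
      calc (wl : G) * gl 1 * z * ((wl : G) * gl 1)⁻¹ = wl * ((gl 1 : G) * z * (gl 1 : G)⁻¹) * (wl : G)⁻¹ := by group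
        _ = _ := by rw [hZS z hz _ (hglS 1)]
    have e2 : (x : G) * v * (x : G)⁻¹ = (wl : G) * c₁ * (wl : G)⁻¹ * z := by
      calc (x : G) * v * (x : G)⁻¹ = wl * ((gl 1 : G) * v * (gl 1 : G)⁻¹) * (wl : G)⁻¹ := by
            rw [hx, Subgroup.coe_mul]; group
        _ = wl * (c₁ * v) * (wl : G)⁻¹ := by
            rw [hc₁, mul_assoc _ v v, hR2 v hvR, mul_one]
        _ = (wl : G) * c₁ * (wl : G)⁻¹ * (wl * v * (wl : G)⁻¹) := by group
        _ = _ := by rw [hv, hww z hz.1]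
    have h0 := hsum z hz.1
    rw [e1, e2] at h0
    have h1 : (wl : G) * (z * c₁) * (wl : G)⁻¹ = 1 := by
      calc (wl : G) * (z * c₁) * (wl : G)⁻¹ = v * ((wl : G) * c₁ * (wl : G)⁻¹) := by rw [hv]; group
        _ = z * z * (v * ((wl : G) * c₁ * (wl : G)⁻¹)) := by rw [hR2 z hz.1, one_mul]
        _ = z * (v * ((wl : G) * c₁ * (wl : G)⁻¹) * z) := by
            rw [mul_assoc z z, hRc z hz.1 _ (mul_mem hvR (hXR _ wl.2 _ hc₁Z.1))]
        _ = z * v * ((wl : G) * c₁ * (wl : G)⁻¹ * z) := by simp only [mul_assoc]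
        _ = 1 := h0
    have h2 : z * c₁ = 1 := by
      calc z * c₁ = (wl : G)⁻¹ * ((wl : G) * (z * c₁) * (wl : G)⁻¹) * wl := by group
        _ = 1 := by rw [h1]; group
    exact (eq_inv_of_mul_eq_one_right h2).trans (inv_eq_of_mul_eq_one_right (hR2 z hz.1))
  have hwnot : ∀ z ∈ Z, z ≠ 1 → (wl : G) * z * (wl : G)⁻¹ ∉ Z := fun z hz hz1 hm => hz1 (by
    have := hM1 z hz
    rwa [hZS _ hm _ (hglS 1), hR2 _ hm.1, eq_comm] at this)
  -- the order of `Z`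
  obtain ⟨z₀, hz₀, hz₀1⟩ : ∃ z ∈ Z, z ≠ 1 := by
    obtain ⟨v, hv, hv1⟩ := (Subgroup.bot_or_exists_ne_one _).resolve_left hb.omegaZ_ne_bot
    obtain ⟨-, hC⟩ := hb.transitive h hv hv1
    set g := gl 1
    have hgR : (g : G) ∉ R := fun hm => by
      have := (hker g).2 hm
      rw [hgl, SL2.u_eq_one_iff] at this
      exact one_ne_zero this
    by_cases hfx : (g : G) * v * (g : G)⁻¹ = v
    · exact ⟨v, hfix g (hglS 1) hgR v hv.1 (mul_inv_eq_iff_eq_mul.1 hfx), hv1⟩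
    · refine ⟨_, hcZ g (hglS 1) v hv.1, fun e => hfx ?_⟩
      exact (eq_inv_of_mul_eq_one_left e).trans (inv_eq_of_mul_eq_one_right hv.2.2)
  have hZcard : Nat.card Z = q := by
    have hinj : Function.Injective (fun p : Z × Z =>
        (⟨(p.1 : G) * ((wl : G) * p.2 * (wl : G)⁻¹), mul_mem p.1.2.1 (hXR _ wl.2 _ p.2.2.1)⟩ : R)) := by
      rintro ⟨⟨y, hy⟩, ⟨z, hz⟩⟩ ⟨⟨y', hy'⟩, ⟨z', hz'⟩⟩ e
      have e' : y * ((wl : G) * z * (wl : G)⁻¹) = y' * ((wl : G) * z' * (wl : G)⁻¹) := congrArg Subtype.val e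
      have hd : (wl : G) * (z * z'⁻¹) * (wl : G)⁻¹ = y⁻¹ * y' := by
        rw [eq_inv_mul_iff_mul_eq]
        calc y * ((wl : G) * (z * z'⁻¹) * (wl : G)⁻¹)
            = y * ((wl : G) * z * (wl : G)⁻¹) * ((wl : G) * z' * (wl : G)⁻¹)⁻¹ := by group
          _ = y' := by rw [e', mul_inv_cancel_right]
      have hzz : z * z'⁻¹ = 1 := by
        by_contra hne
        exact hwnot _ (mul_mem hz (inv_mem hz')) hne (hd ▸ mul_mem (inv_mem hy) hy')
      rw [hzz, mul_one, mul_inv_cancel] at hd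
      exact Prod.ext (Subtype.ext (inv_mul_eq_one.1 hd.symm)) (Subtype.ext (mul_inv_eq_one.1 hzz))
    have h1 := Nat.card_le_card_of_injective _ hinj
    rw [Nat.card_prod, hR] at h1
    let d : R →* R := MonoidHom.mk' (fun v => ⟨(gl 1 : G) * v * (gl 1 : G)⁻¹ * v,
        mul_mem (hXR _ (gl 1).2 _ v.2) v.2⟩) fun a b => Subtype.ext (by
      show (gl 1 : G) * (a * b) * (gl 1 : G)⁻¹ * ((a : G) * b) =
        (gl 1 : G) * a * (gl 1 : G)⁻¹ * a * ((gl 1 : G) * b * (gl 1 : G)⁻¹ * b)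
      calc (gl 1 : G) * (a * b) * (gl 1 : G)⁻¹ * ((a : G) * b)
          = ((gl 1 : G) * a * (gl 1 : G)⁻¹) * (((gl 1 : G) * b * (gl 1 : G)⁻¹) * a) * b := by group
        _ = ((gl 1 : G) * a * (gl 1 : G)⁻¹) * ((a : G) * ((gl 1 : G) * b * (gl 1 : G)⁻¹)) * b := by
            rw [hRc _ (hXR _ (gl 1).2 _ b.2) _ a.2]
        _ = _ := by group)
    have hgR : (gl 1 : G) ∉ R := fun hm => by
      have := (hker (gl 1)).2 hm
      rw [hgl, SL2.u_eq_one_iff] at this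
      exact one_ne_zero this
    have hk1 : Nat.card d.ker ≤ Nat.card Z := by
      refine Nat.card_le_card_of_injective (fun v => ⟨v.1.1, hfix _ (hglS 1) hgR _ v.1.2 ?_⟩)
        fun a b e => Subtype.ext (Subtype.ext (congrArg (fun y : Z => (y : G)) e :))
      have e : (gl 1 : G) * v.1.1 * (gl 1 : G)⁻¹ * v.1.1 = 1 := congrArg Subtype.val (MonoidHom.mem_ker.1 v.2)
      exact mul_inv_eq_iff_eq_mul.1 ((eq_inv_of_mul_eq_one_left e).trans
        (inv_eq_of_mul_eq_one_right (hR2 _ v.1.2)))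
    have hk2 : Nat.card d.range ≤ Nat.card Z := by
      refine Nat.card_le_card_of_injective (fun v => ⟨v.1.1, ?_⟩)
        fun a b e => Subtype.ext (Subtype.ext (congrArg (fun y : Z => (y : G)) e :))
      obtain ⟨y, hy⟩ := v.2
      rw [← hy]
      exact hcZ _ (hglS 1) y y.2
    have h2 : q ^ 2 ≤ Nat.card Z * Nat.card Z := by
      rw [← hR, Subgroup.card_eq_card_quotient_mul_card_subgroup d.ker,
        Nat.card_congr (QuotientGroup.quotientKerEquivRange d).toEquiv]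
      exact Nat.mul_le_mul hk2 hk1
    nlinarith
  refine ⟨hZcard, F, inferInstance, inferInstance, inferInstance, hF, ?_⟩
  -- the torus
  have hhS : ∀ s, (hl s : G) ∈ Subgroup.normalizer (S : Set G) := fun s =>
    Subgroup.mem_normalizer_fintype (S := (S : Set G)) fun g hg => by
      obtain ⟨t, ht⟩ := (hSU ⟨g, hS hg⟩).1 hg
      exact (hSU ⟨_, mul_mem (mul_mem (hl s).2 (hS hg)) (inv_mem (hl s).2)⟩).2 ⟨(s : F) ^ 2 * t, by
        rw [show (⟨(hl s : G) * g * (hl s : G)⁻¹, mul_mem (mul_mem (hl s).2 (hS hg)) (inv_mem (hl s).2)⟩ : X) =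
          hl s * ⟨g, hS hg⟩ * (hl s)⁻¹ from rfl, map_mul, map_mul, map_inv, hhl, ht, SL2.d_conj_u]⟩
  have hhZ : ∀ s, ∀ z ∈ Z, (hl s : G) * z * (hl s : G)⁻¹ ∈ Z := by
    intro s z hz
    refine ⟨hXR _ (hl s).2 z hz.1, Subgroup.mem_centralizer_iff.2 fun g hg => ?_⟩
    have hg' : (hl s : G)⁻¹ * g * hl s ∈ S := by
      simpa using (Subgroup.mem_normalizer_iff.1 (inv_mem (hhS s)) g).1 hg
    calc g * ((hl s : G) * z * (hl s : G)⁻¹) = hl s * (((hl s : G)⁻¹ * g * hl s) * z) * (hl s : G)⁻¹ := by group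
      _ = hl s * (z * ((hl s : G)⁻¹ * g * hl s)) * (hl s : G)⁻¹ := by
          rw [Subgroup.mem_centralizer_iff.1 hz.2 _ hg']
      _ = _ := by group
  have hwh : ∀ s, ∀ v ∈ R, (hl s : G) * ((wl : G) * v * (wl : G)⁻¹) * (hl s : G)⁻¹ =
      wl * ((hl s⁻¹ : X) * v * ((hl s⁻¹ : X) : G)⁻¹) * (wl : G)⁻¹ := fun s v hv => by
    calc (hl s : G) * ((wl : G) * v * (wl : G)⁻¹) * (hl s : G)⁻¹
        = ((hl s * wl : X) : G) * v * ((hl s * wl : X) : G)⁻¹ := by rw [Subgroup.coe_mul]; group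
      _ = ((wl * hl s⁻¹ : X) : G) * v * ((wl * hl s⁻¹ : X) : G)⁻¹ := hact _ _ (by
            rw [map_mul, map_mul, hwl, hhl, hhl]
            have e := SL2.w_conj_d (s⁻¹ : Fˣ)
            rw [inv_inv] at e
            rw [← e, inv_mul_cancel_right]) v hv
      _ = _ := by rw [Subgroup.coe_mul]; group
  have hinvh : ∀ s, ∀ v ∈ R, (hl s : G)⁻¹ * v * hl s = (hl s⁻¹ : X) * v * ((hl s⁻¹ : X) : G)⁻¹ := fun s v hv => by
    have := hact (hl s)⁻¹ (hl s⁻¹) (by rw [map_inv, hhl, hhl, map_inv]) v hv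
    rwa [Subgroup.coe_inv, inv_inv] at this
  set e : F → G := fun t => (gl t : G) * ((wl : G) * z₀ * (wl : G)⁻¹) * (gl t : G)⁻¹ *
    ((wl : G) * z₀ * (wl : G)⁻¹) with he
  have hv₀ : (wl : G) * z₀ * (wl : G)⁻¹ ∈ R := hXR _ wl.2 _ hz₀.1
  have heZ : ∀ t, e t ∈ Z := fun t => hcZ _ (hglS t) _ hv₀
  have headd : ∀ t t', e (t + t') = e t * e t' := fun t t' => by
    have h1 : e (t + t') = (gl t : G) * gl t' * ((wl : G) * z₀ * (wl : G)⁻¹) * ((gl t : G) * gl t')⁻¹ *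
        ((wl : G) * z₀ * (wl : G)⁻¹) := by
      show _ * _ * _ * _ = _
      rw [hact (gl (t + t')) (gl t * gl t') (by rw [map_mul, hgl, hgl, hgl, SL2.u_add]) _ hv₀,
        Subgroup.coe_mul]
    rw [h1, hcmul _ (hglS t) _ (hglS t') _ hv₀]
    exact hRc _ (heZ t').1 _ (heZ t).1
  -- on units `e` is the torus orbit of `z₀`
  have hesq : ∀ s : Fˣ, e ((s : F) ^ 2) = (hl (s * s) : G) * z₀ * (hl (s * s) : G)⁻¹ := fun s => by
    have hz' := hhZ s z₀ hz₀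
    have hR' : (wl : G) * ((hl s : G) * z₀ * (hl s : G)⁻¹) * (wl : G)⁻¹ ∈ R := hXR _ wl.2 _ hz'.1
    show (gl _ : G) * _ * _ * _ = _
    rw [hact (gl ((s : F) ^ 2)) (hl s * gl 1 * (hl s)⁻¹) (by
      rw [map_mul, map_mul, map_inv, hhl, hgl, hgl, SL2.d_conj_u, mul_one]) _ hv₀]
    have e1 : (hl s : G)⁻¹ * ((wl : G) * z₀ * (wl : G)⁻¹) * hl s =
        wl * ((hl s : G) * z₀ * (hl s : G)⁻¹) * (wl : G)⁻¹ := by
      rw [hinvh s _ hv₀, hwh s⁻¹ _ hz₀.1, inv_inv]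
    calc ((hl s * gl 1 * (hl s)⁻¹ : X) : G) * ((wl : G) * z₀ * (wl : G)⁻¹) *
          ((hl s * gl 1 * (hl s)⁻¹ : X) : G)⁻¹ * ((wl : G) * z₀ * (wl : G)⁻¹)
        = hl s * ((gl 1 : G) * ((hl s : G)⁻¹ * ((wl : G) * z₀ * (wl : G)⁻¹) * hl s) * (gl 1 : G)⁻¹ *
          ((hl s : G)⁻¹ * ((wl : G) * z₀ * (wl : G)⁻¹) * hl s)) * (hl s : G)⁻¹ := by
          simp only [Subgroup.coe_mul, Subgroup.coe_inv]; group
      _ = hl s * ((hl s : G) * z₀ * (hl s : G)⁻¹) * (hl s : G)⁻¹ := by rw [e1, hM1 _ hz']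
      _ = ((hl s * hl s : X) : G) * z₀ * ((hl s * hl s : X) : G)⁻¹ := by rw [Subgroup.coe_mul]; group
      _ = _ := hact _ _ (by rw [map_mul, hhl, hhl, map_mul]) _ hz₀.1
  have heu : ∀ a : Fˣ, e (a : F) = (hl a : G) * z₀ * (hl a : G)⁻¹ := fun a => by
    obtain ⟨r, hr⟩ := (frobeniusEquiv F 2).surjective (a : F)
    have hr2 : r ^ 2 = (a : F) := hr
    have hr0 : r ≠ 0 := fun e0 => a.ne_zero (by rw [← hr2, e0]; ring)
    have := hesq (Units.mk0 r hr0)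
    rw [show Units.mk0 r hr0 * Units.mk0 r hr0 = a from Units.ext (by simp [← hr2, sq])] at this
    rwa [Units.val_mk0, hr2] at this
  set π : G → F := fun g => if hg : g ∈ X then (φ ⟨g, hg⟩ : Matrix.SpecialLinearGroup (Fin 2) F) 0 1 else 0
  have hπS : ∀ g (hg : g ∈ S), φ ⟨g, hS hg⟩ = SL2.u (π g) := fun g hg => by
    obtain ⟨t, ht⟩ := (hSU ⟨g, hS hg⟩).1 hg
    rw [ht]
    congr 1
    simp [π, hS hg, ht]
  refine ⟨⟨fun s => hl s, e, π, wl, fun s => (hl s).2, hhS, heZ, headd, ?_, fun s t => ?_,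
    fun g hg g' hg' => SL2.u_injective ?_, fun g hg => ?_, fun s g hg => SL2.u_injective ?_, wl.2,
    hwnot, fun k hkX hkS z hz => ?_⟩⟩
  · rw [show (1 : F) = ((1 : Fˣ) : F) from rfl, heu]
    exact fun e1 => hz₀1 (conj_eq_one_iff.1 e1)
  · rcases eq_or_ne t 0 with rfl | ht
    · have h0 : e 0 = 1 := by
        have := headd 0 0
        rwa [add_zero, eq_comm, mul_eq_left] at this
      rw [mul_zero, h0, mul_one, mul_inv_cancel]
    obtain ⟨a, rfl⟩ : ∃ a : Fˣ, (a : F) = t := ⟨Units.mk0 t ht, rfl⟩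
    rw [← Units.val_mul, heu, heu]
    calc (hl (s * a) : G) * z₀ * (hl (s * a) : G)⁻¹
        = ((hl s * hl a : X) : G) * z₀ * ((hl s * hl a : X) : G)⁻¹ :=
          hact _ _ (by rw [map_mul, hhl, hhl, hhl, map_mul]) _ hz₀.1
      _ = _ := by rw [Subgroup.coe_mul]; group
  · rw [SL2.u_add, ← hπS _ hg, ← hπS _ hg', ← hπS _ (mul_mem hg hg'), ← map_mul]
    rfl
  · rw [← hker ⟨g, hS hg⟩, hπS g hg, SL2.u_eq_one_iff]
  · have hg' : (hl s : G)⁻¹ * g * hl s ∈ S := by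
      simpa using (Subgroup.mem_normalizer_iff.1 (inv_mem (hhS s)) g).1 hg
    rw [← hπS _ hg', show (⟨(hl s : G)⁻¹ * g * hl s, hS hg'⟩ : X) = (hl s)⁻¹ * ⟨g, hS hg⟩ * hl s from rfl,
      map_mul, map_mul, map_inv, hhl, hπS g hg, ← SL2.d_conj_u s⁻¹ (π g), map_inv, inv_inv]
  · -- an element normalising `S` is a torus element times an element of `S`
    have hkU : φ ⟨k, hkX⟩ ∈ (SL2.B : Subgroup (Matrix.SpecialLinearGroup (Fin 2) F)) := by
      rw [← SL2.normalizer_U]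
      refine Subgroup.mem_normalizer_fintype (S := ((SL2.U : Subgroup (Matrix.SpecialLinearGroup (Fin 2) F)) : Set (Matrix.SpecialLinearGroup (Fin 2) F))) fun y hy => ?_
      obtain ⟨t, rfl⟩ := SL2.mem_U.1 hy
      have hm : k * gl t * k⁻¹ ∈ S := (Subgroup.mem_normalizer_iff.1 hkS _).1 (hglS t)
      obtain ⟨t', ht'⟩ := (hSU ⟨_, hS hm⟩).1 hm
      rw [show (⟨k * gl t * k⁻¹, hS hm⟩ : X) = ⟨k, hkX⟩ * gl t * (⟨k, hkX⟩ : X)⁻¹ from rfl, map_mul,
        map_mul, map_inv, hgl] at ht'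
      rw [ht']; exact SL2.u_mem_U t'
    obtain ⟨t, a, hta⟩ := SL2.eq_u_mul_d hkU
    have hk' : φ ⟨k, hkX⟩ = φ (gl t * hl a) := by rw [map_mul, hgl, hhl]; exact hta
    have hz' := hhZ a z hz
    have e1 : k * z * k⁻¹ = (hl a : G) * z * (hl a : G)⁻¹ := by
      rw [hact ⟨k, hkX⟩ _ hk' z hz.1, Subgroup.coe_mul,
        show (gl t : G) * hl a * z * ((gl t : G) * hl a)⁻¹ = gl t * ((hl a : G) * z * (hl a : G)⁻¹) * (gl t : G)⁻¹ by group,
        hZS _ hz' _ (hglS t)]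
    set v := (wl : G) * z * (wl : G)⁻¹ with hv
    have hvR : v ∈ R := hXR _ wl.2 z hz.1
    set c₁ := (gl t : G)⁻¹ * v * ((gl t : G)⁻¹)⁻¹ * v with hc₁
    have hc₁Z : c₁ ∈ Z := hcZ _ (inv_mem (hglS t)) v hvR
    have e2 : k⁻¹ * v * k = ((hl a : G)⁻¹ * c₁ * hl a) * ((wl : G) * ((hl a : G) * z * (hl a : G)⁻¹) * (wl : G)⁻¹) := by
      have := hact ⟨k, hkX⟩⁻¹ (gl t * hl a)⁻¹ (by rw [map_inv, map_inv, hk']) v hvR
      rw [Subgroup.coe_inv, inv_inv] at this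
      rw [this, Subgroup.coe_inv, Subgroup.coe_mul, inv_inv]
      calc ((gl t : G) * hl a)⁻¹ * v * ((gl t : G) * hl a)
          = (hl a : G)⁻¹ * ((gl t : G)⁻¹ * v * ((gl t : G)⁻¹)⁻¹ * (v * v)) * hl a := by
            rw [hR2 v hvR]; group
        _ = ((hl a : G)⁻¹ * c₁ * hl a) * ((hl a : G)⁻¹ * v * hl a) := by rw [hc₁]; group
        _ = _ := by rw [hv, hinvh a _ hvR, hwh a⁻¹ _ hz.1, inv_inv]
    have hmem : (hl a : G)⁻¹ * c₁ * hl a ∈ Z := by
      rw [hinvh a _ hc₁Z.1]; exact hhZ _ _ hc₁Z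
    rw [e1, e2, hRc _ hmem.1 _ (hXR _ wl.2 _ hz'.1), inv_mul_cancel_left]
    exact hmem

end CfsgLib.CIT
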