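import Cfsg.Agent.CIT.BadCases

/-!
A bad elementary radical subgroup of order `q²` has a partner in its Sylow 2-subgroup, and `q = 4`.
-/

set_option autoImplicit false

namespace CfsgLib.CIT

open CfsgLib.CITThreePrime
open scoped Pointwise

universe u

variable {G : Type u} [Group G] [Finite G]

omit [Finite G] in
/-- A subgroup inside a union of two subgroups lies in one of them. -/
theorem le_or_le_of_subset_union {B P Q : Subgroup G} (hB : ∀ b ∈ B, b ∈ P ∨ b ∈ Q) :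
    B ≤ P ∨ B ≤ Q := by
  by_contra hcon
  push Not at hcon
  obtain ⟨b, hb, hbP⟩ := SetLike.not_le_iff_exists.1 hcon.1
  obtain ⟨c, hc, hcQ⟩ := SetLike.not_le_iff_exists.1 hcon.2
  have hbQ := (hB b hb).resolve_left hbP
  have hcP := (hB c hc).resolve_right hcQ
  rcases hB _ (mul_mem hb hc) with e | e
  · exact hbP (by simpa using mul_mem e (inv_mem hcP))
  · exact hcQ (by simpa using mul_mem (inv_mem hbQ) e)

theorem BadQ.second (h : InvCentTwo G) {R : Subgroup G} {q : ℕ} (hb : BadQ R q)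
    (hR : Nat.card R = q ^ 2) {A : Subgroup G} (hAX : A ≤ Subgroup.normalizer (R : Set G))
    (hAel : Cfsg.IsElementaryAbelian 2 A) (hAR : ¬ A ≤ R) (hAc : q ^ 2 ≤ Nat.card A) :
    IsPGroup 2 ↥(R ⊔ A) ∧ R ⊔ A ≤ Subgroup.normalizer (R : Set G) ∧
      Nat.card ↥(R ⊔ A) = q * Nat.card R ∧ Nat.card A = q ^ 2 ∧
      A ⊓ R = R ⊓ Subgroup.centralizer ((R ⊔ A : Subgroup G) : Set G) ∧
      (∀ g ∈ R ⊔ A, g * g = 1 → g ∈ R ∨ g ∈ A) ∧
      ∀ B ≤ R ⊔ A, Cfsg.IsElementaryAbelian 2 B → q ^ 2 ≤ Nat.card B → B = R ∨ B = A := by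
  classical
  haveI : Fact (Nat.Prime 2) := ⟨Nat.prime_two⟩
  obtain ⟨hAcomm, hA2⟩ := (LocalP.isElementaryAbelian_iff).1 hAel
  obtain ⟨a, ha, haR⟩ := SetLike.not_le_iff_exists.1 hAR
  have ha2 : a * a = 1 := by rw [← sq]; exact hA2 a ha
  have hS2 : IsPGroup 2 ↥(R ⊔ A) :=
    hb.isPGroup.to_sup_of_normal_left' (LocalP.isPGroup_of_isElementaryAbelian hAel) hAX
  have hSX : R ⊔ A ≤ Subgroup.normalizer (R : Set G) := sup_le Subgroup.le_normalizer hAX
  have hle := (hb.card_le_two hSX hS2).1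
  set C := R ⊓ Subgroup.centralizer ({a} : Set G)
  have hAC : A ⊓ R ≤ C := fun y hy =>
    ⟨hy.2, Subgroup.mem_centralizer_singleton_iff.2 (hAcomm y hy.1 a ha)⟩
  have hCq : Nat.card C ≤ q := by
    have h1 := hb.card_fix_sq h (W := R) le_rfl le_rfl (hAX ha) haR ha2
    rw [hR] at h1
    exact (Nat.pow_le_pow_iff_left two_ne_zero).1 h1
  have hm := LocalP.card_mul_le_card_sup_mul_card_inf R A
  rw [inf_comm, hR] at hm
  rw [hR] at hle
  have hq := hb.two_le
  have hAR' : Nat.card ↥(A ⊓ R) ≤ q := (Subgroup.card_le_of_le hAC).trans hCq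
  have h3 : q * q ^ 2 ≤ Nat.card ↥(R ⊔ A) := by
    refine Nat.le_of_mul_le_mul_right ?_ (show 0 < q by omega)
    calc q * q ^ 2 * q = q ^ 2 * q ^ 2 := by ring
      _ ≤ q ^ 2 * Nat.card A := Nat.mul_le_mul_left _ hAc
      _ ≤ Nat.card ↥(R ⊔ A) * Nat.card ↥(A ⊓ R) := hm
      _ ≤ _ := Nat.mul_le_mul_left _ hAR'
  have hSc : Nat.card ↥(R ⊔ A) = q * q ^ 2 := le_antisymm hle h3
  rw [hSc] at hm
  have hAi : Nat.card ↥(A ⊓ R) = q := by
    refine le_antisymm hAR' (Nat.le_of_mul_le_mul_left ?_ (show 0 < q * q ^ 2 by positivity))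
    calc q * q ^ 2 * q = q ^ 2 * q ^ 2 := by ring
      _ ≤ q ^ 2 * Nat.card A := Nat.mul_le_mul_left _ hAc
      _ ≤ _ := hm
  have hAq : Nat.card A = q ^ 2 := by
    refine le_antisymm (Nat.le_of_mul_le_mul_left ?_ (show 0 < q ^ 2 by positivity)) hAc
    rw [hAi] at hm
    exact hm.trans (le_of_eq (by ring))
  obtain ⟨hZc, -⟩ := hb.exists_coord h hR hSX hS2 le_sup_left (by rw [hSc, hR])
  set Z := R ⊓ Subgroup.centralizer ((R ⊔ A : Subgroup G) : Set G)
  have hZC : Z ≤ C := fun y hy => ⟨hy.1, Subgroup.mem_centralizer_singleton_iff.2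
    (Subgroup.mem_centralizer_iff.1 hy.2 a (Subgroup.mem_sup_right ha)).symm⟩
  have hAiC : A ⊓ R = C := Subgroup.eq_of_le_of_card_ge hAC (by rw [hAi]; exact hCq)
  have hAZ : A ⊓ R = Z := (Subgroup.eq_of_le_of_card_ge (hAiC ▸ hZC) (by rw [hAi, hZc])).symm
  have hinv : ∀ g ∈ R ⊔ A, g * g = 1 → g ∈ R ∨ g ∈ A := by
    intro g hg hg2
    obtain ⟨r, hr, b, hbA, rfl⟩ : g ∈ (R : Set G) * (A : Set G) := by
      rw [← Subgroup.coe_mul_of_right_le_normalizer_left R A hAX]; exact hg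
    by_cases hbR : b ∈ R
    · exact Or.inl (mul_mem hr hbR)
    refine Or.inr (mul_mem ?_ hbA)
    have hb2 : b * b = 1 := by rw [← sq]; exact hA2 b hbA
    have hfix : b * r * b⁻¹ = r := by
      have e1 : r * (b * r * b⁻¹) = 1 := by
        calc r * (b * r * b⁻¹) = (r * b * (r * b)) * (b * b)⁻¹ := by group
          _ = 1 := by rw [hg2, hb2]; group
      have hr2 : r * r = 1 := by
        have hRV : omegaZ R = R := Subgroup.eq_of_le_of_card_ge (fun z hz => hz.1)
          (by rw [hR, hb.card_omegaZ])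
        exact (hRV.ge hr).2.2
      exact (eq_inv_of_mul_eq_one_right e1).trans (inv_eq_of_mul_eq_one_right hr2)
    have hCb : A ⊓ R = R ⊓ Subgroup.centralizer ({b} : Set G) := by
      refine Subgroup.eq_of_le_of_card_ge (fun y hy =>
        ⟨hy.2, Subgroup.mem_centralizer_singleton_iff.2 (hAcomm y hy.1 b hbA)⟩) ?_
      rw [hAi]
      have h1 := hb.card_fix_sq h (W := R) le_rfl le_rfl (hAX hbA) hbR hb2
      rw [hR] at h1
      exact (Nat.pow_le_pow_iff_left two_ne_zero).1 h1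
    exact (hCb.ge ⟨hr, Subgroup.mem_centralizer_singleton_iff.2
      (mul_inv_eq_iff_eq_mul.1 hfix).symm⟩).1
  refine ⟨hS2, hSX, by rw [hSc, hR], hAq, hAZ, hinv, fun B hB hBel hBc => ?_⟩
  rcases le_or_le_of_subset_union (fun b hbB => hinv b (hB hbB)
    (by rw [← sq]; exact ((LocalP.isElementaryAbelian_iff).1 hBel).2 b hbB)) with hle' | hle'
  · exact Or.inl (Subgroup.eq_of_le_of_card_ge hle' (by rw [hR]; exact hBc))
  · exact Or.inr (Subgroup.eq_of_le_of_card_ge hle' (by rw [hAq]; exact hBc))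

/-- The partner of `R` is itself a bad radical subgroup. -/
theorem BadQ.exists_partner (h : InvCentTwo G) (hsec : GoodSections G) (hO : Cfsg.pCore 2 G = ⊥)
    {R : Subgroup G} {q : ℕ} (hq4 : 4 ≤ q) (hb : BadQ R q) :
    ∃ A : Subgroup G, BadQ A q ∧ Nat.card A = q ^ 2 ∧ A ≤ Subgroup.normalizer (R : Set G) ∧
      Cfsg.IsElementaryAbelian 2 A ∧ ¬ A ≤ R ∧ R ≤ Subgroup.normalizer (A : Set G) := by
  classical
  haveI : Fact (Nat.Prime 2) := ⟨Nat.prime_two⟩
  have hR := hb.card_eq h hO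
  have hRV : omegaZ R = R := Subgroup.eq_of_le_of_card_ge (fun z hz => hz.1)
    (by rw [hR, hb.card_omegaZ])
  have hRel : Cfsg.IsElementaryAbelian 2 R := (LocalP.isElementaryAbelian_iff).2
    ⟨fun z hz z' hz' => hb.omegaZ_comm (hRV.ge hz) (hRV.ge hz'),
      fun z hz => (sq z).trans (hRV.ge hz).2.2⟩
  obtain ⟨A, hAX, hAel, hAR, hAc⟩ := hb.exists_elementary
  obtain ⟨hS2, hSX, hSc, hAq, hAZ, hinv, honly⟩ := hb.second h hR hAX hAel hAR hAc
  set S := R ⊔ A with hS
  -- elements normalising `S` permute `R` and `A`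
  have hperm : ∀ y ∈ Subgroup.normalizer (S : Set G), R.map (MulAut.conj y).toMonoidHom = R ∨
      R.map (MulAut.conj y).toMonoidHom = A := fun y hy => by
    refine honly _ ?_ (LocalP.isElementaryAbelian_map _ hRel) ?_
    · rintro _ ⟨r, hr, rfl⟩
      exact (Subgroup.mem_normalizer_iff.1 hy r).1 (Subgroup.mem_sup_left hr)
    · rw [Subgroup.card_map_of_injective (f := (MulAut.conj y).toMonoidHom) (MulAut.conj y).injective, hR]
  have hRA : R ≤ Subgroup.normalizer (A : Set G) := by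
    intro r hr
    rw [Subgroup.mem_normalizer_iff_map_conj_eq]
    rcases honly (A.map (MulAut.conj r).toMonoidHom) (by
        rintro _ ⟨y, hy, rfl⟩
        exact mul_mem (mul_mem (Subgroup.mem_sup_left hr) (Subgroup.mem_sup_right hy))
          (inv_mem (Subgroup.mem_sup_left hr)))
      (LocalP.isElementaryAbelian_map _ hAel)
      (by rw [Subgroup.card_map_of_injective (f := (MulAut.conj r).toMonoidHom) (MulAut.conj r).injective, hAq]) with e | e
    · exfalso
      apply hAR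
      intro y hy
      have h1 : r * y * r⁻¹ ∈ R := e.le ⟨y, hy, rfl⟩
      simpa [mul_assoc] using mul_mem (mul_mem (inv_mem hr) h1) hr
    · exact e
  suffices hBad : BadQ A q from ⟨A, hBad, hAq, hAX, hAel, hAR, hRA⟩
  by_cases hsyl : ∀ E : Subgroup G, IsPGroup 2 E → Nat.card E ≤ q * Nat.card R
  rotate_left
  · push Not at hsyl
    obtain ⟨E, hE, hEc⟩ := hsyl
    obtain ⟨P, hP⟩ := hS2.exists_le_sylow
    have hne : S ≠ P := fun e => by
      have h1 := card_le_sylow P hE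
      rw [← e, hSc] at h1
      omega
    obtain ⟨y, hyP, hyN, hyS⟩ := exists_gt_normalizer P.2 hP hne
    rcases hperm y hyN with e | e
    · exfalso
      have hy : y ∈ Subgroup.normalizer (R : Set G) := Subgroup.mem_normalizer_iff_map_conj_eq.2 e
      have hle := (hb.card_le_two (sup_le hSX (Subgroup.zpowers_le.2 hy))
        (P.2.to_le (sup_le hP (Subgroup.zpowers_le.2 hyP)))).1
      rw [← hSc] at hle
      have := Subgroup.eq_of_le_of_card_ge le_sup_left hle
      exact hyS (this.ge (Subgroup.mem_sup_right (Subgroup.mem_zpowers y)))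
    · exact e ▸ hb.map_conj y
  -- here `S` is a Sylow 2-subgroup of `G`
  obtain ⟨a₁, g₁, v₁, ha₁X, ha₁R, hv₁, hv₁1, hga₁⟩ := hb.exists_outer_conj h hO hsyl
  -- move `a₁` into `S`
  obtain ⟨x, hxX, hxa⟩ : ∃ x ∈ Subgroup.normalizer (R : Set G), x * a₁ * x⁻¹ ∈ S := by
    set X := Subgroup.normalizer (R : Set G) with hXd
    have hSmax : ∀ {E : Subgroup X}, IsPGroup 2 E → S.subgroupOf X ≤ E → E = S.subgroupOf X := by
      intro E hE hle
      refine (Subgroup.eq_of_le_of_card_ge hle ?_).symm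
      rw [Nat.card_congr (Subgroup.subgroupOfEquivOfLe hSX).toEquiv, hSc,
        ← Subgroup.card_map_of_injective (f := X.subtype) Subtype.val_injective (K := E)]
      exact (hb.card_le_two (Subgroup.map_subtype_le E) (hE.map _)).1
    let P : Sylow 2 X := ⟨S.subgroupOf X,
      hS2.of_equiv (Subgroup.subgroupOfEquivOfLe hSX).symm, @hSmax⟩
    have ha : IsPGroup 2 (Subgroup.zpowers (⟨a₁, ha₁X⟩ : X)) := by
      refine IsPGroup.of_card (n := 1) ?_
      rw [Nat.card_zpowers, pow_one, ← Subgroup.orderOf_coe]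
      show orderOf a₁ = 2
      exact orderOf_eq_prime (by
        rw [← hga₁, sq]
        calc g₁ * v₁ * g₁⁻¹ * (g₁ * v₁ * g₁⁻¹) = g₁ * (v₁ * v₁) * g₁⁻¹ := by group
          _ = 1 := by rw [hv₁.2.2]; group) (fun e => ha₁R (e ▸ one_mem R))
    obtain ⟨Q, hQ⟩ := ha.exists_le_sylow
    obtain ⟨m, rfl⟩ := MulAction.exists_smul_eq X P Q
    have h1 := hQ (Subgroup.mem_zpowers _)
    rw [Sylow.smul_def, Sylow.pointwise_smul_def, Subgroup.mem_pointwise_smul_iff_inv_smul_mem,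
      ← map_inv, MulAut.smul_def, MulAut.conj_apply] at h1
    refine ⟨((m : X) : G)⁻¹, inv_mem m.2, ?_⟩
    have h2 : ((m⁻¹ * (⟨a₁, ha₁X⟩ : X) * m⁻¹⁻¹ : X) : G) ∈ S := h1
    simpa using h2
  obtain ⟨v, hv, hv1⟩ : ∃ v ∈ R ⊓ Subgroup.centralizer (S : Set G), v ≠ 1 := by
    obtain ⟨hZc, -⟩ := hb.exists_coord h hR hSX hS2 le_sup_left hSc
    exact ((Subgroup.bot_or_exists_ne_one _).resolve_left fun e => by
      rw [e, Subgroup.card_bot] at hZc; omega)
  obtain ⟨n, hn, hnv⟩ := (hb.transitive h (hRV.ge hv.1) hv1).1 v₁ hv₁ hv₁1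
  set g := x * g₁ * n with hg
  set a := x * a₁ * x⁻¹ with ha
  have hga : g * v * g⁻¹ = a := by
    rw [ha, ← hga₁, ← hnv, hg]; group
  have haR : a ∉ R := fun hm => ha₁R (by
    have := (Subgroup.mem_normalizer_iff.1 hxX a₁).2 hm
    exact this)
  have ha2 : a * a = 1 := by
    rw [← hga, show g * v * g⁻¹ * (g * v * g⁻¹) = g * (v * v) * g⁻¹ by group, (hRV.ge hv.1).2.2]; group
  have haA : a ∈ A := (hinv a hxa ha2).resolve_left haR
  have ha1 : a ≠ 1 := fun e => haR (e ▸ one_mem R)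
  -- `C(a)` is the conjugate of `S`
  have hCv : Subgroup.centralizer ({v} : Set G) = S := by
    refine (Subgroup.eq_of_le_of_card_ge (fun s hs => Subgroup.mem_centralizer_singleton_iff.2
      (Subgroup.mem_centralizer_iff.1 hv.2 s hs)) ?_).symm
    rw [hSc]
    exact hsyl _ (h v (orderOf_eq_prime (by rw [sq]; exact (hRV.ge hv.1).2.2) hv1))
  have hCa : ∀ y, y ∈ Subgroup.centralizer ({a} : Set G) → g⁻¹ * y * g ∈ S := fun y hy => by
    rw [← hCv, Subgroup.mem_centralizer_singleton_iff]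
    have h1 := Subgroup.mem_centralizer_singleton_iff.1 hy
    rw [← hga] at h1
    calc g⁻¹ * y * g * v = g⁻¹ * (y * (g * v * g⁻¹)) * g := by group
      _ = g⁻¹ * ((g * v * g⁻¹) * y) * g := by rw [h1]
      _ = _ := by group
  -- the subgroup `A` pulled back
  have hAg : A.map (MulAut.conj g⁻¹).toMonoidHom = R ∨ A.map (MulAut.conj g⁻¹).toMonoidHom = A := by
    refine honly _ ?_ (LocalP.isElementaryAbelian_map _ hAel) ?_
    · rintro _ ⟨y, hy, rfl⟩
      show g⁻¹ * y * g⁻¹⁻¹ ∈ S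
      rw [inv_inv]
      exact hCa y (Subgroup.mem_centralizer_singleton_iff.2
        (((LocalP.isElementaryAbelian_iff).1 hAel).1 y hy a haA))
    · rw [Subgroup.card_map_of_injective (f := (MulAut.conj g⁻¹).toMonoidHom) (MulAut.conj g⁻¹).injective, hAq]
  rcases hAg with e | e
  · have e' : R.map (MulAut.conj g).toMonoidHom = A := by
      rw [← e, Subgroup.map_map]
      convert Subgroup.map_id A using 2
      ext y; simp [mul_assoc]
    exact e' ▸ hb.map_conj g
  -- `g` normalises `A` and moves `v` out of `R`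
  have hgA : g ∈ Subgroup.normalizer (A : Set G) :=
    inv_mem_iff.1 (Subgroup.mem_normalizer_iff_map_conj_eq.2 e)
  have hgS : S.map (MulAut.conj g).toMonoidHom ≠ S := fun e' => by
    have hgN : g ∈ Subgroup.normalizer (S : Set G) := Subgroup.mem_normalizer_iff_map_conj_eq.2 e'
    rcases hperm g hgN with e1 | e1
    · exact haR (e1.le ⟨v, hv.1, hga⟩)
    · have : A.map (MulAut.conj g).toMonoidHom = R.map (MulAut.conj g).toMonoidHom := by
        rw [e1]; exact Subgroup.mem_normalizer_iff_map_conj_eq.1 hgA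
      exact hAR (Subgroup.map_injective (f := (MulAut.conj g).toMonoidHom) (MulAut.conj g).injective this).le
  set NA := Subgroup.normalizer (A : Set G) with hNA
  have hSNA : S ≤ NA := sup_le hRA Subgroup.le_normalizer
  have hgSNA : S.map (MulAut.conj g).toMonoidHom ≤ NA := by
    rintro _ ⟨s, hs, rfl⟩; exact mul_mem (mul_mem hgA (hSNA hs)) (inv_mem hgA)
  set R₂ := Cfsg.pCoreOf 2 NA with hR₂
  have hAR₂ : A ≤ R₂ := le_pCoreOf Subgroup.le_normalizer le_rfl (LocalP.isPGroup_of_isElementaryAbelian hAel)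
  have hmaxS : ∀ E : Subgroup G, S ≤ E → IsPGroup 2 E → E ≤ S := fun E hle hE => by
    rw [Subgroup.eq_of_le_of_card_ge hle (by rw [hSc]; exact hsyl E hE)]
  have hR₂S : R₂ ≤ S := le_sup_right.trans (hmaxS _ le_sup_left
    (hS2.to_sup_of_normal_right' isPGroup_pCoreOf (hSNA.trans le_normalizer_pCoreOf)))
  have hRR₂ : ¬ R ≤ R₂ := by
    intro hle
    have hSR₂ : S ≤ R₂ := sup_le hle hAR₂
    refine hgS (le_antisymm ?_ ?_)
    · rintro _ ⟨s, hs, rfl⟩
      exact hR₂S ((Subgroup.mem_normalizer_iff.1 (le_normalizer_pCoreOf hgA) s).1 (hSR₂ hs))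
    · intro s hs
      have h1 : g⁻¹ * s * g ∈ R₂ := by
        simpa using (Subgroup.mem_normalizer_iff.1 (inv_mem (le_normalizer_pCoreOf (H := NA) hgA)) s).1 (hSR₂ hs)
      exact ⟨_, hR₂S h1, show g * (g⁻¹ * s * g) * g⁻¹ = s by group⟩
  have hN₂ : Subgroup.normalizer (R₂ : Set G) = NA := by
    refine le_antisymm (fun y hy => ?_) le_normalizer_pCoreOf
    rw [hNA, Subgroup.mem_normalizer_iff_map_conj_eq]
    have hsub : A.map (MulAut.conj y).toMonoidHom ≤ R₂ := by
      rintro _ ⟨z, hz, rfl⟩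
      exact (Subgroup.mem_normalizer_iff.1 hy z).1 (hAR₂ hz)
    rcases honly _ (hsub.trans hR₂S) (LocalP.isElementaryAbelian_map _ hAel)
      (by rw [Subgroup.card_map_of_injective (f := (MulAut.conj y).toMonoidHom) (MulAut.conj y).injective, hAq]) with e1 | e1
    · exact absurd (e1 ▸ hsub) hRR₂
    · exact e1
  have hrad : Radical R₂ := by
    refine ⟨fun e => hAR (hAR₂.trans (e ▸ bot_le)), ?_⟩
    rw [hN₂]
  have hSmax : Maximal (fun E : Subgroup G => E ≤ Subgroup.normalizer (R₂ : Set G) ∧ IsPGroup 2 E) S :=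
    ⟨⟨hN₂ ▸ hSNA, hS2⟩, fun E hE hle => hmaxS E hle hE.2⟩
  have hJ : ¬ Cfsg.thompsonSubgroupOf 2 S ≤ R₂ := by
    intro hle
    refine hRR₂ (le_trans ?_ hle)
    rw [LocalP.thompsonSubgroupOf_eq_sSup]
    refine le_sSup ⟨le_sup_left, hRel, fun B hB hBel => ?_⟩
    rcases le_or_gt (q ^ 2) (Nat.card B) with hle' | hlt
    · rcases honly B hB hBel hle' with e1 | e1 <;> rw [e1]
      rw [hAq, hR]
    · rw [hR]; exact hlt.le
  rcases bad_cases h hsec hrad hSmax hJ with h6 | ⟨q', hq', hbq⟩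
  · exfalso
    have hle : A ≤ omegaZ R₂ := fun z hz => h6.mem_omegaZ z (hAR₂ hz)
      (by rw [← sq]; exact ((LocalP.isElementaryAbelian_iff).1 hAel).2 z hz)
    have h1 := Subgroup.card_le_of_le hle
    rw [hAq, h6.card_omegaZ] at h1
    nlinarith
  · have hR₂c := hbq.card_eq h hO
    have hel : Cfsg.IsElementaryAbelian 2 R₂ := by
      have hV : omegaZ R₂ = R₂ := Subgroup.eq_of_le_of_card_ge (fun z hz => hz.1)
        (by rw [hR₂c, hbq.card_omegaZ])
      exact (LocalP.isElementaryAbelian_iff).2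
        ⟨fun z hz z' hz' => hbq.omegaZ_comm (hV.ge hz) (hV.ge hz'), fun z hz => (sq z).trans (hV.ge hz).2.2⟩
    have hA₂ : R₂ = A := by
      rcases honly R₂ hR₂S hel (hAq ▸ Subgroup.card_le_of_le hAR₂) with e1 | e1
      · exact absurd e1.ge hRR₂
      · exact e1
    rw [hA₂, hAq] at hR₂c
    obtain rfl : q = q' := Nat.pow_left_injective two_ne_zero hR₂c
    exact hA₂ ▸ hbq

/-- A bad radical subgroup with `SL₂(q)` on top has `q = 4`. -/
theorem BadQ.q_eq_four (h : InvCentTwo G) (hsec : GoodSections G) (hO : Cfsg.pCore 2 G = ⊥)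
    {R : Subgroup G} {q : ℕ} (hq4 : 4 ≤ q) (hb : BadQ R q) : q = 4 := by
  classical
  haveI : Fact (Nat.Prime 2) := ⟨Nat.prime_two⟩
  have hR := hb.card_eq h hO
  obtain ⟨A, hbA, hAq, hAX, hAel, hAR, hRA⟩ := hb.exists_partner h hsec hO hq4
  obtain ⟨hS2, hSX, hSc, -, hAZ, -, honly⟩ := hb.second h hR hAX hAel hAR hAq.ge
  set S := R ⊔ A with hS
  set Z := R ⊓ Subgroup.centralizer (S : Set G) with hZ
  obtain ⟨hZc, F, _, _, _, hF, ⟨c⟩⟩ := hb.exists_coord h hR hSX hS2 le_sup_left hSc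
  have hSA : S ≤ Subgroup.normalizer (A : Set G) := sup_le hRA Subgroup.le_normalizer
  obtain ⟨hZc', F', _, _, _, -, ⟨c'⟩⟩ := hbA.exists_coord h hAq hSA hS2 le_sup_right
    (by rw [hSc, hR, hAq])
  have hZZ : Z = A ⊓ Subgroup.centralizer (S : Set G) :=
    Subgroup.eq_of_le_of_card_ge (fun z hz => ⟨(hAZ.ge hz).1, hz.2⟩) (by rw [hZc, hZc'])
  -- torus elements normalise `A`
  have hsA : ∀ s, c.hs s ∈ Subgroup.normalizer (A : Set G) := fun s => by
    rw [Subgroup.mem_normalizer_iff_map_conj_eq]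
    rcases honly (A.map (MulAut.conj (c.hs s)).toMonoidHom) (by
        rintro _ ⟨y, hy, rfl⟩
        exact (Subgroup.mem_normalizer_iff.1 (c.hs_normalizer' s) y).1 (Subgroup.mem_sup_right hy))
      (LocalP.isElementaryAbelian_map _ hAel)
      (by rw [Subgroup.card_map_of_injective (f := (MulAut.conj (c.hs s)).toMonoidHom) (MulAut.conj (c.hs s)).injective, hAq]) with e | e
    · exfalso
      apply hAR
      intro y hy
      exact (Subgroup.mem_normalizer_iff.1 (c.hs_normalizer s) y).2 (e.le ⟨y, hy, rfl⟩)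
    · exact e
  let θ : F → G := fun x => c'.w * c.e x * c'.w⁻¹
  have hθA : ∀ x, θ x ∈ A := fun x =>
    (Subgroup.mem_normalizer_iff.1 c'.w_mem _).1 (hZZ.le (c.e_mem x)).1
  have hθS : ∀ x, θ x ∈ S := fun x => Subgroup.mem_sup_right (hθA x)
  let f : F → F := fun x => c.π (θ x)
  have hfadd : ∀ x y, f (x + y) = f x + f y := fun x y => by
    show c.π (θ (x + y)) = _
    rw [show θ (x + y) = θ x * θ y by simp only [θ, c.e_add]; group,
      c.π_mul _ (hθS x) _ (hθS y)]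
  have hfmul : ∀ (s : Fˣ) (x : F), f ((s : F) * x) = ((s⁻¹ : Fˣ) : F) ^ 2 * f x := fun s x => by
    show c.π (θ _) = _
    have hmem := c'.w_twist (c.hs s) (hsA s) (c.hs_normalizer' s) (c.e x) (hZZ.le (c.e_mem x))
    rw [← c.e_mul] at hmem
    set y₁ := θ ((s : F) * x) with hy₁
    set y₂ := (c.hs s)⁻¹ * θ x * c.hs s with hy₂
    have hy₂S : y₂ ∈ S := by
      simpa using (Subgroup.mem_normalizer_iff.1 (inv_mem (c.hs_normalizer' s)) _).1 (hθS x)
    have hd : y₁⁻¹ * y₂ ∈ R := (hZZ.ge hmem).1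
    have h0 : c.π (y₁⁻¹ * y₂) = 0 := (c.π_eq_zero _ (mul_mem (inv_mem (hθS _)) hy₂S)).2 hd
    have e1 := c.π_mul y₁ (hθS _) _ (mul_mem (inv_mem (hθS ((s : F) * x))) hy₂S)
    rw [mul_inv_cancel_left, h0, add_zero] at e1
    rw [← c.π_conj s _ (hθS x), e1]
  have hf1 : f 1 ≠ 0 := fun e => by
    have hθR : θ 1 ∈ R := (c.π_eq_zero _ (hθS 1)).1 e
    exact c'.w_not_mem _ (hZZ.le (c.e_mem 1)) c.e_one (hZZ.le (hAZ.le ⟨hθA 1, hθR⟩))
  have hfv : ∀ x : F, x ≠ 0 → f x = (x⁻¹) ^ 2 * f 1 := fun x hx => by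
    have := hfmul (Units.mk0 x hx) 1
    rwa [mul_one, Units.val_mk0, Units.val_inv_eq_inv_val, Units.val_mk0] at this
  have h2 : (2 : F) = 0 := CharTwo.two_eq_zero
  have hroot : ∀ x : F, x ≠ 0 → x ≠ 1 → x ^ 2 + x + 1 = 0 := fun x hx hx1 => by
    have hx1' : 1 + x ≠ 0 := fun e => hx1 (by linear_combination e - h2)
    have h3 := hfadd 1 x
    rw [hfv _ hx1', hfv x hx] at h3
    have h4 : ((1 + x)⁻¹) ^ 2 = (1 + x⁻¹) ^ 2 := by
      refine mul_right_cancel₀ hf1 ?_
      linear_combination h3 - (x⁻¹ * f 1) * h2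
    have h5 : (1 + x)⁻¹ = 1 + x⁻¹ := by
      have h6 : ((1 + x)⁻¹ - (1 + x⁻¹)) ^ 2 = 0 := by
        linear_combination h4 + ((1 + x⁻¹) ^ 2 - (1 + x)⁻¹ * (1 + x⁻¹)) * h2
      exact sub_eq_zero.1 (pow_eq_zero_iff two_ne_zero |>.1 h6)
    field_simp at h5
    linear_combination -h5
  by_contra hne
  have hq5 : 5 ≤ Fintype.card F := by omega
  open Polynomial in
  have hp : (X ^ 2 + X + 1 : F[X]).roots.toFinset.card ≤ 2 := by
    refine (Multiset.toFinset_card_le _).trans ((Polynomial.card_roots' _).trans ?_)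
    compute_degree!
  have hsub : (Finset.univ : Finset F) \ {0, 1} ⊆ (Polynomial.X ^ 2 + Polynomial.X + 1 : Polynomial F).roots.toFinset := by
    intro x hx
    simp only [Finset.mem_sdiff, Finset.mem_univ, Finset.mem_insert, Finset.mem_singleton, not_or,
      true_and] at hx
    rw [Multiset.mem_toFinset, Polynomial.mem_roots', Polynomial.IsRoot.def]
    refine ⟨fun e => ?_, by simp [hroot x hx.1 hx.2]⟩
    have := congrArg (Polynomial.eval 0) e
    simp at this
  have h7 := (Finset.card_le_card hsub).trans hp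
  rw [Finset.card_sdiff_of_subset (Finset.subset_univ _), Finset.card_univ, Finset.card_pair zero_ne_one] at h7
  omega

end CfsgLib.CIT
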