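import Cfsg.Agent.CIT.BadQFour
import Cfsg.Agent.Transfer.ThompsonTransfer
import Cfsg.Agent.Classical.Linear.Simple

/-!
A simple CIT group with a bad radical subgroup of order 16 has Sylow 2-subgroups of order 64.
-/

set_option autoImplicit false

namespace CfsgLib.CIT

open CfsgLib.CITThreePrime
open scoped Pointwise

universe u

variable {G : Type u} [Group G] [Finite G]

theorem not_isSolvable_sl_two {F : Type} [Field F] [Fintype F] (h : 4 ≤ Fintype.card F) :
    ¬ Group.IsSolvable (Matrix.SpecialLinearGroup (Fin 2) F) := by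
  haveI : Group.IsPerfect (Matrix.SpecialLinearGroup (Fin 2) F) :=
    ⟨Classical.Linear.commutator_sl_fin_eq_top 2 fun _ =>
      Classical.Linear.exists_sq_ne_one_of_four_le (by rwa [Nat.card_eq_fintype_card])⟩
  haveI : Nontrivial (Matrix.SpecialLinearGroup (Fin 2) F) := by
    rw [← Finite.one_lt_card_iff_nontrivial, Classical.Linear.card_sl_two]
    have h1 : 4 ^ 2 ≤ Fintype.card F ^ 2 := Nat.pow_le_pow_left h 2
    calc 1 < 4 * 1 := by norm_num
      _ ≤ _ := Nat.mul_le_mul h (by omega)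
  exact Group.IsPerfect.not_isSolvable _

theorem BadQ.not_isSolvable_normalizer {R : Subgroup G} {q : ℕ} (hq4 : 4 ≤ q) (hb : BadQ R q) :
    ¬ Group.IsSolvable (Subgroup.normalizer (R : Set G)) := by
  obtain ⟨F, _, _, _, φ, hF, hsur, -⟩ := hb.exists_quot
  intro hsol
  haveI := hsol
  exact not_isSolvable_sl_two (hF ▸ hq4) (Group.isSolvable_of_surjective hsur)

theorem BadQ.omegaZ_eq {R : Subgroup G} {q : ℕ} (hb : BadQ R q) (hR : Nat.card R = q ^ 2) :
    omegaZ R = R :=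
  Subgroup.eq_of_le_of_card_ge (fun _ hz => hz.1) (by rw [hR, hb.card_omegaZ])

theorem BadQ.sq_eq_one {R : Subgroup G} {q : ℕ} (hb : BadQ R q) (hR : Nat.card R = q ^ 2) {z : G}
    (hz : z ∈ R) : z * z = 1 :=
  ((hb.omegaZ_eq hR).ge hz).2.2

/-- The facts about a Sylow 2-subgroup of a simple CIT group with a bad radical subgroup. -/
structure SixtyFour (T V₁ V₂ : Subgroup G) : Prop where
  isPGroup : IsPGroup 2 T
  card_T : Nat.card T = 64
  card_le : ∀ E : Subgroup G, IsPGroup 2 E → Nat.card E ≤ 64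
  le₁ : V₁ ≤ T
  le₂ : V₂ ≤ T
  ne : V₁ ≠ V₂
  exp₁ : ∀ v ∈ V₁, v * v = 1
  exp₂ : ∀ v ∈ V₂, v * v = 1
  card₁ : Nat.card V₁ = 16
  card₂ : Nat.card V₂ = 16
  sup : ∀ t ∈ T, ∃ a ∈ V₁, ∃ b ∈ V₂, t = a * b
  only : ∀ A ≤ T, (∀ a ∈ A, a * a = 1) → Nat.card A = 16 → A = V₁ ∨ A = V₂
  card_inf : Nat.card ↥(V₁ ⊓ V₂) = 4
  inv : ∀ g ∈ T, g * g = 1 → g ∈ V₁ ∨ g ∈ V₂
  cent : ∀ z ∈ V₁ ⊓ V₂, z ≠ 1 → Subgroup.centralizer ({z} : Set G) = T
  cent₁ : Subgroup.centralizer (V₁ : Set G) = V₁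
  cent₂ : Subgroup.centralizer (V₂ : Set G) = V₂
  normalizer₁ : Nat.card (Subgroup.normalizer (V₁ : Set G)) = 960
  normalizer₂ : Nat.card (Subgroup.normalizer (V₂ : Set G)) = 960
  le_normalizer₁ : T ≤ Subgroup.normalizer (V₁ : Set G)
  le_normalizer₂ : T ≤ Subgroup.normalizer (V₂ : Set G)
  ns₁ : ¬ Group.IsSolvable (Subgroup.normalizer (V₁ : Set G))
  ns₂ : ¬ Group.IsSolvable (Subgroup.normalizer (V₂ : Set G))
  trans₁ : ∀ v ∈ V₁, v ≠ 1 → ∀ w ∈ V₁, w ≠ 1 →
    ∃ g ∈ Subgroup.normalizer (V₁ : Set G), g * v * g⁻¹ = w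
  trans₂ : ∀ v ∈ V₂, v ≠ 1 → ∀ w ∈ V₂, w ≠ 1 →
    ∃ g ∈ Subgroup.normalizer (V₂ : Set G), g * v * g⁻¹ = w

set_option maxHeartbeats 1600000 in
/-- `R ⊔ A` is a Sylow 2-subgroup. -/
theorem BadQ.card_two_le_sixtyfour [IsSimpleGroup G] (h : InvCentTwo G) {R : Subgroup G}
    (hb : BadQ R 4) (hR : Nat.card R = 4 ^ 2) {A : Subgroup G} (hbA : BadQ A 4)
    (hAq : Nat.card A = 4 ^ 2) (hAX : A ≤ Subgroup.normalizer (R : Set G))
    (hAel : Cfsg.IsElementaryAbelian 2 A) (hAR : ¬ A ≤ R)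
    (hRA : R ≤ Subgroup.normalizer (A : Set G)) :
    ∀ E : Subgroup G, IsPGroup 2 E → Nat.card E ≤ 64 := by
  classical
  haveI : Fact (Nat.Prime 2) := ⟨Nat.prime_two⟩
  obtain ⟨hS2, hSX, hSc, -, hAZ, hinv, honly⟩ := hb.second h hR hAX hAel hAR hAq.ge
  obtain ⟨hZc, F, _, _, _, hF, ⟨c₀⟩⟩ := hb.exists_coord h hR hSX hS2 le_sup_left hSc
  set S := R ⊔ A with hS
  set Z := R ⊓ Subgroup.centralizer (S : Set G) with hZ
  have hS64 : Nat.card S = 64 := by rw [hSc, hR]; norm_num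
  have hRel : Cfsg.IsElementaryAbelian 2 R := (LocalP.isElementaryAbelian_iff).2
    ⟨fun z hz z' hz' => hb.omegaZ_comm ((hb.omegaZ_eq hR).ge hz) ((hb.omegaZ_eq hR).ge hz'),
      fun z hz => (sq z).trans (hb.sq_eq_one hR hz)⟩
  intro E hE
  by_contra hEc
  push Not at hEc
  obtain ⟨P, hP⟩ := hS2.exists_le_sylow
  have hne : S ≠ P := fun e => by
    have h1 := card_le_sylow P hE
    rw [← e, hS64] at h1
    omega
  obtain ⟨y, hyP, hyN, hyS⟩ := exists_gt_normalizer P.2 hP hne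
  -- elements of `P` normalising `S` outside `S` interchange `R` and `A`
  have hswap : ∀ g ∈ P, g ∈ Subgroup.normalizer (S : Set G) → g ∉ S →
      R.map (MulAut.conj g).toMonoidHom = A ∧ A.map (MulAut.conj g).toMonoidHom = R := by
    intro g hgP hgN hgS
    have hm : ∀ B : Subgroup G, B ≤ S → Cfsg.IsElementaryAbelian 2 B → Nat.card B = 4 ^ 2 →
        B.map (MulAut.conj g).toMonoidHom = R ∨ B.map (MulAut.conj g).toMonoidHom = A := by
      intro B hB hBel hBc
      refine honly _ ?_ (LocalP.isElementaryAbelian_map _ hBel) ?_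
      · rintro _ ⟨b, hb', rfl⟩
        exact (Subgroup.mem_normalizer_iff.1 hgN b).1 (hB hb')
      · rw [Subgroup.card_map_of_injective (f := (MulAut.conj g).toMonoidHom) (MulAut.conj g).injective, hBc]
    have h1 : R.map (MulAut.conj g).toMonoidHom ≠ R := fun e => by
      have hy : g ∈ Subgroup.normalizer (R : Set G) := Subgroup.mem_normalizer_iff_map_conj_eq.2 e
      have hle := (hb.card_le_two (sup_le hSX (Subgroup.zpowers_le.2 hy))
        (P.2.to_le (sup_le hP (Subgroup.zpowers_le.2 hgP)))).1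
      rw [← hSc] at hle
      have := Subgroup.eq_of_le_of_card_ge le_sup_left hle
      exact hgS (this.ge (Subgroup.mem_sup_right (Subgroup.mem_zpowers g)))
    have h2 := (hm R le_sup_left hRel hR).resolve_left h1
    refine ⟨h2, (hm A le_sup_right hAel hAq).resolve_right fun e => hAR ?_⟩
    exact (Subgroup.map_injective (f := (MulAut.conj g).toMonoidHom) (MulAut.conj g).injective
      (e.trans h2.symm)).le
  have hcoset : ∀ g ∈ P, g ∈ Subgroup.normalizer (S : Set G) → g ∈ S ∨ y⁻¹ * g ∈ S := by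
    intro g hgP hgN
    refine or_iff_not_imp_left.2 fun hgS => ?_
    by_contra hcon
    have h1 := (hswap _ (mul_mem (inv_mem hyP) hgP) (mul_mem (inv_mem hyN) hgN) hcon).1
    have h2 := (hswap g hgP hgN hgS).1
    have h3 := (hswap y hyP hyN hyS).1
    have h4 : (R.map (MulAut.conj (y⁻¹ * g)).toMonoidHom).map (MulAut.conj y).toMonoidHom =
        R.map (MulAut.conj g).toMonoidHom := by
      rw [Subgroup.map_map]
      congr 1
      ext v
      simp [mul_assoc]
    rw [h1, h2] at h4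
    refine hAR ?_
    exact (Subgroup.map_injective (f := (MulAut.conj y).toMonoidHom) (MulAut.conj y).injective
      (h4.trans h3.symm)).le
  -- elementary subgroups of order 16 of `P ⊓ N(S)`
  have hsmall : ∀ B : Subgroup G, B ≤ (P : Subgroup G) ⊓ Subgroup.normalizer (S : Set G) →
      Cfsg.IsElementaryAbelian 2 B → Nat.card B = 4 ^ 2 → B = R ∨ B = A := by
    intro B hB hBel hBc
    by_cases hBS : B ≤ S
    · exact honly B hBS hBel hBc.ge
    exfalso
    obtain ⟨b, hbB, hbS⟩ := SetLike.not_le_iff_exists.1 hBS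
    have hbs := hswap b (hB hbB).1 (hB hbB).2 hbS
    obtain ⟨hBcomm, hB2⟩ := (LocalP.isElementaryAbelian_iff).1 hBel
    have hBi : B ⊓ S ≤ Z := by
      intro x hx
      have hfix : b * x * b⁻¹ = x := by rw [hBcomm b hbB x hx.1]; group
      refine hAZ.le ?_
      rcases hinv x hx.2 (by rw [← sq]; exact hB2 x hx.1) with e | e
      · exact ⟨by have := hbs.1.le ⟨x, e, rfl⟩; rwa [← hfix], e⟩
      · exact ⟨e, by have := hbs.2.le ⟨x, e, rfl⟩; rwa [← hfix]⟩
    have hsub : (B : Set G) ⊆ ((B ⊓ S : Subgroup G) : Set G) ∪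
        (fun x => b * x) '' ((B ⊓ S : Subgroup G) : Set G) := by
      intro x hx
      by_cases hxS : x ∈ S
      · exact Or.inl ⟨hx, hxS⟩
      refine Or.inr ⟨b⁻¹ * x, ⟨(mul_mem (inv_mem hbB) hx : b⁻¹ * x ∈ B), ?_⟩, mul_inv_cancel_left b x⟩
      have h1 := (hcoset x (hB hx).1 (hB hx).2).resolve_left hxS
      have h2 := (hcoset b (hB hbB).1 (hB hbB).2).resolve_left hbS
      simpa [mul_assoc] using mul_mem (inv_mem h2) h1
    have h1 := (Set.ncard_le_ncard hsub).trans ((Set.ncard_union_le _ _).trans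
      (Nat.add_le_add_left (Set.ncard_image_le (Set.toFinite _)) _))
    have h2 : Nat.card ↥(B ⊓ S) ≤ 4 := hZc ▸ Subgroup.card_le_of_le hBi
    simp only [← Nat.card_coe_set_eq, SetLike.coe_sort_coe] at h1
    omega
  -- so `P` is `S ∪ yS`
  have hPN : (P : Subgroup G) ≤ Subgroup.normalizer (S : Set G) := by
    by_contra hcon
    set T := (P : Subgroup G) ⊓ Subgroup.normalizer (S : Set G)
    obtain ⟨x, hxP, hxN, hxT⟩ := exists_gt_normalizer P.2 (inf_le_left : T ≤ P)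
      (fun e => hcon (e.ge.trans inf_le_right))
    have hm : ∀ B : Subgroup G, B ≤ S → Cfsg.IsElementaryAbelian 2 B → Nat.card B = 4 ^ 2 →
        B.map (MulAut.conj x).toMonoidHom ≤ S := by
      intro B hB hBel hBc
      rcases hsmall (B.map (MulAut.conj x).toMonoidHom) (by
          rintro _ ⟨b, hb', rfl⟩
          exact (Subgroup.mem_normalizer_iff.1 hxN b).1 ⟨hP (hB hb'), Subgroup.le_normalizer (hB hb')⟩)
        (LocalP.isElementaryAbelian_map _ hBel)
        (by rw [Subgroup.card_map_of_injective (f := (MulAut.conj x).toMonoidHom) (MulAut.conj x).injective, hBc]) with e | e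
      · exact e.le.trans le_sup_left
      · exact e.le.trans le_sup_right
    refine hxT ⟨hxP, Subgroup.mem_normalizer_fintype (S := (S : Set G)) fun s hs => ?_⟩
    obtain ⟨r, hr, a, ha, rfl⟩ : s ∈ (R : Set G) * (A : Set G) := by
      rw [← Subgroup.coe_mul_of_right_le_normalizer_left R A hAX]; exact hs
    rw [show x * (r * a) * x⁻¹ = (x * r * x⁻¹) * (x * a * x⁻¹) by group]
    exact mul_mem (hm R le_sup_left hRel hR ⟨r, hr, rfl⟩) (hm A le_sup_right hAel hAq ⟨a, ha, rfl⟩)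
  have hPS : ∀ g ∈ P, g ∈ S ∨ y⁻¹ * g ∈ S := fun g hg => hcoset g hg (hPN hg)
  have hcomm : ∀ z ∈ Z, ∀ s ∈ S, s * z = z * s := fun z hz s hs =>
    Subgroup.mem_centralizer_iff.1 hz.2 s hs
  -- `y` moves some element of `Z`
  obtain ⟨c, hcZ, hcy⟩ : ∃ c ∈ Z, y * c * y⁻¹ ≠ c := by
    by_contra hcon
    push Not at hcon
    have hC : ∀ z ∈ Z, z ≠ 1 → Subgroup.centralizer ({z} : Set G) = P := by
      intro z hz hz1
      refine P.3 (h z (orderOf_eq_prime (by rw [sq]; exact hb.sq_eq_one hR hz.1) hz1)) fun g hg => ?_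
      rw [Subgroup.mem_centralizer_singleton_iff]
      rcases hPS g hg with e | e
      · exact hcomm z hz g e
      · have h1 : y * z = z * y := mul_inv_eq_iff_eq_mul.1 (hcon z hz)
        calc g * z = y * ((y⁻¹ * g) * z) := by group
          _ = y * (z * (y⁻¹ * g)) := by rw [hcomm z hz _ e]
          _ = (y * z) * (y⁻¹ * g) := by group
          _ = z * y * (y⁻¹ * g) := by rw [h1]
          _ = z * g := by group
    have hiter : ∀ (s : Fˣ) (m : ℕ) (t : F),
        c₀.hs s ^ m * c₀.e t * (c₀.hs s ^ m)⁻¹ = c₀.e ((s : F) ^ m * t) := by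
      intro s m
      induction m with
      | zero => intro t; simp
      | succ m ih =>
        intro t
        rw [pow_succ (c₀.hs s), pow_succ, mul_assoc ((s : F) ^ m), ← ih, c₀.e_mul]
        group
    have hU : Nat.card Fˣ = 3 := by rw [Nat.card_units, Nat.card_eq_fintype_card, hF]
    haveI : Nontrivial Fˣ := Finite.one_lt_card_iff_nontrivial.1 (by omega)
    obtain ⟨s, hs1⟩ := exists_ne (1 : Fˣ)
    obtain ⟨a, m, hm, hn⟩ := Nat.exists_eq_two_pow_mul_odd (orderOf_pos (c₀.hs s)).ne'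
    set x := c₀.hs s ^ 2 ^ a with hx
    have hxodd : Odd (orderOf x) := by
      have : orderOf x ∣ m := orderOf_dvd_iff_pow_eq_one.2 (by rw [hx, ← pow_mul, ← hn, pow_orderOf_eq_one])
      exact hm.of_dvd_nat this
    have hs' : s ^ 2 ^ a ≠ 1 := fun e => hs1 (orderOf_eq_one_iff.1 (Nat.eq_one_of_dvd_coprimes
      (Nat.Coprime.pow_left a (by norm_num : Nat.Coprime 2 3)) (orderOf_dvd_iff_pow_eq_one.2 e)
      (hU ▸ orderOf_dvd_natCard s)))
    have he2 : c₀.e 0 = 1 := by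
      have := c₀.e_add 0 0
      rw [add_zero] at this
      simpa using this
    have he1 : ∀ t : F, t ≠ 0 → c₀.e t ≠ 1 := fun t ht e => c₀.e_one (by
      have := c₀.e_mul (Units.mk0 t ht)⁻¹ t
      rwa [Units.val_inv_eq_inv_val, Units.val_mk0, inv_mul_cancel₀ ht, e, mul_one,
        mul_inv_cancel] at this)
    set z := c₀.e 1 with hz
    have hzZ : z ∈ Z := c₀.e_mem 1
    have hxz : x * z * x⁻¹ = c₀.e ((s : F) ^ 2 ^ a) := by rw [hx, hz, hiter, mul_one]
    have hxz1 : x * z * x⁻¹ ≠ z := by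
      rw [hxz]
      intro e
      refine he1 ((s : F) ^ 2 ^ a + 1) (fun e' => hs' (Units.ext ?_)) ?_
      · rw [Units.val_pow_eq_pow_val, Units.val_one]
        exact CharTwo.add_eq_zero.1 e'
      · rw [c₀.e_add, e, ← hz]; exact hb.sq_eq_one hR hzZ.1
    have hxS : x ∈ Subgroup.normalizer (S : Set G) := pow_mem (c₀.hs_normalizer' s) _
    have hxP : ∀ g ∈ P, x * g * x⁻¹ ∈ P := fun g hg => by
      have h1 := hC _ (c₀.e_mem ((s : F) ^ 2 ^ a)) (he1 _ (pow_ne_zero _ s.ne_zero))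
      rw [← hxz] at h1
      show x * g * x⁻¹ ∈ (P : Subgroup G)
      rw [← h1, Subgroup.mem_centralizer_singleton_iff]
      have h2 : g ∈ Subgroup.centralizer ({z} : Set G) := by rw [hC z hzZ c₀.e_one]; exact hg
      rw [Subgroup.mem_centralizer_singleton_iff] at h2
      calc x * g * x⁻¹ * (x * z * x⁻¹) = x * (g * z) * x⁻¹ := by group
        _ = x * (z * g) * x⁻¹ := by rw [h2]
        _ = _ := by group
    let f : ↥(P : Subgroup G) → ↥S := fun g => ⟨(g : G)⁻¹ * (x * g * x⁻¹), by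
      have hxg := hxP g g.2
      rcases hPS _ g.2 with e | e
      · exact mul_mem (inv_mem e) ((Subgroup.mem_normalizer_iff.1 hxS _).1 e)
      · rcases hPS _ hxg with e' | e'
        · have hgS : (g : G) ∈ S := (Subgroup.mem_normalizer_iff.1 hxS _).2 e'
          exact mul_mem (inv_mem hgS) e'
        · simpa [mul_assoc] using mul_mem (inv_mem e) e'⟩
    have hfinj : Function.Injective f := by
      intro g g' hgg
      by_contra hne'
      have h1 : (g : G)⁻¹ * (x * g * x⁻¹) = (g' : G)⁻¹ * (x * g' * x⁻¹) := congrArg Subtype.val hgg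
      set d := (g' : G) * (g : G)⁻¹ with hd
      have hd1 : d ≠ 1 := fun e => hne' (Subtype.ext (mul_inv_eq_one.1 e).symm)
      have hdx : Commute d x := by
        show d * x = x * d
        calc d * x = (g' : G) * ((g : G)⁻¹ * (x * g * x⁻¹)) * (x * (g : G)⁻¹) := by rw [hd]; group
          _ = (g' : G) * ((g' : G)⁻¹ * (x * g' * x⁻¹)) * (x * (g : G)⁻¹) := by rw [h1]
          _ = x * d := by rw [hd]; group
      obtain ⟨k, hk⟩ := exists_two_pow_of_mem P.2 (mul_mem g'.2 (inv_mem g.2))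
      obtain ⟨j, hj⟩ := h.orderOf_of_commute hk hd1 hdx
      rw [hj, Nat.odd_iff] at hxodd
      rcases j with _ | j
      · rw [pow_zero, orderOf_eq_one_iff] at hj
        exact hxz1 (by rw [hj]; group)
      · rw [pow_succ] at hxodd; omega
    have hcard := Nat.card_le_card_of_injective f hfinj
    exact hne (Subgroup.eq_of_le_of_card_ge hP hcard)
  -- an involution `u` in `P` outside `S`
  obtain ⟨hyA, hyR⟩ := hswap y hyP hyN hyS
  have hyy : y * y ∈ S := (hPS _ (mul_mem hyP hyP)).resolve_right fun e => hyS (by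
    rwa [inv_mul_cancel_left] at e)
  obtain ⟨r₀, hr₀, a₀, ha₀, hra⟩ : y * y ∈ (R : Set G) * (A : Set G) := by
    rw [← Subgroup.coe_mul_of_right_le_normalizer_left R A hAX]; exact hyy
  replace hra : r₀ * a₀ = y * y := hra
  obtain ⟨hAcomm, hA2⟩ := (LocalP.isElementaryAbelian_iff).1 hAel
  obtain ⟨a', ha', hya'⟩ := hyR.ge hr₀
  replace hya' : y * a' * y⁻¹ = r₀ := hya'
  obtain ⟨r', hr', hyr'⟩ := hyA.ge ha₀
  replace hyr' : y * r' * y⁻¹ = a₀ := hyr'
  have hfix : a' * r' = r₀ * a₀ := by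
    have : y * (a' * r') * y⁻¹ = y * (r₀ * a₀) * y⁻¹ := by
      rw [show y * (a' * r') * y⁻¹ = (y * a' * y⁻¹) * (y * r' * y⁻¹) by group, hya', hyr', hra]
      group
    exact (MulAut.conj y).injective this
  have hfR : a'⁻¹ * a₀ ∈ R := by
    have h1 : a'⁻¹ * r₀ * a' ∈ R := by
      simpa using (Subgroup.mem_normalizer_iff.1 (inv_mem (hAX ha')) r₀).1 hr₀
    have : a'⁻¹ * a₀ = (a'⁻¹ * r₀ * a')⁻¹ * r' := by
      rw [show r' = a'⁻¹ * (r₀ * a₀) by rw [← hfix]; group]; group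
    rw [this]; exact mul_mem (inv_mem h1) hr'
  set f := a'⁻¹ * a₀ with hf
  have hfZ : f ∈ Z := hAZ.le ⟨(mul_mem (inv_mem ha') ha₀ : f ∈ A), hfR⟩
  set y₁ := y * r₀ with hy₁
  have hy₁sq : y₁ * y₁ = f := by
    have e1 : a₀ * a' = f := by
      rw [hf, inv_eq_of_mul_eq_one_right (show a' * a' = 1 by rw [← sq]; exact hA2 a' ha'),
        hAcomm a₀ ha₀ a' ha']
    calc y₁ * y₁ = (y * y) * (y⁻¹ * r₀ * y) * r₀ := by rw [hy₁]; group
      _ = r₀ * a₀ * a' * r₀ := by rw [← hra, ← hya']; group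
      _ = r₀ * f * r₀ := by rw [mul_assoc r₀ a₀, e1]
      _ = f * (r₀ * r₀) := by rw [hcomm f hfZ r₀ (Subgroup.mem_sup_left hr₀)]; group
      _ = f := by rw [hb.sq_eq_one hR hr₀, mul_one]
  have hy₁P : y₁ ∈ P := mul_mem hyP (hP (Subgroup.mem_sup_left hr₀))
  have hy₁S : y₁ ∉ S := fun e => hyS (by
    simpa [hy₁] using mul_mem e (inv_mem (Subgroup.mem_sup_left hr₀ : r₀ ∈ S)))
  set d := y₁ * c * y₁⁻¹ with hd
  have hdy : d = y * c * y⁻¹ := by
    rw [hd, hy₁, show y * r₀ * c * (y * r₀)⁻¹ = y * (r₀ * c * r₀⁻¹) * y⁻¹ by group,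
      mul_inv_eq_iff_eq_mul.2 (hcomm c hcZ r₀ (Subgroup.mem_sup_left hr₀))]
  have hZnorm : ∀ g ∈ P, g ∉ S → ∀ z ∈ Z, g * z * g⁻¹ ∈ Z := fun g hg hgS z hz => by
    obtain ⟨e1, e2⟩ := hswap g hg (hPN hg) hgS
    exact hAZ.le ⟨e1.le ⟨z, (hAZ.ge hz).2, rfl⟩, e2.le ⟨z, (hAZ.ge hz).1, rfl⟩⟩
  have hdZ : d ∈ Z := hZnorm y₁ hy₁P hy₁S c hcZ
  have hdc : d ≠ c := hdy ▸ hcy
  have hd2 : y₁ * d * y₁⁻¹ = c := by
    rw [hd, show y₁ * (y₁ * c * y₁⁻¹) * y₁⁻¹ = (y₁ * y₁) * c * (y₁ * y₁)⁻¹ by group, hy₁sq,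
      mul_inv_eq_iff_eq_mul.2 (hcomm c hcZ f (Subgroup.mem_sup_left hfZ.1))]
  have hc2 : c * c = 1 := hb.sq_eq_one hR hcZ.1
  have hc1 : c ≠ 1 := fun e => hcy (by rw [e]; group)
  have hd1 : d ≠ 1 := fun e => hc1 (by rw [← hd2, e]; group)
  set z := c * d with hz
  have hzZ : z ∈ Z := mul_mem hcZ hdZ
  have hz1 : z ≠ 1 := fun e => hdc ((eq_inv_of_mul_eq_one_right e).trans (inv_eq_of_mul_eq_one_right hc2))
  have hcd : c * d = d * c := hcomm d hdZ c (Subgroup.mem_sup_left hcZ.1)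
  have hZ4 : ∀ t ∈ Z, t = 1 ∨ t = c ∨ t = d ∨ t = z := by
    intro t ht
    have hsub : ({1, c, d, z} : Set G) ⊆ (Z : Set G) := by
      intro t ht
      simp only [Set.mem_insert_iff, Set.mem_singleton_iff] at ht
      rcases ht with rfl | rfl | rfl | rfl
      exacts [one_mem _, hcZ, hdZ, hzZ]
    have h4 : ({1, c, d, z} : Set G).ncard = 4 := by
      have hzc : c ≠ z := fun e => hd1 (by simpa [hz] using e.symm)
      have hzd : d ≠ z := fun e => hc1 (by simpa [hz] using e.symm)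
      rw [Set.ncard_insert_of_notMem (by simp [Ne.symm hc1, Ne.symm hd1, Ne.symm hz1]),
        Set.ncard_insert_of_notMem (by simp [Ne.symm hdc, hzc]),
        Set.ncard_insert_of_notMem (by simp [hzd]), Set.ncard_singleton]
    have := Set.eq_of_subset_of_ncard_le hsub
      (by rw [h4, ← Nat.card_coe_set_eq]; exact hZc.le) (Set.toFinite _)
    simpa using this.ge ht
  have hfz : f = 1 ∨ f = z := by
    have hff : y₁ * f * y₁⁻¹ = f := by rw [← hy₁sq]; group
    rcases hZ4 f hfZ with e | e | e | e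
    · exact Or.inl e
    · exact absurd (by rw [e] at hff; exact hff) hdc
    · rw [e, hd2] at hff; exact absurd hff.symm hdc
    · exact Or.inr e
  have hzy : y₁ * z * y₁⁻¹ = z := by
    rw [hz, show y₁ * (c * d) * y₁⁻¹ = (y₁ * c * y₁⁻¹) * (y₁ * d * y₁⁻¹) by group, ← hd, hd2, hcd]
  obtain ⟨u, huP, huS, hu2, huc⟩ : ∃ u ∈ P, u ∉ S ∧ u * u = 1 ∧ u * c * u⁻¹ = d := by
    rcases hfz with e | e
    · exact ⟨y₁, hy₁P, hy₁S, hy₁sq.trans e, hd.symm⟩
    · refine ⟨y₁ * c, mul_mem hy₁P (hP (Subgroup.mem_sup_left hcZ.1)), fun e' => hy₁S ?_, ?_, ?_⟩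
      · simpa using mul_mem e' (inv_mem (Subgroup.mem_sup_left hcZ.1 : c ∈ S))
      · calc y₁ * c * (y₁ * c) = d * (y₁ * y₁) * c := by rw [hd]; group
          _ = d * (c * d) * c := by rw [hy₁sq, e]
          _ = (d * c) * (d * c) := by group
          _ = (c * d) * (c * d) := by rw [hcd]
          _ = 1 := hb.sq_eq_one hR hzZ.1
      · rw [hd]; group
  have huu : u⁻¹ = u := inv_eq_of_mul_eq_one_right hu2
  have hud : u * d * u⁻¹ = c := by
    rw [← huc, show u * (u * c * u⁻¹) * u⁻¹ = (u * u) * c * (u * u)⁻¹ by group, hu2]; group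
  have hzu : u * z * u⁻¹ = z := by
    rw [hz, show u * (c * d) * u⁻¹ = (u * c * u⁻¹) * (u * d * u⁻¹) by group, huc, hud, hcd]
  have hufix : ∀ t ∈ Z, u * t * u⁻¹ = t → t = 1 ∨ t = z := fun t ht e => by
    rcases hZ4 t ht with e' | e' | e' | e'
    · exact Or.inl e'
    · rw [e', huc] at e; exact absurd e hdc
    · rw [e', hud] at e; exact absurd e.symm hdc
    · exact Or.inr e'
  have hCz : Subgroup.centralizer ({z} : Set G) = P := by
    refine P.3 (h z (orderOf_eq_prime (by rw [sq]; exact hb.sq_eq_one hR hzZ.1) hz1)) fun g hg => ?_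
    rw [Subgroup.mem_centralizer_singleton_iff]
    rcases hPS g hg with e | e
    · exact hcomm z hzZ g e
    · have h1 := (hPS u huP).resolve_left huS
      have h2 : u⁻¹ * g ∈ S := by simpa [mul_assoc] using mul_mem (inv_mem h1) e
      calc g * z = u * ((u⁻¹ * g) * z) := by group
        _ = u * (z * (u⁻¹ * g)) := by rw [hcomm z hzZ _ h2]
        _ = (u * z * u⁻¹) * g := by group
        _ = z * g := by rw [hzu]
  -- transfer
  have hidx : S.relIndex (P : Subgroup G) = 2 := by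
    rw [Subgroup.relIndex, Subgroup.index_eq_two_iff]
    refine ⟨⟨y, hyP⟩⁻¹, fun b => ?_⟩
    rw [Subgroup.mem_subgroupOf, Subgroup.mem_subgroupOf]
    show Xor' ((b : G) * y⁻¹ ∈ S) ((b : G) ∈ S)
    by_cases hbS : (b : G) ∈ S
    · exact Or.inr ⟨hbS, fun e => hyS (by simpa [mul_assoc] using mul_mem (inv_mem e) hbS)⟩
    · refine Or.inl ⟨?_, hbS⟩
      have h1 := (hPS _ b.2).resolve_left hbS
      simpa [mul_assoc] using (Subgroup.mem_normalizer_iff.1 hyN _).1 h1
  have hu1 : u ≠ 1 := fun e => huS (e ▸ one_mem S)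
  rcases Transfer.thompsonTransferLemma P S hP hidx u (orderOf_eq_prime (by rw [sq, hu2]) hu1) huP huS with
    ⟨M, hM, hMi, huM⟩ | ⟨g, hg⟩
  · rcases hM.eq_bot_or_eq_top with e | e
    · rw [e, Subgroup.index_bot] at hMi
      have := Subgroup.card_le_card_group S
      omega
    · exact huM (e ▸ Subgroup.mem_top u)
  obtain ⟨k, hk⟩ : ∃ k, u = k * z * k⁻¹ := by
    have hg2 : g * u * g⁻¹ * (g * u * g⁻¹) = 1 := by
      rw [show g * u * g⁻¹ * (g * u * g⁻¹) = g * (u * u) * g⁻¹ by group, hu2]; group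
    have hgne : g * u * g⁻¹ ≠ 1 := fun e => hu1 (conj_eq_one_iff.1 e)
    have key : ∀ {B : Subgroup G}, BadQ B 4 → Nat.card B = 4 ^ 2 → z ∈ B → g * u * g⁻¹ ∈ B →
        ∃ k, u = k * z * k⁻¹ := fun {B} hB hBc hzB hgB => by
      obtain ⟨n, -, hn⟩ := (hB.transitive h ((hB.omegaZ_eq hBc).ge hgB) hgne).1 z
        ((hB.omegaZ_eq hBc).ge hzB) hz1
      exact ⟨(n * g)⁻¹, by rw [← hn]; group⟩
    rcases hinv _ hg hg2 with e | e
    · exact key hb hR hzZ.1 e
    · exact key hbA hAq (hAZ.ge hzZ).1 e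
  have hCu : ∀ w, w * u = u * w → k⁻¹ * w * k ∈ P := fun w hw => by
    show k⁻¹ * w * k ∈ (P : Subgroup G)
    rw [← hCz, Subgroup.mem_centralizer_singleton_iff]
    rw [hk] at hw
    calc k⁻¹ * w * k * z = k⁻¹ * (w * (k * z * k⁻¹)) * k := by group
      _ = k⁻¹ * ((k * z * k⁻¹) * w) * k := by rw [hw]
      _ = _ := by group
  have hzk := hCu z (by
    have := mul_inv_eq_iff_eq_mul.1 hzu
    exact this.symm)
  by_cases hzS : k⁻¹ * z * k ∈ S
  · have hz2 : k⁻¹ * z * k * (k⁻¹ * z * k) = 1 := by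
      rw [show k⁻¹ * z * k * (k⁻¹ * z * k) = k⁻¹ * (z * z) * k by group, hb.sq_eq_one hR hzZ.1]; group
    have key : ∀ {B : Subgroup G}, Cfsg.IsElementaryAbelian 2 B → Nat.card B = 4 ^ 2 → z ∈ B →
        k⁻¹ * z * k ∈ B → False := fun {B} hBel hBc hzB hzk' => by
      refine huS ?_
      have hle : B.map (MulAut.conj k).toMonoidHom ≤ P := by
        rintro _ ⟨b, hb', rfl⟩
        rw [← hCz, Subgroup.mem_centralizer_singleton_iff]
        show k * b * k⁻¹ * z = z * (k * b * k⁻¹)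
        calc k * b * k⁻¹ * z = k * (b * (k⁻¹ * z * k)) * k⁻¹ := by group
          _ = k * ((k⁻¹ * z * k) * b) * k⁻¹ := by
            rw [((LocalP.isElementaryAbelian_iff).1 hBel).1 b hb' _ hzk']
          _ = _ := by group
      have huB : u ∈ B.map (MulAut.conj k).toMonoidHom := ⟨z, hzB, hk.symm⟩
      rcases hsmall _ (le_inf hle (hle.trans hPN)) (LocalP.isElementaryAbelian_map _ hBel)
        (by rw [Subgroup.card_map_of_injective (f := (MulAut.conj k).toMonoidHom) (MulAut.conj k).injective, hBc]) with e | e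
      · exact Subgroup.mem_sup_left (e.le huB)
      · exact Subgroup.mem_sup_right (e.le huB)
    rcases hinv _ hzS hz2 with e | e
    · exact key hRel hR hzZ.1 e
    · exact key hAel hAq (hAZ.ge hzZ).1 e
  -- an element of order 4 of `S` fixed by `u` with square `z`
  obtain ⟨v, hv, hvZ⟩ : ∃ v ∈ R, v ∉ Z := SetLike.not_le_iff_exists.1 fun hle => by
    have := Subgroup.card_le_of_le hle
    rw [hR, hZc] at this; omega
  obtain ⟨huA, huR⟩ := hswap u huP (hPN huP) huS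
  have hv' : u * v * u⁻¹ ∈ A := huA.le ⟨v, hv, rfl⟩
  set v' := u * v * u⁻¹ with hv'd
  have huv' : u * v' * u⁻¹ = v := by
    rw [hv'd, show u * (u * v * u⁻¹) * u⁻¹ = (u * u) * v * (u * u)⁻¹ by group, hu2]; group
  have hv'R : v' ∉ R := fun e => hvZ (hAZ.le ⟨by
    obtain ⟨a, ha, e'⟩ := huR.ge e
    have : a = v := (MulAut.conj u).injective e'
    exact this ▸ ha, hv⟩)
  have hv2 : v * v = 1 := hb.sq_eq_one hR hv
  have hv'2 : v' * v' = 1 := by rw [← sq]; exact hA2 v' hv'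
  set p := v * v' with hp
  have hpS : p ∈ S := mul_mem (Subgroup.mem_sup_left hv) (Subgroup.mem_sup_right hv')
  have hp1 : p * p ≠ 1 := fun e => by
    rcases hinv p hpS e with e' | e'
    · exact hv'R (by simpa [hp] using mul_mem (inv_mem hv) e')
    · exact hvZ (hAZ.le ⟨by simpa [hp] using mul_mem e' (inv_mem hv'), hv⟩)
  have hpZ : p * p ∈ Z := hAZ.le ⟨by
      have h1 := (Subgroup.mem_normalizer_iff.1 (hRA hv) v').1 hv'
      rw [inv_eq_of_mul_eq_one_right hv2] at h1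
      simpa [hp, mul_assoc] using mul_mem h1 hv', by
      have h1 := (Subgroup.mem_normalizer_iff.1 (hAX hv') v).1 hv
      rw [inv_eq_of_mul_eq_one_right hv'2] at h1
      simpa [hp, mul_assoc] using mul_mem hv h1⟩
  have hpinv : u * p * u⁻¹ = p⁻¹ := by
    rw [hp, show u * (v * v') * u⁻¹ = (u * v * u⁻¹) * (u * v' * u⁻¹) by group, ← hv'd, huv',
      mul_inv_rev, inv_eq_of_mul_eq_one_right hv2, inv_eq_of_mul_eq_one_right hv'2]
  have hpz : p * p = z := by
    refine (hufix _ hpZ ?_).resolve_left hp1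
    rw [show u * (p * p) * u⁻¹ = (u * p * u⁻¹) * (u * p * u⁻¹) by group, hpinv, ← mul_inv_rev,
      inv_eq_of_mul_eq_one_right (hb.sq_eq_one hR hpZ.1)]
  have hg2u : u * (p * c) * u⁻¹ = p * c := by
    rw [show u * (p * c) * u⁻¹ = (u * p * u⁻¹) * (u * c * u⁻¹) by group, hpinv, huc]
    calc p⁻¹ * d = p⁻¹ * (z * c) := by rw [hz, hcd, mul_assoc, hc2, mul_one]
      _ = p * c := by rw [← hpz]; group
  have hm := hCu (p * c) (mul_inv_eq_iff_eq_mul.1 hg2u).symm
  refine hzS ?_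
  have hsq : k⁻¹ * (p * c) * k * (k⁻¹ * (p * c) * k) = k⁻¹ * z * k := by
    calc k⁻¹ * (p * c) * k * (k⁻¹ * (p * c) * k) = k⁻¹ * (p * (c * p) * c) * k := by group
      _ = k⁻¹ * (p * (p * c) * c) * k := by rw [hcomm c hcZ p hpS]
      _ = k⁻¹ * ((p * p) * (c * c)) * k := by group
      _ = k⁻¹ * z * k := by rw [hpz, hc2, mul_one]
  rw [← hsq]
  have hmem := Subgroup.mul_self_mem_of_index_two hidx (⟨_, hm⟩ : (P : Subgroup G))
  exact hmem

/-- The Sylow 2-data of a simple CIT group with a bad radical subgroup with `SL₂(q)` on top. -/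
theorem BadQ.exists_sixtyFour [IsSimpleGroup G] (h : InvCentTwo G) (hsec : GoodSections G)
    (hO : Cfsg.pCore 2 G = ⊥) {R : Subgroup G} {q : ℕ} (hq4 : 4 ≤ q) (hb : BadQ R q) :
    ∃ T V₁ V₂ : Subgroup G, SixtyFour T V₁ V₂ := by
  classical
  obtain rfl := hb.q_eq_four h hsec hO hq4
  have hR := hb.card_eq h hO
  obtain ⟨A, hbA, hAq, hAX, hAel, hAR, hRA⟩ := hb.exists_partner h hsec hO hq4
  obtain ⟨hS2, hSX, hSc, -, hAZ, hinv, honly⟩ := hb.second h hR hAX hAel hAR hAq.ge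
  have hle := hb.card_two_le_sixtyfour h hR hbA hAq hAX hAel hAR hRA
  obtain ⟨hZc, -⟩ := hb.exists_coord h hR hSX hS2 le_sup_left hSc
  have hS64 : Nat.card ↥(R ⊔ A) = 64 := by rw [hSc, hR]; norm_num
  have hC : ∀ {B : Subgroup G}, BadQ B 4 → Nat.card B = 4 ^ 2 →
      Subgroup.centralizer (B : Set G) = B := fun {B} hB hBc => by
    have := hB.centralizer_eq h
    rwa [hB.omegaZ_eq hBc] at this
  refine ⟨R ⊔ A, R, A,
    { isPGroup := hS2, card_T := hS64, card_le := hle, le₁ := le_sup_left, le₂ := le_sup_right,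
      ne := fun e => hAR e.ge, exp₁ := fun v hv => hb.sq_eq_one hR hv,
      exp₂ := fun v hv => hbA.sq_eq_one hAq hv, card₁ := by rw [hR]; rfl, card₂ := by rw [hAq]; rfl,
      sup := fun t ht => ?_, only := fun B hB hB2 hBc => ?_, card_inf := ?_, inv := hinv,
      cent := fun z hz hz1 => ?_, cent₁ := hC hb hR, cent₂ := hC hbA hAq,
      normalizer₁ := by rw [hb.card_normalizer, hR]; norm_num,
      normalizer₂ := by rw [hbA.card_normalizer, hAq]; norm_num,
      le_normalizer₁ := hSX, le_normalizer₂ := sup_le hRA Subgroup.le_normalizer,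
      ns₁ := hb.not_isSolvable_normalizer le_rfl, ns₂ := hbA.not_isSolvable_normalizer le_rfl,
      trans₁ := fun v hv hv1 => ?_, trans₂ := fun v hv hv1 => ?_ }⟩
  · obtain ⟨r, hr, a, ha, rfl⟩ : t ∈ (R : Set G) * (A : Set G) := by
      rw [← Subgroup.coe_mul_of_right_le_normalizer_left R A hAX]; exact ht
    exact ⟨r, hr, a, ha, rfl⟩
  · refine honly B hB ((LocalP.isElementaryAbelian_iff).2 ⟨fun x hx y hy => ?_,
      fun x hx => (sq x).trans (hB2 x hx)⟩) (by rw [hBc]; rfl)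
    have h1 := hB2 _ (mul_mem hx hy)
    calc x * y = (x * x) * (x * y) * (y * y) := by rw [hB2 x hx, hB2 y hy, one_mul, mul_one]
      _ = x * (x * y * (x * y)) * (x * y * (x * y))⁻¹ * (x * (x * y) * y) * y := by group
      _ = y * x := by
        rw [h1]
        have e1 := inv_eq_of_mul_eq_one_right h1
        rw [mul_inv_rev, inv_eq_of_mul_eq_one_right (hB2 x hx),
          inv_eq_of_mul_eq_one_right (hB2 y hy)] at e1
        rw [e1]
        calc x * 1 * 1⁻¹ * (x * (x * y) * y) * y = x * ((x * x) * (y * y)) * y := by group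
          _ = _ := by rw [hB2 x hx, hB2 y hy]; simpa using e1.symm
  · rw [inf_comm, hAZ, hZc]
  · have hzZ : z ∈ R ⊓ Subgroup.centralizer ((R ⊔ A : Subgroup G) : Set G) := hAZ.le ⟨hz.2, hz.1⟩
    refine (Subgroup.eq_of_le_of_card_ge (fun s hs => Subgroup.mem_centralizer_singleton_iff.2
      (Subgroup.mem_centralizer_iff.1 hzZ.2 s hs)) ?_).symm
    rw [hS64]
    exact hle _ (h z (orderOf_eq_prime (by rw [sq]; exact hb.sq_eq_one hR hz.1) hz1))
  · intro w hw hw1
    exact (hb.transitive h ((hb.omegaZ_eq hR).ge hv) hv1).1 w ((hb.omegaZ_eq hR).ge hw) hw1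
  · intro w hw hw1
    exact (hbA.transitive h ((hbA.omegaZ_eq hAq).ge hv) hv1).1 w ((hbA.omegaZ_eq hAq).ge hw) hw1

end CfsgLib.CIT
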