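import Cfsg.Agent.CITThreePrime.Basic
import Cfsg.Agent.CN.MaxNilpotent
import Cfsg.Agent.StrongEmb.RankOneBridge
import Cfsg.Agent.RankOne.QTwoGroup.Main
import Cfsg.Agent.StronglyEmbedded.Count
import Cfsg.Agent.RankOne.Classify.Glue

/-!
A simple non-solvable CN-group has 2-group involution centralisers.

Otherwise a maximal nilpotent subgroup `H` containing a Sylow 2-subgroup is trivial-intersection, `N(H)`
is strongly embedded and `H` is regular on the other cosets, so `H` is a 2-group.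
-/

set_option autoImplicit false

namespace CfsgLib.CIT

open CfsgLib.CN CfsgLib.StronglyEmbedded
open scoped Pointwise

universe u

variable {G : Type u} [Group G] [Finite G]

/-- A trivial-intersection subgroup of order prime to its index that contains the centralisers of its
non-identity elements. -/
structure TIHall (H : Subgroup G) : Prop where
  cop : (Nat.card H).Coprime H.index
  ti : ∀ g : G, g ∉ Subgroup.normalizer (H : Set G) → H ⊓ H.map (MulAut.conj g).toMonoidHom = ⊥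
  cent : ∀ x ∈ H, x ≠ 1 → Subgroup.centralizer ({x} : Set G) ≤ H

variable {H : Subgroup G} (hH : TIHall H)
include hH

theorem TIHall.mem_of_orderOf_dvd {x : G} (hx : x ∈ Subgroup.normalizer (H : Set G))
    (hd : orderOf x ∣ Nat.card H) : x ∈ H := by
  set N := Subgroup.normalizer (H : Set G)
  haveI : (H.subgroupOf N).Normal := Subgroup.normal_subgroupOf_of_le_normalizer le_rfl
  have h1 : orderOf (QuotientGroup.mk' (H.subgroupOf N) ⟨x, hx⟩) = 1 := by
    refine Nat.eq_one_of_dvd_coprimes hH.cop ((orderOf_map_dvd _ _).trans (by rwa [Subgroup.orderOf_mk])) ?_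
    refine (orderOf_dvd_natCard _).trans ?_
    exact Subgroup.relIndex_dvd_index_of_le (Subgroup.le_normalizer : H ≤ N)
  rw [orderOf_eq_one_iff] at h1
  exact (QuotientGroup.eq_one_iff (N := H.subgroupOf N) (⟨x, hx⟩ : N)).1 h1

theorem TIHall.reg {g : G} (hg : g ∉ Subgroup.normalizer (H : Set G)) {q : G} (hq : q ∈ H)
    (hm : g⁻¹ * (q * g) ∈ Subgroup.normalizer (H : Set G)) : q = 1 := by
  have hd : orderOf (g⁻¹ * (q * g)) ∣ Nat.card H := by
    rw [show g⁻¹ * (q * g) = MulAut.conj g⁻¹ q by simp [mul_assoc], MulEquiv.orderOf_eq]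
    exact Subgroup.orderOf_dvd_natCard H hq
  have hy := hH.mem_of_orderOf_dvd hm hd
  have hmem : q ∈ H ⊓ H.map (MulAut.conj g).toMonoidHom :=
    ⟨hq, _, hy, show g * (g⁻¹ * (q * g)) * g⁻¹ = q by group⟩
  rw [hH.ti g hg, Subgroup.mem_bot] at hmem
  exact hmem

theorem TIHall.stronglyEmbedded (heven : Even (Nat.card H))
    (hne : Subgroup.normalizer (H : Set G) ≠ ⊤) :
    Cfsg.IsStronglyEmbedded (Subgroup.normalizer (H : Set G)) := by
  refine intro_of_conj_mem hne (even_iff_two_dvd.2 ((even_iff_two_dvd.1 heven).trans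
    (Subgroup.card_dvd_of_le Subgroup.le_normalizer))) fun t g ht htN hg => ?_
  by_contra hgN
  have h2 : 2 ∣ Nat.card H := even_iff_two_dvd.1 heven
  have htH : t ∈ H := hH.mem_of_orderOf_dvd htN (by rw [ht]; exact h2)
  have hgH : g * t * g⁻¹ ∈ H := hH.mem_of_orderOf_dvd hg (by rw [orderOf_conj, ht]; exact h2)
  have hmem : g * t * g⁻¹ ∈ H ⊓ H.map (MulAut.conj g).toMonoidHom := ⟨hgH, t, htH, rfl⟩
  rw [hH.ti g hgN, Subgroup.mem_bot, conj_eq_one_iff] at hmem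
  rw [hmem, orderOf_one] at ht
  omega

set_option maxHeartbeats 1000000 in
theorem TIHall.transitive (hS : Cfsg.IsStronglyEmbedded (Subgroup.normalizer (H : Set G)))
    (hR : CfsgLib.StrongEmb.RankTwo G) (heven : Even (Nat.card H)) :
    ∀ g₁ g₂ : G, g₁ ∉ Subgroup.normalizer (H : Set G) → g₂ ∉ Subgroup.normalizer (H : Set G) →
      ∃ q ∈ H, g₂⁻¹ * (q * g₁) ∈ Subgroup.normalizer (H : Set G) := by
  classical
  set N := Subgroup.normalizer (H : Set G) with hN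
  set K := H.subgroupOf N with hK
  haveI : K.Normal := Subgroup.normal_subgroupOf_of_le_normalizer le_rfl
  set e := Nat.card (N ⧸ K) with he
  set m := Nat.card {t : G // orderOf t = 2 ∧ t ∈ N} with hm
  have hinvH : ∀ t ∈ N, orderOf t = 2 → t ∈ H := fun t ht hto =>
    hH.mem_of_orderOf_dvd ht (by rw [hto]; exact even_iff_two_dvd.1 heven)
  -- at least two involutions
  obtain ⟨s, t, hs, ht, hst, hcomm⟩ := hR
  have hm2 : 2 ≤ m := by
    obtain ⟨z, hzN, hz⟩ := exists_involution hS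
    obtain ⟨c, hc⟩ := isConj_iff.1 (isConj_involutions hS hs hz)
    have hct : c * t * c⁻¹ ∈ N := mem_of_commute hS hz hzN (by
      rw [← hc]
      exact ((hcomm.map (MulAut.conj c)).symm : Commute (c * t * c⁻¹) (c * s * c⁻¹)))
    refine Nat.succ_le_of_lt (Finite.one_lt_card_iff_nontrivial.2
      ⟨⟨⟨z, hz, hzN⟩, ⟨c * t * c⁻¹, (orderOf_conj c t).trans ht, hct⟩, fun e' => hst ?_⟩⟩)
    have e1 : z = c * t * c⁻¹ := congrArg Subtype.val e'
    rw [← hc] at e1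
    exact mul_left_cancel (mul_right_cancel e1)
  -- as many involutions as `|N : H|` at least
  have hem : e ≤ m := by
    obtain ⟨z, hzN, hz⟩ := exists_involution hS
    have hz1 : z ≠ 1 := fun e' => by rw [e', orderOf_one] at hz; omega
    refine Nat.card_le_card_of_injective (fun q : N ⧸ K => (⟨(q.out : G) * z * (q.out : G)⁻¹,
      by rw [orderOf_conj, hz], mul_mem (mul_mem q.out.2 hzN) (inv_mem q.out.2)⟩ :
        {t : G // orderOf t = 2 ∧ t ∈ N})) fun q q' h => ?_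
    have h1 : (q.out : G) * z * (q.out : G)⁻¹ = (q'.out : G) * z * (q'.out : G)⁻¹ := congrArg Subtype.val h
    have h2 : ((q.out : G)⁻¹ * (q'.out : G)) ∈ H := hH.cent z (hinvH z hzN hz) hz1
      (Subgroup.mem_centralizer_singleton_iff.2 (by
        calc (q.out : G)⁻¹ * q'.out * z = (q.out : G)⁻¹ * ((q'.out : G) * z * (q'.out : G)⁻¹) * q'.out := by group
          _ = z * ((q.out : G)⁻¹ * q'.out) := by rw [← h1]; group))
    have h3 : q.out⁻¹ * q'.out ∈ K := h2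
    have := QuotientGroup.eq.2 h3
    rwa [QuotientGroup.out_eq', QuotientGroup.out_eq'] at this
  -- the subgroups fixing a further point
  let D : G → Subgroup G := fun g => N ⊓ N.map (MulAut.conj g).toMonoidHom
  have hDH : ∀ g, g ∉ N → ∀ x ∈ D g, x ∈ H → x = 1 := by
    rintro g hg x ⟨-, n, hn, rfl⟩ hxH
    refine hH.reg hg hxH ?_
    show g⁻¹ * (g * n * g⁻¹ * g) ∈ N
    rw [show g⁻¹ * (g * n * g⁻¹ * g) = n by group]
    exact hn
  let f : ∀ g, D g → N ⧸ K := fun g x => QuotientGroup.mk' K ⟨x, x.2.1⟩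
  have hfinj : ∀ g, g ∉ N → Function.Injective (f g) := by
    intro g hg x y hxy
    have h1 : (⟨x, x.2.1⟩ : N)⁻¹ * ⟨y, y.2.1⟩ ∈ K := QuotientGroup.eq.1 hxy
    have h2 : (x : G)⁻¹ * y = 1 := hDH g hg _ (mul_mem (inv_mem x.2) y.2) h1
    exact Subtype.ext (inv_mul_eq_one.1 h2)
  have hsmul : ∀ i x : G, i • ((1 : G) : G ⧸ N) = (x : G ⧸ N) ↔ x⁻¹ * i ∈ N := fun i x => by
    rw [MulAction.Quotient.smul_coe, smul_eq_mul, mul_one, QuotientGroup.eq]
    constructor <;> intro h <;> simpa using inv_mem h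
  have hcount : ∀ g, g ∉ N → Nat.card (D g) = e ∧ Function.Bijective (f g) ∧
      ∃ i : G, orderOf i = 2 ∧ g⁻¹ * i ∈ N ∧ ∀ x ∈ D g, i * x * i⁻¹ = x⁻¹ := by
    intro g hg
    have hne : ((1 : G) : G ⧸ N) ≠ (g : G ⧸ N) := fun e' => hg (by
      have := QuotientGroup.eq.1 e'
      simpa using this)
    have hc := card_involutions_smul_eq hS hne
    obtain ⟨i, hi, hig⟩ : ∃ i : G, orderOf i = 2 ∧ g⁻¹ * i ∈ N := by
      have hpos : 0 < Nat.card {i : G // orderOf i = 2 ∧ i • ((1 : G) : G ⧸ N) = (g : G ⧸ N)} := by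
        rw [hc]; omega
      obtain ⟨⟨i, h1, h2⟩⟩ := (Nat.card_pos_iff.1 hpos).1
      exact ⟨i, h1, (hsmul i g).1 h2⟩
    have hii : i⁻¹ = i := inv_eq_self hi
    let φ : {j : G // orderOf j = 2 ∧ j • ((1 : G) : G ⧸ N) = (g : G ⧸ N)} → D g := fun j =>
      ⟨i * j.1, by
        have hj := (hsmul j.1 g).1 j.2.2
        refine ⟨?_, (g⁻¹ * i) * (g⁻¹ * j.1)⁻¹, mul_mem hig (inv_mem hj), ?_⟩
        · have := mul_mem (inv_mem hig) hj
          simpa [mul_assoc, hii] using this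
        · show g * ((g⁻¹ * i) * (g⁻¹ * j.1)⁻¹) * g⁻¹ = i * j.1
          rw [mul_inv_rev, inv_inv, inv_eq_self j.2.1]; group⟩
    have hφ : Function.Injective φ := fun j j' h =>
      Subtype.ext (mul_left_cancel (congrArg Subtype.val h : i * j.1 = i * j'.1))
    have h1 := Nat.card_le_card_of_injective _ hφ
    rw [hc] at h1
    have h2 := Nat.card_le_card_of_injective _ (hfinj g hg)
    have hDe : Nat.card (D g) = e := le_antisymm h2 (hem.trans h1)
    refine ⟨hDe, ?_, i, hi, hig, fun x hx => ?_⟩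
    · haveI := Fintype.ofFinite (D g)
      haveI := Fintype.ofFinite (N ⧸ K)
      rw [Fintype.bijective_iff_injective_and_card, ← Nat.card_eq_fintype_card, ← Nat.card_eq_fintype_card]
      exact ⟨hfinj g hg, hDe⟩
    · have hbij : Function.Bijective φ := by
        haveI := Fintype.ofFinite (D g)
        haveI := Fintype.ofFinite {j : G // orderOf j = 2 ∧ j • ((1 : G) : G ⧸ N) = (g : G ⧸ N)}
        rw [Fintype.bijective_iff_injective_and_card, ← Nat.card_eq_fintype_card, ← Nat.card_eq_fintype_card]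
        exact ⟨hφ, le_antisymm (Nat.card_le_card_of_injective _ hφ) (by rw [hc, hDe]; exact hem)⟩
      obtain ⟨j, hj⟩ := hbij.2 ⟨x, hx⟩
      have hjx : i * j.1 = x := congrArg Subtype.val hj
      rw [← hjx, mul_inv_rev, inv_eq_self j.2.1, hii, show i * (i * j.1) * i = i * i * (j.1 * i) by group,
        mul_self_eq_one hi, one_mul]
  have hcommD : ∀ g, g ∉ N → ∀ x ∈ D g, ∀ y ∈ D g, x * y = y * x := by
    intro g hg x hx y hy
    obtain ⟨-, -, i, -, -, hinv⟩ := hcount g hg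
    have h1 := hinv _ (mul_mem hx hy)
    rw [mul_inv_rev, show i * (x * y) * i⁻¹ = (i * x * i⁻¹) * (i * y * i⁻¹) by group, hinv x hx,
      hinv y hy] at h1
    calc x * y = (y⁻¹ * x⁻¹)⁻¹ := by group
      _ = (x⁻¹ * y⁻¹)⁻¹ := by rw [← h1]
      _ = y * x := by group
  have hdec : ∀ g, g ∉ N → ∀ n ∈ N, ∃ d ∈ D g, n * d⁻¹ ∈ H := by
    intro g hg n hn
    obtain ⟨-, hb, -⟩ := hcount g hg
    obtain ⟨d, hd⟩ := hb.2 (QuotientGroup.mk' K ⟨n, hn⟩)
    refine ⟨d, d.2, ?_⟩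
    have h1 : (⟨(d : G), d.2.1⟩ : N)⁻¹ * ⟨n, hn⟩ ∈ K := QuotientGroup.eq.1 hd
    have h2 : (d : G)⁻¹ * n ∈ H := h1
    have := (Subgroup.mem_normalizer_iff.1 d.2.1 _).1 h2
    simpa [mul_assoc] using this
  intro g₁ g₂ hg₁ hg₂
  -- it suffices to use an element of `N`
  suffices hn : ∃ n ∈ N, g₂⁻¹ * (n * g₁) ∈ N by
    obtain ⟨n, hn, hng⟩ := hn
    obtain ⟨d, hd, hq⟩ := hdec g₁ hg₁ n hn
    refine ⟨n * d⁻¹, hq, ?_⟩
    obtain ⟨-, c, hc, hdc⟩ := hd
    have hdc' : g₁ * c * g₁⁻¹ = d := hdc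
    rw [show g₂⁻¹ * (n * d⁻¹ * g₁) = g₂⁻¹ * (n * g₁) * (g₁⁻¹ * d⁻¹ * g₁) by group]
    refine mul_mem hng ?_
    rw [← hdc', show g₁⁻¹ * (g₁ * c * g₁⁻¹)⁻¹ * g₁ = c⁻¹ by group]
    exact inv_mem hc
  by_contra hcon
  obtain ⟨hD1c, -, i₁, hi₁, hi₁g, hinv₁⟩ := hcount g₁ hg₁
  obtain ⟨hD2c, -⟩ := hcount g₂ hg₂
  have he2 : 2 ≤ e := by
    obtain ⟨hc, -⟩ := hcount g₁ hg₁
    have : m ≤ e := by
      obtain ⟨i, hi, hig⟩ : ∃ i : G, orderOf i = 2 ∧ g₁⁻¹ * i ∈ N := ⟨i₁, hi₁, hi₁g⟩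
      have hne : ((1 : G) : G ⧸ N) ≠ (g₁ : G ⧸ N) := fun e' => hg₁ (by
        have := QuotientGroup.eq.1 e'
        simpa using this)
      rw [hm, ← card_involutions_smul_eq hS hne, ← hc]
      refine Nat.card_le_card_of_injective (fun j => (⟨i * j.1, ?_⟩ : D g₁)) fun j j' h =>
        Subtype.ext (mul_left_cancel (congrArg Subtype.val h : i * j.1 = i * j'.1))
      have hj := (hsmul j.1 g₁).1 j.2.2
      refine ⟨?_, (g₁⁻¹ * i) * (g₁⁻¹ * j.1)⁻¹, mul_mem hig (inv_mem hj), ?_⟩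
      · have := mul_mem (inv_mem hig) hj
        simpa [mul_assoc, inv_eq_self hi] using this
      · show g₁ * ((g₁⁻¹ * i) * (g₁⁻¹ * j.1)⁻¹) * g₁⁻¹ = i * j.1
        rw [mul_inv_rev, inv_inv, inv_eq_self j.2.1]; group
    omega
  -- a Sylow subgroup common to the two stabilisers
  obtain ⟨p, hp, hpe⟩ := Nat.exists_prime_and_dvd (n := e) (by omega)
  haveI : Fact p.Prime := ⟨hp⟩
  have hpH : ¬ p ∣ Nat.card H := fun hd => hp.ne_one (Nat.eq_one_of_dvd_coprimes hH.cop hd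
    (hpe.trans (Subgroup.relIndex_dvd_index_of_le (Subgroup.le_normalizer : H ≤ N))))
  have hsyl : ∀ g, g ∉ N → ∃ P : Sylow p N, (P : Subgroup N).map N.subtype ≤ D g := by
    intro g hg
    obtain ⟨Q⟩ : Nonempty (Sylow p ((D g).subgroupOf N)) := inferInstance
    refine ⟨Sylow.ofCard ((Q : Subgroup ((D g).subgroupOf N)).map ((D g).subgroupOf N).subtype) ?_, ?_⟩
    · rw [Subgroup.card_map_of_injective Subtype.val_injective, Q.card_eq_multiplicity,
        Nat.card_congr (Subgroup.subgroupOfEquivOfLe inf_le_left).toEquiv, (hcount g hg).1]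
      congr 1
      have hcard : Nat.card N = e * Nat.card H := by
        rw [he, ← Nat.card_congr (Subgroup.subgroupOfEquivOfLe (Subgroup.le_normalizer : H ≤ N)).toEquiv]
        exact Subgroup.card_eq_card_quotient_mul_card_subgroup K
      rw [hcard, Nat.factorization_mul (by omega) Nat.card_pos.ne', Finsupp.add_apply,
        Nat.factorization_eq_zero_of_not_dvd hpH, add_zero]
    · rintro _ ⟨_, ⟨x, -, rfl⟩, rfl⟩
      exact x.2
  obtain ⟨P₁, hP₁⟩ := hsyl g₁ hg₁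
  obtain ⟨P₂, hP₂⟩ := hsyl g₂ hg₂
  obtain ⟨n, hn⟩ := MulAction.exists_smul_eq N P₂ P₁
  set g₃ := (n : G) * g₂ with hg₃d
  have hg₃ : g₃ ∉ N := fun h => hg₂ (by simpa [hg₃d] using mul_mem (inv_mem n.2) h)
  have hP₁' : (P₁ : Subgroup N).map N.subtype ≤ D g₃ := by
    rintro _ ⟨x, hx, rfl⟩
    rw [← hn] at hx
    obtain ⟨y, hy, rfl⟩ : ∃ y ∈ (P₂ : Subgroup N), MulAut.conj n y = x := hx
    obtain ⟨hyN, c, hc, hyc⟩ := hP₂ ⟨y, hy, rfl⟩
    refine ⟨SetLike.coe_mem _, c, hc, ?_⟩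
    have hyc' : g₂ * c * g₂⁻¹ = (y : G) := hyc
    show g₃ * c * g₃⁻¹ = ((n : G) * y * (n : G)⁻¹)
    rw [hg₃d, ← hyc']; group
  obtain ⟨x₀, hx₀, hx₀1⟩ : ∃ x ∈ (P₁ : Subgroup N), x ≠ 1 := by
    refine (Subgroup.bot_or_exists_ne_one _).resolve_left (P₁.ne_bot_of_dvd_card ?_)
    have hcard : Nat.card N = Nat.card (N ⧸ K) * Nat.card K := Subgroup.card_eq_card_quotient_mul_card_subgroup K
    rw [hcard, ← he]
    exact hpe.mul_right _
  have hx₀G : (x₀ : G) ≠ 1 := fun e' => hx₀1 (Subtype.ext e')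
  set X := N ⊓ Subgroup.centralizer ({(x₀ : G)} : Set G) with hX
  have hXle : ∀ g, g ∉ N → (P₁ : Subgroup N).map N.subtype ≤ D g → D g = X := by
    intro g hg hle
    refine Subgroup.eq_of_le_of_card_ge (fun y hy => ⟨hy.1, Subgroup.mem_centralizer_singleton_iff.2
      (hcommD g hg y hy _ (hle ⟨x₀, hx₀, rfl⟩))⟩) ?_
    rw [(hcount g hg).1, he]
    refine Nat.card_le_card_of_injective (fun y : X => QuotientGroup.mk' K ⟨y, y.2.1⟩) fun y y' h => ?_
    have h1 : (⟨(y : G), y.2.1⟩ : N)⁻¹ * ⟨(y' : G), y'.2.1⟩ ∈ K := QuotientGroup.eq.1 h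
    change (y : G)⁻¹ * y' ∈ H at h1
    refine Subtype.ext (inv_mul_eq_one.1 (by_contra fun h2 => hx₀G ?_))
    have hc : (x₀ : G) ∈ H := hH.cent _ h1 h2 (Subgroup.mem_centralizer_singleton_iff.2
      (Subgroup.mem_centralizer_singleton_iff.1 (mul_mem (inv_mem y.2.2) y'.2.2)).symm)
    exact hDH g hg _ (hle ⟨x₀, hx₀, rfl⟩) hc
  have hD : D g₃ = D g₁ := (hXle g₃ hg₃ hP₁').trans (hXle g₁ hg₁ hP₁).symm
  obtain ⟨-, -, i₂, hi₂, hi₂g, hinv₂⟩ := hcount g₃ hg₃
  rw [hD] at hinv₂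
  -- the product centralises the stabiliser
  set c := i₁ * i₂ with hc
  have hcx : ∀ x ∈ D g₁, c * x * c⁻¹ = x := fun x hx => by
    rw [hc, show i₁ * i₂ * x * (i₁ * i₂)⁻¹ = i₁ * (i₂ * x * i₂⁻¹) * i₁⁻¹ by group, hinv₂ x hx,
      hinv₁ _ (inv_mem hx), inv_inv]
  have hcN : c ∉ N := by
    intro hcN
    have h1 : g₁⁻¹ * g₃ ∈ N := by
      have h2 : g₁⁻¹ * i₁ * (i₁ * i₂) * (g₃⁻¹ * i₂)⁻¹ ∈ N := mul_mem (mul_mem hi₁g hcN) (inv_mem hi₂g)
      rwa [show g₁⁻¹ * i₁ * (i₁ * i₂) * (g₃⁻¹ * i₂)⁻¹ = g₁⁻¹ * (i₁ * i₁) * g₃ by group,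
        mul_self_eq_one hi₁, mul_one] at h2
    -- so the two points are in one orbit
    refine hcon ⟨(n : G)⁻¹, inv_mem n.2, ?_⟩
    rw [show g₂⁻¹ * ((n : G)⁻¹ * g₁) = (g₁⁻¹ * g₃)⁻¹ by rw [hg₃d]; group]
    exact inv_mem h1
  have hDc : D c = D g₁ := by
    refine (Subgroup.eq_of_le_of_card_ge (fun x hx => ?_) ?_).symm
    · refine ⟨hx.1, x, hx.1, ?_⟩
      exact hcx x hx
    · rw [(hcount c hcN).1, hD1c]
  obtain ⟨-, -, i₃, hi₃, hi₃c, hinv₃⟩ := hcount c hcN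
  rw [hDc] at hinv₃
  set n' := c⁻¹ * i₃ with hn'
  have hn'x : ∀ x ∈ D g₁, n' * x * n'⁻¹ = x⁻¹ := fun x hx => by
    rw [hn', show c⁻¹ * i₃ * x * (c⁻¹ * i₃)⁻¹ = c⁻¹ * (i₃ * x * i₃⁻¹) * c by group, hinv₃ x hx]
    have := hcx _ (inv_mem hx)
    calc c⁻¹ * x⁻¹ * c = c⁻¹ * (c * x⁻¹ * c⁻¹) * c := by rw [this]
      _ = x⁻¹ := by group
  obtain ⟨d, hd, hh⟩ := hdec g₁ hg₁ n' hi₃c
  have hbot : ∀ x ∈ D g₁, x * x = 1 := fun x hx => by
    set w := n' * d⁻¹ with hw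
    have hwx : w * x * w⁻¹ = x⁻¹ := by
      rw [hw, show n' * d⁻¹ * x * (n' * d⁻¹)⁻¹ = n' * (d⁻¹ * (x * d)) * n'⁻¹ by group,
        hcommD g₁ hg₁ x hx d hd, inv_mul_cancel_left]
      exact hn'x x hx
    have h1 : x⁻¹ * x⁻¹ ∈ H := by
      have h2 : w * (x * w⁻¹ * x⁻¹) ∈ H :=
        mul_mem hh ((Subgroup.mem_normalizer_iff.1 hx.1 _).1 (inv_mem hh))
      rwa [show w * (x * w⁻¹ * x⁻¹) = (w * x * w⁻¹) * x⁻¹ by group, hwx] at h2
    have := hDH g₁ hg₁ _ (mul_mem (inv_mem hx) (inv_mem hx)) h1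
    rw [← mul_inv_rev, inv_eq_one] at this
    exact this
  -- but the stabiliser has odd order
  have hx₁ : (x₀ : G) ∈ D g₁ := hP₁ ⟨x₀, hx₀, rfl⟩
  have hodd := hS.2.2 g₁ hg₁
  have h2 : orderOf (x₀ : G) = 2 := orderOf_eq_prime (by rw [sq]; exact hbot _ hx₁) hx₀G
  have := Subgroup.orderOf_dvd_natCard _ (show (x₀ : G) ∈ N ⊓ N.map (MulAut.conj g₁).toMonoidHom from hx₁)
  rw [h2] at this
  exact Nat.not_even_iff_odd.2 hodd (even_iff_two_dvd.2 this)

omit hH in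
/-- A non-solvable simple CN-group has 2-group involution centralisers. -/
theorem invCentTwo_of_cn [IsSimpleGroup G] (hCN : Cfsg.IsCNGroup G) (hns : ¬ Group.IsSolvable G) :
    CITThreePrime.InvCentTwo G := by
  haveI : Fact (Nat.Prime 2) := ⟨Nat.prime_two⟩
  intro t ht
  by_contra hC
  have ht1 : t ≠ 1 := fun e => by rw [e, orderOf_one] at ht; omega
  obtain ⟨H, hH, hle⟩ := exists_maxNilpotent (hCN t ht1)
  have h2 : 2 ∣ Nat.card H := ht ▸ Subgroup.orderOf_dvd_natCard H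
    (hle (Subgroup.mem_centralizer_singleton_iff.2 rfl))
  have hnp : ¬ IsPGroup 2 H := fun h => hC (h.to_le hle)
  have hpp : ¬ IsPrimePow (Nat.card H) := fun hp => hnp (by
    obtain ⟨p, k, hp', -, hpk⟩ := (isPrimePow_nat_iff _).1 hp
    have : 2 = p := (Nat.prime_dvd_prime_iff_eq Nat.prime_two hp').1
      (Nat.prime_two.dvd_of_dvd_pow (hpk ▸ h2))
    exact IsPGroup.of_card (n := k) (by rw [← hpk, this]))
  have h1 : Nat.card H ≠ 1 := fun e => by rw [e] at h2; omega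
  have hTI : TIHall H :=
    ⟨coprime_index hCN hH, fun g hg => ti_of_not_primePow hCN hH hpp h1 g
      (fun e => hg (Subgroup.mem_normalizer_iff_map_conj_eq.2 e)),
      fun x hx hx1 => centralizer_le_of_not_primePow hCN hH hpp hx hx1⟩
  have hne : Subgroup.normalizer (H : Set G) ≠ ⊤ := fun e => by
    haveI : H.Normal := Subgroup.normalizer_eq_top_iff.1 e
    rcases (inferInstance : H.Normal).eq_bot_or_eq_top with e' | e'
    · rw [e', Subgroup.card_bot] at h1; exact h1 rfl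
    · haveI : Group.IsNilpotent H := hH.1
      haveI : Group.IsSolvable (⊤ : Subgroup G) := e' ▸ (inferInstance : Group.IsSolvable H)
      exact hns (Group.isSolvable_of_surjective (f := (⊤ : Subgroup G).subtype)
        (fun x => ⟨⟨x, Subgroup.mem_top x⟩, rfl⟩))
  have heven : Even (Nat.card H) := even_iff_two_dvd.2 h2
  have hS := hTI.stronglyEmbedded heven hne
  obtain ⟨hR, -⟩ := RankOneClassify.rankTwo_of_simple hS
  have hQ : CfsgLib.StrongEmb.IsRegularOff (Subgroup.normalizer (H : Set G)) H :=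
    ⟨Subgroup.le_normalizer, Subgroup.normal_subgroupOf_of_le_normalizer le_rfl,
      hTI.transitive hS hR heven, fun g hg q hq hm => hTI.reg hg hq hm⟩
  obtain ⟨v, hv, hvN⟩ := StrongEmb.exists_involution_not_mem hS
  exact hnp (RankOneSetup.isPGroup_Q (StrongEmb.isRankOneSetup hS hQ hv hvN) hR.exists_pair)

end CfsgLib.CIT
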