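import Cfsg.Agent.CIT.Extend
import Cfsg.Agent.CIT.BadQSixtyFour
import Cfsg.Agent.PSL34.CITOrder

/-!
One class of involutions, a rigid subgroup of order three, and tameness for `PSL₃(4)` given by local data.
-/

set_option autoImplicit false

namespace CfsgLib.CIT

open CfsgLib.CITThreePrime CfsgLib.PSL34

universe u

variable {G : Type u} [Group G] [Finite G] {T V₁ V₂ : Subgroup G}

theorem card_mul_index_ne {M : Type*} [Group M] [Finite M] (P : Subgroup M) {n i : ℕ}
    (hM : Nat.card M = n) (hi : P.index = i) : Nat.card P * i = n := by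
  rw [← hi, P.card_mul_index, hM]

variable (h : CITData T V₁ V₂)
include h

theorem oneClass_citData : OneClass G := by
  obtain ⟨z, hz, hz1⟩ := h.exists_central
  exact ⟨⟨z, IsI.orderOf_eq ⟨h.exp₁ z hz.1, hz1⟩⟩, fun s t hs ht =>
    (h.isConj_inv (isI_of_orderOf hs) hz hz1).trans (h.isConj_inv (isI_of_orderOf ht) hz hz1).symm⟩

theorem tame_citData (A : Subgroup G) (hA : ∀ a ∈ A, a * a = 1) :
    ∃ d, Odd d ∧ d ∣ Nat.card G ∧ Nat.card A ^ 2 ≤ d := by
  haveI : Fact (Nat.Prime 2) := ⟨Nat.prime_two⟩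
  refine ⟨315, by decide, by rw [h.card_eq]; norm_num, ?_⟩
  obtain ⟨g, hg⟩ := h.exists_conj_mem
    (fun a => ⟨1, Subtype.ext (by rw [pow_one, sq]; exact hA a a.2)⟩ : IsPGroup 2 A)
  set B := A.map (MulAut.conj g).toMonoidHom
  have hBc : Nat.card B = Nat.card A :=
    Subgroup.card_map_of_injective (f := (MulAut.conj g).toMonoidHom) (MulAut.conj g).injective
  have hB : ∀ b ∈ B, b ∈ V₁ ∨ b ∈ V₂ := by
    rintro _ ⟨a, ha, rfl⟩
    exact h.mem_of_sq (hg a ha) (by rw [← map_mul, hA a ha, map_one])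
  have : Nat.card B ≤ 16 := by
    rcases le_or_le_of_subset_union hB with e | e
    · exact h.card₁ ▸ Subgroup.card_le_of_le e
    · exact h.card₂ ▸ Subgroup.card_le_of_le e
  rw [hBc] at this
  exact (Nat.pow_le_pow_left this 2).trans (by norm_num)

theorem le_normalizer_citData : T ≤ Subgroup.normalizer (V₁ : Set G) := fun _ ht =>
  Subgroup.mem_normalizer_fintype (S := (V₁ : Set G)) fun _ hv => h.conj_mem₁ ht hv

/-- The normaliser of the Sylow subgroup inside that of `V₁`. -/
theorem card_normalizer_inf (s₁ : ¬ Group.IsSolvable (Subgroup.normalizer (V₁ : Set G))) :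
    Nat.card ↥(Subgroup.normalizer (V₁ : Set G) ⊓ Subgroup.normalizer (T : Set G)) = 192 := by
  haveI : Fact (Nat.Prime 2) := ⟨Nat.prime_two⟩
  set M := Subgroup.normalizer (V₁ : Set G)
  set V := V₁.subgroupOf M
  haveI : V.Normal := Subgroup.normal_subgroupOf_of_le_normalizer le_rfl
  have hTM : T ≤ M := le_normalizer_citData h
  have hVc : Nat.card V = 16 := by
    rw [Nat.card_congr (Subgroup.subgroupOfEquivOfLe (Subgroup.le_normalizer : V₁ ≤ M)).toEquiv, h.card₁]
  have hQ : Nat.card (M ⧸ V) = 60 := by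
    have := Subgroup.card_eq_card_quotient_mul_card_subgroup V
    rw [hVc, h.norm₁] at this
    omega
  have hns : ¬ Group.IsSolvable (M ⧸ V) := fun hs => s₁ (by
    haveI := hs
    haveI : Group.IsSolvable V := Group.isSolvable_of_comm fun a b =>
      Subtype.ext (Subtype.ext (h.comm₁ a.2 b.2))
    exact Group.isSolvable_of_ker_le_range V.subtype (QuotientGroup.mk' V)
      (by rw [QuotientGroup.ker_mk', Subgroup.range_subtype]))
  set π := QuotientGroup.mk' V
  have hπ : Function.Surjective π := QuotientGroup.mk'_surjective V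
  set B := (T.subgroupOf M).map π with hB
  have hcB : B.comap π = T.subgroupOf M := by
    rw [hB, Subgroup.comap_map_eq, QuotientGroup.ker_mk', sup_eq_left]
    exact Subgroup.comap_mono h.le₁
  have hTc : Nat.card (T.subgroupOf M) = 64 := by
    rw [Nat.card_congr (Subgroup.subgroupOfEquivOfLe hTM).toEquiv, h.card_T]
  have hBi : B.index = 15 := by
    rw [← Subgroup.index_comap_of_surjective B hπ, hcB]
    have := (T.subgroupOf M).card_mul_index
    rw [hTc, h.norm₁] at this
    omega
  have hBc : Nat.card B = 4 := by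
    have := B.card_mul_index
    rw [hBi, hQ] at this
    omega
  let P : Sylow 2 (M ⧸ V) := (IsPGroup.of_card (n := 2) (by rw [hBc]; rfl) : IsPGroup 2 B).toSylow
    (by rw [hBi]; norm_num)
  have h12 : Nat.card (Subgroup.normalizer (B : Set (M ⧸ V))) = 12 :=
    PSL34.card_normalizer_four hQ hns P
  have hi : (Subgroup.normalizer (B : Set (M ⧸ V))).index = 5 := by
    have := (Subgroup.normalizer (B : Set (M ⧸ V))).card_mul_index
    rw [h12, hQ] at this
    omega
  have hsub : (Subgroup.normalizer (B : Set (M ⧸ V))).comap π =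
      (Subgroup.normalizer (T : Set G)).subgroupOf M := by
    rw [Subgroup.subgroupOf_normalizer_eq hTM, ← hcB]
    exact Subgroup.comap_normalizer_eq_of_surjective _ hπ
  have hidx : ((Subgroup.normalizer (T : Set G)).subgroupOf M).index = 5 := by
    rw [← hsub, Subgroup.index_comap_of_surjective _ hπ, hi]
  have := card_mul_index_ne _ h.norm₁ hidx
  have hc : Nat.card ((Subgroup.normalizer (T : Set G)).subgroupOf M) =
      Nat.card ↥(M ⊓ Subgroup.normalizer (T : Set G)) :=
    Nat.card_congr ⟨fun y => ⟨y.1.1, y.1.2, y.2⟩, fun y => ⟨⟨y.1, y.2.1⟩, y.2.2⟩, fun _ => rfl, fun _ => rfl⟩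
  rw [hc] at this
  omega

theorem realOdd_three {y : G} (hy : y ∈ Subgroup.normalizer (V₁ : Set G)) (hy3 : orderOf y = 3) :
    RealOdd y := by
  haveI : Fact (Nat.Prime 5) := ⟨Nat.prime_five⟩
  haveI : Fact (Nat.Prime 3) := ⟨Nat.prime_three⟩
  have hy1 : y ≠ 1 := fun e => by rw [e, orderOf_one] at hy3; norm_num at hy3
  obtain ⟨h60, t, ht, ht1, hpM⟩ := h.card_local_normalizer (p := 3) (by norm_num) (by norm_num) hy hy3
  set M := (Subgroup.normalizer (V₁ : Set G) ⊓ Subgroup.normalizer (Subgroup.zpowers y : Set G) : Subgroup G)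
    with hM
  by_cases heven : 2 ∣ Nat.card M
  · exact h.exists_inverting_of_even Nat.prime_three (by norm_num) (Y := Subgroup.zpowers y)
      (by rw [Nat.card_zpowers, hy3]) (Subgroup.mem_zpowers y) hy1 inf_le_right heven
  have h15 : Nat.card M = 15 := by
    generalize Nat.card M = m at h60 ht hpM heven
    have := Nat.le_of_dvd (by norm_num) h60
    obtain ⟨c, rfl⟩ := hpM
    have : c ≤ 20 := by omega
    interval_cases c <;> omega
  obtain ⟨⟨g, hg⟩, hg5⟩ := exists_prime_orderOf_dvd_card' (G := M) 5 (by rw [h15]; norm_num)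
  rw [Subgroup.orderOf_mk] at hg5
  -- the automorphism group of a group of order three has order two
  set Y := Subgroup.zpowers y
  haveI : IsCyclic Y := inferInstance
  have haut : Nat.card (MulAut Y) = 2 := by
    rw [IsCyclic.card_mulAut, Nat.card_zpowers, hy3]; rfl
  have hone : Y.normalizerMonoidHom ⟨g, hg.2⟩ = 1 := by
    rw [← orderOf_eq_one_iff]
    refine Nat.eq_one_of_dvd_coprimes (show Nat.Coprime 5 2 by norm_num) ?_ ?_
    · have := orderOf_map_dvd Y.normalizerMonoidHom ⟨g, hg.2⟩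
      rwa [Subgroup.orderOf_mk, hg5] at this
    · exact haut ▸ orderOf_dvd_natCard _
  have hmem : (⟨g, hg.2⟩ : Subgroup.normalizer (Y : Set G)) ∈ Y.normalizerMonoidHom.ker :=
    MonoidHom.mem_ker.2 hone
  rw [Subgroup.normalizerMonoidHom_ker] at hmem
  refine h.realOdd_of_mem (h.realOdd_five hg.1 hg5) ?_ hy1
  rw [Subgroup.mem_centralizer_singleton_iff]
  exact Subgroup.mem_centralizer_iff.1 hmem y (Subgroup.mem_zpowers y)

theorem rigid_citData (s₁ : ¬ Group.IsSolvable (Subgroup.normalizer (V₁ : Set G))) : Rigid G := by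
  haveI : Fact (Nat.Prime 2) := ⟨Nat.prime_two⟩
  haveI : Fact (Nat.Prime 3) := ⟨Nat.prime_three⟩
  have hH := card_normalizer_inf h s₁
  set H := Subgroup.normalizer (V₁ : Set G) ⊓ Subgroup.normalizer (T : Set G)
  obtain ⟨y, hy⟩ := exists_prime_orderOf_dvd_card' (G := H) 3 (by rw [hH]; norm_num)
  have hy3 : orderOf (y : G) = 3 := by rw [Subgroup.orderOf_coe, hy]
  obtain ⟨-, -, v, hv, hvy⟩ := realOdd_three h y.2.1 hy3
  refine ⟨3, y, v, Nat.prime_three, rfl, hy3, hv.orderOf_eq, hvy, fun σ => ?_⟩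
  -- move the image of `T` back to `T`
  set T' := T.map σ.toMonoidHom with hT'
  have hT'c : Nat.card T' = 64 := by
    rw [hT', Subgroup.card_map_of_injective (f := σ.toMonoidHom) σ.injective, h.card_T]
  obtain ⟨g, hg⟩ := h.exists_conj_mem (IsPGroup.of_card (n := 6) (by rw [hT'c]; rfl) : IsPGroup 2 T')
  have hgT : T'.map (MulAut.conj g).toMonoidHom = T := by
    refine Subgroup.eq_of_le_of_card_ge ?_ ?_
    · rintro _ ⟨x, hx, rfl⟩; exact hg x hx
    · rw [Subgroup.card_map_of_injective (f := (MulAut.conj g).toMonoidHom) (MulAut.conj g).injective,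
        hT'c, h.card_T]
  set y' := g * σ y * g⁻¹ with hy'
  have hy'3 : orderOf y' = 3 := by
    rw [hy', show g * σ (y : G) * g⁻¹ = MulAut.conj g (σ y) from rfl, MulEquiv.orderOf_eq,
      MulEquiv.orderOf_eq, hy3]
  have hy'T : y' ∈ Subgroup.normalizer (T : Set G) := by
    refine Subgroup.mem_normalizer_fintype (S := (T : Set G)) fun t ht => ?_
    rw [SetLike.mem_coe] at ht
    rw [← hgT] at ht
    obtain ⟨_, ⟨s, hs, rfl⟩, rfl⟩ := ht
    show y' * (g * σ s * g⁻¹) * y'⁻¹ ∈ (T : Subgroup G)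
    have hs' : (y : G) * s * (y : G)⁻¹ ∈ T := (Subgroup.mem_normalizer_iff.1 y.2.2 s).1 hs
    have := hg _ ⟨_, hs', rfl⟩
    simp only [MulEquiv.coe_toMonoidHom, map_mul, map_inv] at this
    rw [show y' * (g * σ s * g⁻¹) * y'⁻¹ = g * (σ y * σ s * (σ y)⁻¹) * g⁻¹ by rw [hy']; group]
    exact this
  have hperm : ∀ A ≤ T, (∀ a ∈ A, a * a = 1) → Nat.card A = 16 →
      A.map (MulAut.conj y').toMonoidHom = V₁ ∨ A.map (MulAut.conj y').toMonoidHom = V₂ := by
    intro A hA hA2 hAc
    refine h.only _ ?_ ?_ ?_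
    · rintro _ ⟨a, ha, rfl⟩
      exact (Subgroup.mem_normalizer_iff.1 hy'T a).1 (hA ha)
    · rintro _ ⟨a, ha, rfl⟩
      rw [← map_mul, hA2 a ha, map_one]
    · rw [Subgroup.card_map_of_injective (f := (MulAut.conj y').toMonoidHom) (MulAut.conj y').injective, hAc]
  have hy'V : y' ∈ Subgroup.normalizer (V₁ : Set G) := by
    rw [Subgroup.mem_normalizer_iff_map_conj_eq]
    refine (hperm V₁ h.le₁ h.exp₁ h.card₁).resolve_right fun e => ?_
    have e' : V₂.map (MulAut.conj y').toMonoidHom = V₁ := by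
      refine (hperm V₂ h.le₂ h.exp₂ h.card₂).resolve_right fun e2 => h.ne ?_
      exact Subgroup.map_injective (f := (MulAut.conj y').toMonoidHom) (MulAut.conj y').injective
        (e.trans e2.symm)
    have h3 : ((V₁.map (MulAut.conj y').toMonoidHom).map (MulAut.conj y').toMonoidHom).map
        (MulAut.conj y').toMonoidHom = V₁ := by
      rw [Subgroup.map_map, Subgroup.map_map]
      convert Subgroup.map_id V₁ using 2
      ext a
      have hy3' : y' * y' * y' = 1 := by
        rw [← sq, ← pow_succ, show 2 + 1 = orderOf y' from hy'3.symm, pow_orderOf_eq_one]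
      show y' * (y' * (y' * a * y'⁻¹) * y'⁻¹) * y'⁻¹ = a
      calc y' * (y' * (y' * a * y'⁻¹) * y'⁻¹) * y'⁻¹ = (y' * y' * y') * a * (y' * y' * y')⁻¹ := by group
        _ = a := by rw [hy3']; group
    rw [e, e', e] at h3
    exact h.ne h3.symm
  have hy'H : y' ∈ H := ⟨hy'V, hy'T⟩
  obtain ⟨n, j, hj⟩ := exists_conj_zpowers (N := H) (p := 3) (fun P => by
    refine isCyclic_of_prime_card (p := 3) ?_
    rw [P.card_eq_multiplicity, hH, show (192 : ℕ) = 2 ^ 6 * 3 by norm_num,
      Nat.factorization_mul (by norm_num) (by norm_num), Finsupp.add_apply,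
      Nat.prime_two.factorization_pow, Finsupp.single_eq_of_ne (by norm_num),
      Nat.prime_three.factorization_self]
    norm_num) hy (y := (⟨y', hy'H⟩ : H)) (by rw [← Subgroup.orderOf_coe]; exact hy'3)
  refine ⟨(n : G) * g, j, ?_⟩
  have := congrArg (fun z : H => (z : G)) hj
  simp only [Subgroup.coe_mul, Subgroup.coe_zpow, Subgroup.coe_inv] at this
  show (y : G) ^ j = _
  rw [this, hy']; group

end CfsgLib.CIT
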