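import Cfsg.Agent.CITThreePrime.LocalBound

/-!
Elements of order three acting without fixed points on a normal 2-subgroup of a group with 2-group
involution centralisers, and involutions inverting elements of odd prime order.
-/

set_option autoImplicit false

namespace CfsgLib.CIT

open CfsgLib.CITThreePrime

universe u

variable {G : Type u} [Group G] [Finite G] (h : InvCentTwo G)
include h

omit [Finite G] in
theorem centralizer_isPGroup {V : Subgroup G} (hV : IsPGroup 2 V) (hV1 : V ≠ ⊥) :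
    IsPGroup 2 (Subgroup.centralizer (V : Set G)) := by
  obtain ⟨v, hv, hv1⟩ := (V.bot_or_exists_ne_one).resolve_left hV1
  obtain ⟨k, hk⟩ := exists_two_pow_of_mem hV hv
  rw [IsPGroup.iff_orderOf]
  rintro ⟨c, hc⟩
  rw [Subgroup.orderOf_mk]
  exact h.orderOf_of_commute hk hv1 (Subgroup.mem_centralizer_iff.1 hc v hv)

theorem centralizer_le_pCore (V : Subgroup G) [V.Normal] (hV : IsPGroup 2 V) (hV1 : V ≠ ⊥) :
    Subgroup.centralizer (V : Set G) ≤ Cfsg.pCore 2 G :=
  BaerSuzuki.normal_pgroup_le_pCore inferInstance (centralizer_isPGroup h hV hV1)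

/-- Lifting an involution modulo `O₂` to an involution inverting an element of odd prime order. -/
theorem exists_involution_inverting {a : G} (haQ : a ∉ Cfsg.pCore 2 G)
    (ha2 : a ^ 2 ∈ Cfsg.pCore 2 G) :
    ∃ u x : G, ∃ p : ℕ, p.Prime ∧ p ≠ 2 ∧ orderOf x = p ∧ orderOf u = 2 ∧
      a⁻¹ * u ∈ Cfsg.pCore 2 G ∧ u * x * u⁻¹ = x⁻¹ := by
  classical
  haveI : Fact (Nat.Prime 2) := ⟨Nat.prime_two⟩
  set Q := Cfsg.pCore 2 G with hQdef
  have hQp : IsPGroup 2 Q := Constrained.isPGroup_pCore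
  set π := QuotientGroup.mk' Q with hπ
  have hain : orderOf (π a) = 2 := orderOf_eq_prime
    (by rw [← map_pow]; exact (QuotientGroup.eq_one_iff _).2 ha2)
    (fun e => haQ ((QuotientGroup.eq_one_iff a).1 e))
  obtain ⟨y, hy1, hyo, hyinv⟩ := BaerSuzuki.involution_inverts_odd hain
    (by show π a ∉ Cfsg.pCore 2 (G ⧸ Cfsg.pCore 2 G)
        rw [Constrained.pCore_quotient_pCore, Subgroup.mem_bot]
        intro e; rw [e, orderOf_one] at hain; omega)
  obtain ⟨p, hp, hpd⟩ := Nat.exists_prime_and_dvd (fun e => hy1 (orderOf_eq_one_iff.1 e))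
  haveI : Fact p.Prime := ⟨hp⟩
  have hp2 : p ≠ 2 := fun e => Nat.not_even_iff_odd.2 hyo (even_iff_two_dvd.2 (e ▸ hpd))
  set z := y ^ (orderOf y / p) with hz
  have hzo : orderOf z = p := orderOf_pow_orderOf_div (orderOf_pos y).ne' hpd
  have hzinv : π a * z * (π a)⁻¹ = z⁻¹ := by rw [hz, ← conj_pow, hyinv, inv_pow]
  obtain ⟨g, hg⟩ := QuotientGroup.mk'_surjective Q z
  obtain ⟨i, b, hb, hab⟩ := Nat.exists_eq_pow_mul_and_not_dvd (orderOf_pos g).ne' p hp.ne_one
  set x := g ^ b with hx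
  have hπx : π x = z ^ b := by rw [hx, map_pow, hg]
  have hx1 : x ≠ 1 := fun e => hb (hzo ▸ orderOf_dvd_of_pow_eq_one (by rw [← hπx, e, map_one]))
  have hxp : x ^ p = 1 := by
    have h1 : x ^ p ∈ Q := (QuotientGroup.eq_one_iff _).1 (show π (x ^ p) = 1 by
      rw [map_pow, hπx, ← pow_mul, mul_comm, pow_mul, ← hzo, pow_orderOf_eq_one, one_pow])
    obtain ⟨k, hk⟩ := exists_two_pow_of_mem hQp h1
    rw [← orderOf_eq_one_iff, hk]
    have h2 : orderOf (x ^ p) ∣ p ^ i := orderOf_dvd_of_pow_eq_one (by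
      rw [← pow_mul, hx, ← pow_mul, show b * (p * p ^ i) = p ^ i * b * p by ring, ← hab, pow_mul,
        pow_orderOf_eq_one, one_pow])
    exact Nat.eq_one_of_dvd_coprimes
      (Nat.Coprime.pow k i ((Nat.coprime_primes Nat.prime_two hp).2 hp2.symm)) dvd_rfl (hk ▸ h2)
  have hxo : orderOf x = p := orderOf_eq_prime hxp hx1
  have hxinv : π a * π x * (π a)⁻¹ = (π x)⁻¹ := by rw [hπx, ← conj_pow, hzinv, inv_pow]
  -- twisted action on the coset of `a`
  let α := {u : G // π u = π a}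
  have htw : ∀ w : Subgroup.zpowers x, ∀ u : α, π ((w : G) * u * (w : G)) = π a := by
    rintro ⟨w, n, rfl⟩ ⟨u, hu⟩
    simp only [map_mul, map_zpow, hu]
    have e : (π a) * (π x) ^ n = ((π x)⁻¹) ^ n * π a := by
      rw [← hxinv, conj_zpow]; group
    rw [mul_assoc, e, inv_zpow, mul_inv_cancel_left]
  letI act : MulAction (Subgroup.zpowers x) α :=
    { smul := fun w u => ⟨(w : G) * u * (w : G), htw w u⟩
      one_smul := fun u => Subtype.ext (show (1 : G) * (u : G) * 1 = u by rw [one_mul, mul_one])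
      mul_smul := fun w w' u => Subtype.ext (show (w : G) * w' * u * ((w : G) * w') =
          (w : G) * ((w' : G) * u * w') * w by
        have hc : (w : G) * (w' : G) = (w' : G) * w :=
          congrArg Subtype.val (mul_comm' w w')
        conv_lhs => arg 2; rw [hc]
        simp only [mul_assoc]) }
  have hP : IsPGroup p (Subgroup.zpowers x) := IsPGroup.of_card (n := 1) (by
    rw [Nat.card_zpowers, hxo, pow_one])
  have hα : Nat.card α = Nat.card Q := by
    refine Nat.card_congr ⟨fun u => ⟨a⁻¹ * u, ?_⟩, fun q => ⟨a * q, ?_⟩, fun u => ?_, fun q => ?_⟩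
    · refine (QuotientGroup.eq_one_iff _).1 (show π (a⁻¹ * u) = 1 from ?_)
      rw [map_mul, map_inv, u.2, inv_mul_cancel]
    · rw [map_mul, show π (q : G) = 1 from (QuotientGroup.eq_one_iff _).2 q.2, mul_one]
    · exact Subtype.ext (mul_inv_cancel_left a _)
    · exact Subtype.ext (inv_mul_cancel_left a _)
  have hnd : ¬ p ∣ Nat.card α := by
    obtain ⟨k, hk⟩ := IsPGroup.iff_card.1 hQp
    rw [hα, hk]
    exact fun hd => hp2 ((Nat.prime_dvd_prime_iff_eq hp Nat.prime_two).1 (hp.dvd_of_dvd_pow hd))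
  obtain ⟨⟨u, hu⟩, hfix⟩ := hP.nonempty_fixed_point_of_prime_not_dvd_card α hnd
  have hxux : x * u * x = u := congrArg Subtype.val (hfix ⟨x, Subgroup.mem_zpowers x⟩)
  have huinv : u * x * u⁻¹ = x⁻¹ := by
    rw [mul_inv_eq_iff_eq_mul, eq_inv_mul_iff_mul_eq, ← mul_assoc, hxux]
  have hu1 : u ≠ 1 := fun e => haQ ((QuotientGroup.eq_one_iff a).1 (show π a = 1 by
    rw [← hu, e, map_one]))
  have huQ : a⁻¹ * u ∈ Q := (QuotientGroup.eq_one_iff _).1 (show π (a⁻¹ * u) = 1 by
    rw [map_mul, map_inv, hu, inv_mul_cancel])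
  have hu2 : u ^ 2 = 1 := by
    have h1 : u ^ 2 ∈ Q := (QuotientGroup.eq_one_iff _).1 (show π (u ^ 2) = 1 by
      rw [map_pow, hu]
      have hh := pow_orderOf_eq_one (π a)
      rwa [hain] at hh)
    by_contra hne
    obtain ⟨k, hk⟩ := exists_two_pow_of_mem hQp h1
    have hc : Commute (u ^ 2) x := by
      rw [sq]
      show u * u * x = x * (u * u)
      calc u * u * x = u * (u * x * u⁻¹) * u := by group
        _ = u * x⁻¹ * u := by rw [huinv]
        _ = (u * x * u⁻¹)⁻¹ * (u * u) := by group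
        _ = x * (u * u) := by rw [huinv, inv_inv]
    exact hx1 (h.eq_one_of_commute hp hp2 hk hne (a := 1) (by rw [hxo, pow_one]) hc)
  exact ⟨u, x, p, hp, hp2, hxo, orderOf_eq_prime hu2 hu1, huQ, huinv⟩

section Three

variable (Q : Subgroup G) [hn : Q.Normal] (hQ : IsPGroup 2 Q) {x : G} (hx : orderOf x = 3)
include hn hQ hx

theorem eq_one_of_conj_eq {g : G} (hg : g ∈ Q) (hc : x * g * x⁻¹ = g) : g = 1 := by
  by_contra hne
  obtain ⟨k, hk⟩ := exists_two_pow_of_mem hQ hg
  have := h.eq_one_of_commute Nat.prime_three (by norm_num) hk hne (a := 1) (by rw [hx, pow_one])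
    (show Commute g x from (mul_inv_eq_iff_eq_mul.1 hc).symm)
  rw [this, orderOf_one] at hx
  omega

theorem mul_conj_mul_conj {g : G} (hg : g ∈ Q) :
    g * (x * g * x⁻¹) * (x * (x * g * x⁻¹) * x⁻¹) = 1 := by
  classical
  let φ : Q → Q := fun k => ⟨(k : G)⁻¹ * (x * k * x⁻¹), Q.mul_mem (Q.inv_mem k.2) (hn.conj_mem _ k.2 x)⟩
  have hφ : Function.Injective φ := by
    intro k k' e
    have e' : (k : G)⁻¹ * (x * k * x⁻¹) = (k' : G)⁻¹ * (x * k' * x⁻¹) := congrArg Subtype.val e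
    refine Subtype.ext (mul_inv_eq_one.1 (eq_one_of_conj_eq h Q hQ hx
      (Q.mul_mem k'.2 (Q.inv_mem k.2)) ?_)).symm
    calc x * ((k' : G) * (k : G)⁻¹) * x⁻¹
        = (k' : G) * ((k' : G)⁻¹ * (x * k' * x⁻¹)) * (x * k * x⁻¹)⁻¹ := by group
      _ = (k' : G) * ((k : G)⁻¹ * (x * k * x⁻¹)) * (x * k * x⁻¹)⁻¹ := by rw [e']
      _ = _ := by group
  obtain ⟨k, hk⟩ := Finite.surjective_of_injective hφ ⟨g, hg⟩
  have hk' : (k : G)⁻¹ * (x * k * x⁻¹) = g := congrArg Subtype.val hk
  have hx3 : x ^ 3 = 1 := by rw [← hx]; exact pow_orderOf_eq_one x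
  rw [← hk']
  calc (k : G)⁻¹ * (x * k * x⁻¹) * (x * ((k : G)⁻¹ * (x * k * x⁻¹)) * x⁻¹) *
        (x * (x * ((k : G)⁻¹ * (x * k * x⁻¹)) * x⁻¹) * x⁻¹)
      = (k : G)⁻¹ * (x * x * x) * k * (x * x * x)⁻¹ := by group
    _ = 1 := by rw [← pow_three', hx3]; group

theorem conj_conj_eq {w : G} (hw : w ∈ Q) :
    x * (x * w * x⁻¹) * x⁻¹ = (w * (x * w * x⁻¹))⁻¹ :=
  eq_inv_of_mul_eq_one_right (mul_conj_mul_conj h Q hQ hx hw)

theorem commute_conj {w : G} (hw : w ∈ Q) (hw2 : w * w = 1) : Commute w (x * w * x⁻¹) := by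
  have h1 := conj_conj_eq h Q hQ hx hw
  have hv : (x * w * x⁻¹) * (x * w * x⁻¹) = 1 := by
    rw [show x * w * x⁻¹ * (x * w * x⁻¹) = x * (w * w) * x⁻¹ by group, hw2]; group
  have h2 : (w * (x * w * x⁻¹)) * (w * (x * w * x⁻¹)) = 1 := by
    have h3 : (w * (x * w * x⁻¹))⁻¹ * (w * (x * w * x⁻¹))⁻¹ = 1 := by
      rw [← h1, show x * (x * w * x⁻¹) * x⁻¹ * (x * (x * w * x⁻¹) * x⁻¹) =
        x * (x * (w * w) * x⁻¹) * x⁻¹ by group, hw2]; group
    rw [← inv_inj, inv_one, mul_inv_rev]; exact h3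
  show w * (x * w * x⁻¹) = x * w * x⁻¹ * w
  have := eq_inv_of_mul_eq_one_left h2
  rw [this, mul_inv_rev, inv_eq_of_mul_eq_one_right hv, inv_eq_of_mul_eq_one_right hw2]

/-- An elementary abelian subgroup commutes with its image under an element of order three. -/
theorem commute_conj_of_elementary {u v : G} (hu : u ∈ Q) (hv : v ∈ Q) (hu2 : u * u = 1)
    (hv2 : v * v = 1) (huv : u * v = v * u) : Commute u (x * v * x⁻¹) := by
  have hw2 : u * v * (u * v) = 1 := by
    rw [mul_assoc, ← mul_assoc v, ← huv, mul_assoc u v v, hv2, mul_one, hu2]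
  set u' := x * u * x⁻¹ with hu'
  set v' := x * v * x⁻¹ with hv'
  have cu : Commute u u' := commute_conj h Q hQ hx hu hu2
  have cv : Commute v v' := commute_conj h Q hQ hx hv hv2
  have cuv' : Commute u' v' := by
    show x * u * x⁻¹ * (x * v * x⁻¹) = x * v * x⁻¹ * (x * u * x⁻¹)
    rw [show x * u * x⁻¹ * (x * v * x⁻¹) = x * (u * v) * x⁻¹ by group, huv]; group
  have huu : u' * u' = 1 := by
    rw [hu', show x * u * x⁻¹ * (x * u * x⁻¹) = x * (u * u) * x⁻¹ by group, hu2]; group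
  have hvv : v' * v' = 1 := by
    rw [hv', show x * v * x⁻¹ * (x * v * x⁻¹) = x * (v * v) * x⁻¹ by group, hv2]; group
  have cw : Commute (u * v) (u' * v') := by
    have := commute_conj h Q hQ hx (Q.mul_mem hu hv) hw2
    rwa [show x * (u * v) * x⁻¹ = u' * v' by rw [hu', hv']; group] at this
  -- the two mixed commutators agree
  have e1 : u * v' * (v * u') = v' * u * (u' * v) := by
    calc u * v' * (v * u') = u * (v * v') * u' := by rw [cv.eq]; simp only [mul_assoc]
      _ = u * v * (v' * u') := by simp only [mul_assoc]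
      _ = u * v * (u' * v') := by rw [cuv'.eq]
      _ = u' * v' * (u * v) := cw.eq
      _ = v' * u' * (u * v) := by rw [cuv'.eq]
      _ = v' * (u' * u) * v := by simp only [mul_assoc]
      _ = v' * u * (u' * v) := by rw [← cu.eq]; simp only [mul_assoc]
  set c := u * v' * u * v' with hc
  have e2 : c = u' * v * u' * v := by
    calc c = u * v' * u * v' := rfl
      _ = u * v' * (u * v') := by simp only [mul_assoc]
      _ = (v' * u)⁻¹ * (u * v') := by
          rw [mul_inv_rev, inv_eq_of_mul_eq_one_right hu2, inv_eq_of_mul_eq_one_right hvv]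
      _ = (v' * u)⁻¹ * (v' * u * (u' * v) * (v * u')⁻¹) := by rw [← e1, mul_inv_cancel_right]
      _ = u' * v * (v * u')⁻¹ := by group
      _ = u' * v * (u' * v) := by
          rw [mul_inv_rev, inv_eq_of_mul_eq_one_right huu, inv_eq_of_mul_eq_one_right hv2]
      _ = _ := by simp only [mul_assoc]
  have hv'' : x * v' * x⁻¹ = v' * v := by
    rw [hv', conj_conj_eq h Q hQ hx hv, mul_inv_rev, ← hv', inv_eq_of_mul_eq_one_right hvv,
      inv_eq_of_mul_eq_one_right hv2]
  have hfix : x * c * x⁻¹ = c := by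
    calc x * c * x⁻¹ = u' * (x * v' * x⁻¹) * u' * (x * v' * x⁻¹) := by rw [hc, hu']; group
      _ = u' * (v * v') * u' * (v * v') := by rw [hv'', cv.eq]
      _ = u' * v * (v' * u') * v * v' := by simp only [mul_assoc]
      _ = u' * v * u' * (v' * v) * v' := by rw [← cuv'.eq]; simp only [mul_assoc]
      _ = u' * v * u' * v * (v' * v') := by rw [← cv.eq]; simp only [mul_assoc]
      _ = c := by rw [hvv, mul_one, e2]
  have hcQ : c ∈ Q := Q.mul_mem (Q.mul_mem (Q.mul_mem hu (hn.conj_mem v hv x)) hu) (hn.conj_mem v hv x)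
  have hc1 : c = 1 := eq_one_of_conj_eq h Q hQ hx hcQ hfix
  show u * v' = v' * u
  calc u * v' = u * v' * u * v' * (v' * u) := by
        simp only [mul_assoc]; rw [← mul_assoc v' v' u, hvv, one_mul, hu2, mul_one]
    _ = v' * u := by rw [← hc, hc1, one_mul]

end Three

end CfsgLib.CIT
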