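import Cfsg.Agent.CITThreePrime.Classify
import Cfsg.Agent.CIT.Fpf

/-!
A group with 2-group involution centralisers and without a bad radical 2-subgroup (one with
`J(S) ≰ R` for a Sylow 2-subgroup `S` of its normaliser) is `SL₂(2ⁿ)` or a Suzuki group.
-/

set_option autoImplicit false

namespace CfsgLib.CIT

open CfsgLib.CITThreePrime CfsgLib.StronglyEmbedded
open scoped Pointwise

universe u

variable {G : Type u} [Group G] [Finite G]

/-- A non-trivial 2-subgroup equal to `O₂` of its normaliser. -/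
def Radical (R : Subgroup G) : Prop :=
  R ≠ ⊥ ∧ Cfsg.pCoreOf 2 (Subgroup.normalizer (R : Set G)) = R

/-- No radical 2-subgroup is bad. -/
def NoBad (G : Type u) [Group G] : Prop :=
  ∀ R : Subgroup G, Radical R → ∀ S : Subgroup G,
    Maximal (fun E : Subgroup G => E ≤ Subgroup.normalizer (R : Set G) ∧ IsPGroup 2 E) S →
    Cfsg.thompsonSubgroupOf 2 S ≤ R

/-- The normaliser of the Thompson subgroup of a Sylow 2-subgroup contains the normalisers of all
its non-trivial 2-subgroups. -/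
theorem normalizer_le_normalizer_thompson (hnb : NoBad G) (T : Sylow 2 G) :
    let M := Subgroup.normalizer (Cfsg.thompsonSubgroupOf 2 (T : Subgroup G) : Set G)
    ∀ R : Subgroup G, R ≤ M → IsPGroup 2 R → R ≠ ⊥ → Subgroup.normalizer (R : Set G) ≤ M := by
  classical
  intro M
  haveI : Fact (Nat.Prime 2) := ⟨Nat.prime_two⟩
  set J := Cfsg.thompsonSubgroupOf 2 (T : Subgroup G) with hJ
  have hTM : (T : Subgroup G) ≤ M :=
    Subgroup.le_normalizer.trans (LocalP.le_normalizer_thompsonSubgroupOf _)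
  -- a Sylow 2-subgroup of `G` inside `M` over any 2-subgroup of `M`
  have hsyl : ∀ R : Subgroup G, R ≤ M → IsPGroup 2 R → ∃ T' : Subgroup G, T' ≤ M ∧ IsPGroup 2 T' ∧
      R ≤ T' ∧ Cfsg.thompsonSubgroupOf 2 T' = J ∧ Nat.card T' = Nat.card (T : Subgroup G) := by
    intro R hRM hR
    obtain ⟨P, hP⟩ := (hR.of_equiv (Subgroup.subgroupOfEquivOfLe hRM).symm).exists_le_sylow
    obtain ⟨m, rfl⟩ := MulAction.exists_smul_eq M (T.subtype hTM) P
    refine ⟨(T : Subgroup G).map (MulAut.conj (m : G)).toMonoidHom, ?_, T.2.map _, ?_, ?_,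
      Subgroup.card_map_of_injective (MulAut.conj (m : G)).injective⟩
    · rintro _ ⟨x, hx, rfl⟩
      exact M.mul_mem (M.mul_mem m.2 (hTM hx)) (M.inv_mem m.2)
    · intro x hx
      have h1 := hP (show (⟨x, hRM hx⟩ : M) ∈ R.subgroupOf M from hx)
      rw [Sylow.smul_def, Sylow.pointwise_smul_def,
        Subgroup.mem_pointwise_smul_iff_inv_smul_mem, Sylow.coe_subtype,
        Subgroup.mem_subgroupOf] at h1
      exact ⟨_, h1, by simp [MulAut.smul_def, mul_assoc]⟩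
    · rw [LocalP.thompsonSubgroupOf_map _ (MulAut.conj (m : G)).injective, ← hJ]
      exact (Subgroup.mem_normalizer_iff_map_conj_eq).1 m.2
  intro R₀ hR₀M hR₀ hR₀1
  by_contra hbad
  let Bad : Subgroup G → Prop := fun R =>
    R ≤ M ∧ IsPGroup 2 R ∧ R ≠ ⊥ ∧ ¬ Subgroup.normalizer (R : Set G) ≤ M
  obtain ⟨R, ⟨hRM, hR, hR1, hRN⟩, hmax⟩ :=
    Set.exists_max_image {R | Bad R} (fun R => Nat.card R) (Set.toFinite _)
      ⟨R₀, hR₀M, hR₀, hR₀1, hbad⟩
  -- a 2-subgroup containing a large 2-subgroup of `M` lies in `M`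
  have hstep : ∀ E F : Subgroup G, E ≤ M → E ≤ F → IsPGroup 2 F → Nat.card R < Nat.card E →
      F ≤ M := by
    intro E F hEM hEF hF hE
    by_contra hFM
    set D := F ⊓ M
    have hDlt : Nat.card R < Nat.card D := hE.trans_le (Subgroup.card_le_of_le (le_inf hEF hEM))
    have hD1 : D ≠ ⊥ := fun e => by
      rw [e, Subgroup.card_bot] at hDlt
      have : 0 < Nat.card R := Nat.card_pos
      omega
    obtain ⟨y, hyF, hyN, hyD⟩ := exists_gt_normalizer hF (inf_le_left : D ≤ F)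
      (fun e => hFM (inf_eq_left.1 e))
    refine hyD ⟨hyF, ?_⟩
    by_contra hyM
    exact (hmax D ⟨inf_le_right, hF.to_le inf_le_left, hD1, fun hle => hyM (hle hyN)⟩).not_gt hDlt
  obtain ⟨T', hT'M, hT', hRT', hJT', hT'c⟩ := hsyl R hRM hR
  have hne : R ≠ T' := fun e => hRN (by
    have := LocalP.le_normalizer_thompsonSubgroupOf (p := 2) R
    rw [e, hJT'] at this
    rwa [e])
  obtain ⟨y, hyT', hyN, hyR⟩ := exists_gt_normalizer hT' hRT' hne
  set W := T' ⊓ Subgroup.normalizer (R : Set G)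
  have hRW : Nat.card R < Nat.card W :=
    lt_card_of_not_mem (le_inf hRT' Subgroup.le_normalizer) (y := y) ⟨hyT', hyN⟩ hyR
  obtain ⟨S, hWS, hS⟩ := exists_maximal_two (H := Subgroup.normalizer (R : Set G))
    (inf_le_right : W ≤ _) (hT'.to_le inf_le_left)
  have hSM : S ≤ M := hstep W S (inf_le_left.trans hT'M) hWS hS.1.2 hRW
  have hRQ := le_pCoreOf (H := Subgroup.normalizer (R : Set G)) Subgroup.le_normalizer le_rfl hR
  set Q := Cfsg.pCoreOf 2 (Subgroup.normalizer (R : Set G)) with hQdef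
  have hQS : Q ≤ S := pCoreOf_le_of_maximal hS
  have hQ1 : Q ≠ ⊥ := fun e => hR1 (eq_bot_iff.2 (hRQ.trans e.le))
  have hQR : Q = R := (Subgroup.eq_of_le_of_card_ge hRQ (hmax Q ⟨hQS.trans hSM, isPGroup_pCoreOf,
    hQ1, fun hle => hRN (le_normalizer_pCoreOf.trans hle)⟩)).symm
  have hJS : Cfsg.thompsonSubgroupOf 2 S ≤ R := hnb R ⟨hR1, hQR⟩ S hS
  have hRS : R ≤ S := hQR ▸ hQS
  have hJR := LocalP.thompsonSubgroupOf_eq_of_le (p := 2) hRS hJS
  set J₁ := Cfsg.thompsonSubgroupOf 2 R with hJ₁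
  have hJ₁1 : J₁ ≠ ⊥ := by
    rw [hJ₁, Cfsg.thompsonSubgroupOf, Ne, Subgroup.map_eq_bot_iff_of_injective _ Subtype.val_injective]
    refine LocalP.thompsonSubgroup_ne_bot ?_
    obtain ⟨n, hn⟩ := IsPGroup.iff_card.1 hR
    rw [hn]
    exact dvd_pow_self 2 fun e => hR1 (Subgroup.eq_bot_of_card_eq R (by rw [hn, e, pow_zero]))
  have hJ₁R : J₁ ≤ R := LocalP.thompsonSubgroupOf_le R
  set K := Subgroup.normalizer (J₁ : Set G)
  have hNK : Subgroup.normalizer (R : Set G) ≤ K := LocalP.le_normalizer_thompsonSubgroupOf R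
  set R' := Cfsg.pCoreOf 2 K with hR'def
  set K₂ := Subgroup.normalizer (R' : Set G) with hK₂
  have hKK₂ : K ≤ K₂ := le_normalizer_pCoreOf
  obtain ⟨S', hSS', hS'⟩ := exists_maximal_two ((hS.1.1.trans hNK).trans hKK₂) hS.1.2
  have hS'M : S' ≤ M :=
    hstep W S' (inf_le_left.trans hT'M) (hWS.trans hSS') hS'.1.2 hRW
  set R'' := Cfsg.pCoreOf 2 K₂ with hR''def
  have hR''R : R'' ≤ R := by
    set Y := R ⊔ R'' with hY
    have hYS' : Y ≤ S' := sup_le (hRS.trans hSS') (pCoreOf_le_of_maximal hS')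
    have hY2 : IsPGroup 2 Y := hS'.1.2.to_le hYS'
    by_contra hle
    obtain ⟨z, hzY, hzN, hzR⟩ := exists_gt_normalizer hY2 (le_sup_left : R ≤ Y)
      (fun e => hle (le_sup_right.trans e.ge))
    refine hzR ?_
    have hnorm : Subgroup.normalizer (R : Set G) ≤ Subgroup.normalizer (Y : Set G) := fun g hg => by
      rw [Subgroup.mem_normalizer_iff_map_conj_eq, hY, Subgroup.map_sup,
        (Subgroup.mem_normalizer_iff_map_conj_eq).1 hg,
        (Subgroup.mem_normalizer_iff_map_conj_eq).1 (le_normalizer_pCoreOf (hKK₂ (hNK hg)))]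
    rw [← hQR, hQdef]
    exact le_pCoreOf (N := Y ⊓ Subgroup.normalizer (R : Set G)) inf_le_right
      (fun g hg => Subgroup.mem_normalizer_fintype
        (S := ((Y ⊓ Subgroup.normalizer (R : Set G) : Subgroup G) : Set G)) fun x hx =>
        ⟨(Subgroup.mem_normalizer_iff.1 (hnorm hg) x).1 hx.1,
          Subgroup.mul_mem _ (Subgroup.mul_mem _ hg hx.2) (Subgroup.inv_mem _ hg)⟩)
      (hY2.to_le inf_le_left) ⟨hzY, hzN⟩
  have hJ₁R' : J₁ ≤ R' :=
    le_pCoreOf Subgroup.le_normalizer le_rfl (hR.to_le hJ₁R)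
  have hR''R' : R'' = R' := le_antisymm
    (le_pCoreOf (hR''R.trans (Subgroup.le_normalizer.trans hNK))
      (hKK₂.trans le_normalizer_pCoreOf) isPGroup_pCoreOf)
    (le_pCoreOf Subgroup.le_normalizer le_rfl isPGroup_pCoreOf)
  have hR'1 : R' ≠ ⊥ := fun e => hJ₁1 (eq_bot_iff.2 (hJ₁R'.trans e.le))
  have hJS' : Cfsg.thompsonSubgroupOf 2 S' ≤ R' := hnb R' ⟨hR'1, hR''R'⟩ S' hS'
  have hR'R : R' ≤ R := hR''R' ▸ hR''R
  have hJ' : Cfsg.thompsonSubgroupOf 2 S' = J₁ := by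
    rw [hJR]
    exact (LocalP.thompsonSubgroupOf_eq_of_le hSS' (hJS'.trans (hR'R.trans hRS))).symm
  obtain ⟨T'', hT''M, hT'', hS'T'', hJT'', -⟩ := hsyl S' hS'M hS'.1.2
  by_cases hfull : S' = T''
  · refine hRN (hNK.trans (le_of_eq ?_))
    show Subgroup.normalizer (J₁ : Set G) = Subgroup.normalizer (J : Set G)
    rw [← hJ', hfull, hJT'']
  · obtain ⟨z, hzT, hzN, hzS⟩ := exists_gt_normalizer hT'' hS'T'' hfull
    have hzK : z ∈ K := by
      have := LocalP.le_normalizer_thompsonSubgroupOf (p := 2) S' hzN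
      rwa [hJ'] at this
    refine hzS (hS'.2 (y := S' ⊔ Subgroup.zpowers z)
      ⟨sup_le hS'.1.1 (Subgroup.zpowers_le.2 (hKK₂ hzK)),
        hT''.to_le (sup_le hS'T'' (Subgroup.zpowers_le.2 hzT))⟩ le_sup_left
      (Subgroup.mem_sup_right (Subgroup.mem_zpowers z)))

/-- In a strongly embedded subgroup with non-trivial `O₂`, a Sylow 2-subgroup is normal. -/
theorem sylow_le_pCore (h : InvCentTwo G) {M : Subgroup G} (hM : Cfsg.IsStronglyEmbedded M)
    (hQ : Cfsg.pCore 2 M ≠ ⊥) {S : Subgroup M} (hS : IsPGroup 2 S) :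
    S ≤ Cfsg.pCore 2 M := by
  classical
  haveI : Fact (Nat.Prime 2) := ⟨Nat.prime_two⟩
  set Q := Cfsg.pCore 2 M with hQdef
  have hQp : IsPGroup 2 Q := Constrained.isPGroup_pCore
  obtain ⟨z, hz, hz1⟩ := (Q.bot_or_exists_ne_one).resolve_left hQ
  obtain ⟨k, hk⟩ := exists_two_pow_of_mem hQp hz
  obtain ⟨j, hj⟩ := exists_pow_involution hk hz1
  by_contra hSQ
  obtain ⟨s, hs, hsQ⟩ := SetLike.not_le_iff_exists.1 hSQ
  obtain ⟨k, hk⟩ := exists_two_pow_of_mem hS hs
  have hex : ∃ i, s ^ 2 ^ i ∈ Q := ⟨k, by rw [← hk, pow_orderOf_eq_one]; exact one_mem _⟩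
  have hi0 : Nat.find hex ≠ 0 := fun e => hsQ (by simpa [e] using Nat.find_spec hex)
  obtain ⟨i, hi⟩ := Nat.exists_eq_succ_of_ne_zero hi0
  have haQ : s ^ 2 ^ i ∉ Q := Nat.find_min hex (by omega)
  have ha2 : (s ^ 2 ^ i) ^ 2 ∈ Q := by
    rw [← pow_mul, ← pow_succ, ← Nat.succ_eq_add_one, ← hi]
    exact Nat.find_spec hex
  obtain ⟨u, x, p, -, -, -, huo, hau, -⟩ :=
    exists_involution_inverting (h.of_injective M.subtype Subtype.val_injective) haQ ha2
  obtain ⟨g, hg, hgu⟩ := exists_mem_conj hM ((Subgroup.orderOf_coe (z ^ j)).trans hj) (z ^ j).2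
    ((Subgroup.orderOf_coe u).trans huo) u.2
  have huQ : u ∈ Q := by
    have h1 := (inferInstance : Q.Normal).conj_mem _ (pow_mem hz j) ⟨g, hg⟩
    rwa [show (⟨g, hg⟩ : M) * z ^ j * (⟨g, hg⟩ : M)⁻¹ = u from Subtype.ext hgu] at h1
  exact haQ (by
    have := mul_mem huQ (inv_mem hau)
    rwa [mul_inv_rev, inv_inv, mul_inv_cancel_left] at this)

/-- Without bad radical 2-subgroups the group is `SL₂(2ⁿ)` or a Suzuki group. -/
theorem classify_noBad (h : InvCentTwo G) (hnb : NoBad G)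
    (hFT : ∀ H : Subgroup G, Odd (Nat.card H) → Group.IsSolvable H)
    (hO : Cfsg.pCore 2 G = ⊥) (hns : ¬ Group.IsSolvable G) :
    (∃ (K : Type) (_ : Field K) (_ : Fintype K), (∃ n : ℕ, 2 ≤ n ∧ Fintype.card K = 2 ^ n) ∧
      Nonempty (G ≃* Matrix.SpecialLinearGroup (Fin 2) K)) ∨ Cfsg.Lie.IsoSuzuki G := by
  classical
  haveI : Fact (Nat.Prime 2) := ⟨Nat.prime_two⟩
  have hrad : ∀ N : Subgroup G, N.Normal → Group.IsSolvable N → N = ⊥ := fun N hN hNs => by
    by_contra hN1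
    obtain ⟨E, hEn, hE1, hEo, hEc⟩ := exists_abelian_odd_normal hO hN hNs hN1
    exact hns (h.isSolvable_of_normal hFT hEc hEo hE1 hEn)
  obtain ⟨T⟩ : Nonempty (Sylow 2 G) := inferInstance
  have heven : 2 ∣ Nat.card G := by
    rw [← even_iff_two_dvd, ← Nat.not_odd_iff_even]
    intro hodd
    haveI : Group.IsSolvable (⊤ : Subgroup G) := hFT ⊤ (by rwa [Subgroup.card_top])
    exact hns (Group.isSolvable_of_surjective (f := (⊤ : Subgroup G).subtype)
      fun g => ⟨⟨g, Subgroup.mem_top g⟩, rfl⟩)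
  have hT2 : 2 ∣ Nat.card (T : Subgroup G) := T.dvd_card_of_dvd_card heven
  set J := Cfsg.thompsonSubgroupOf 2 (T : Subgroup G) with hJ
  set M := Subgroup.normalizer (J : Set G) with hMdef
  have hJT : J ≤ (T : Subgroup G) := LocalP.thompsonSubgroupOf_le _
  have hJ1 : J ≠ ⊥ := by
    rw [hJ, Cfsg.thompsonSubgroupOf, Ne, Subgroup.map_eq_bot_iff_of_injective _ Subtype.val_injective]
    exact LocalP.thompsonSubgroup_ne_bot hT2
  have hTM : (T : Subgroup G) ≤ M :=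
    Subgroup.le_normalizer.trans (LocalP.le_normalizer_thompsonSubgroupOf _)
  have hMt : M ≠ ⊤ := fun e => hJ1 (by
    haveI : J.Normal := Subgroup.normalizer_eq_top_iff.1 e
    exact eq_bot_iff.2 ((BaerSuzuki.normal_pgroup_le_pCore inferInstance (T.2.to_le hJT)).trans hO.le))
  have hT1 : (T : Subgroup G) ≠ ⊥ := fun e => hJ1 (eq_bot_iff.2 (hJT.trans e.le))
  have hM : Cfsg.IsStronglyEmbedded M := intro_of_sylow hMt T hTM hT1 fun Q hQT hQ1 =>
    normalizer_le_normalizer_thompson hnb T Q (hQT.trans hTM) (T.2.to_le hQT) hQ1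
  have hJQ : J ≤ Cfsg.pCoreOf 2 M :=
    le_pCoreOf (hJT.trans hTM) le_rfl (T.2.to_le hJT)
  have hTQ : (T : Subgroup G) ≤ Cfsg.pCoreOf 2 M := by
    have h1 := sylow_le_pCore h hM (fun e => hJ1 (eq_bot_iff.2 (hJQ.trans (by
      rw [Cfsg.pCoreOf, e, Subgroup.map_bot]))))
      (T.2.of_equiv (Subgroup.subgroupOfEquivOfLe hTM).symm)
    intro x hx
    exact ⟨⟨x, hTM hx⟩, h1 hx, rfl⟩
  have hTeq : (T : Subgroup G) = Cfsg.pCoreOf 2 M :=
    (T.3 isPGroup_pCoreOf hTQ).symm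
  have hMN : M ≤ Subgroup.normalizer ((T : Subgroup G) : Set G) :=
    hTeq ▸ le_normalizer_pCoreOf
  have hsys : FrobSystem.Sys M (T : Subgroup G) := by
    refine ⟨hTM, hMN, ?_, ?_, hT1, hMt, hFT, hrad⟩
    · intro a ha haT x hx hxa
      by_contra hx1
      obtain ⟨k, hk⟩ := exists_two_pow_of_mem T.2 hx
      obtain ⟨j, hj⟩ := h.orderOf_of_commute hk hx1 hxa
      have hza : IsPGroup 2 (Subgroup.zpowers a) := IsPGroup.of_card (n := j) (by
        rw [Nat.card_zpowers, hj])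
      have := T.3 (hza.to_sup_of_normal_right' T.2 (Subgroup.zpowers_le.2 (hMN ha))) le_sup_right
      exact haT (this.le (Subgroup.mem_sup_left (Subgroup.mem_zpowers a)))
    · intro g hg
      rw [Subgroup.eq_bot_iff_forall]
      rintro x ⟨hxT, hxg⟩
      by_contra hx1
      obtain ⟨k, hk⟩ := exists_two_pow_of_mem T.2 hxT
      obtain ⟨j, hj⟩ := exists_pow_involution hk hx1
      change x ∈ MulAut.conj g • (T : Subgroup G) at hxg
      change x ∈ (T : Subgroup G) at hxT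
      rw [Subgroup.mem_pointwise_smul_iff_inv_smul_mem, ← map_inv, MulAut.smul_def,
        MulAut.conj_apply, inv_inv] at hxg
      have hz : g⁻¹ * x ^ j * g⁻¹⁻¹ ∈ M := by
        rw [inv_inv, show g⁻¹ * x ^ j * g = (g⁻¹ * x * g) ^ j from
          (by simpa using (conj_pow (i := j) (a := g⁻¹) (b := x)).symm)]
        exact hTM (pow_mem hxg j)
      exact hg (inv_mem_iff.1 (mem_of_conj_mem hM hj (hTM (pow_mem hxT j)) hz))
  exact hsys.classify hTM

end CfsgLib.CIT
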