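import Cfsg.Agent.CITThreePrime.Classify

/-!
Extensions of a simple group inside a group with 2-group involution centralisers.
-/

set_option autoImplicit false

namespace CfsgLib.CIT

open CfsgLib.CITThreePrime

universe u

/-- There are involutions and they form one class. -/
def OneClass (N : Type*) [Group N] : Prop :=
  (∃ t : N, orderOf t = 2) ∧ ∀ s t : N, orderOf s = 2 → orderOf t = 2 → IsConj s t

/-- A subgroup of prime order `≡ 3 (mod 4)`, inverted by an involution, whose class is invariant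
under all automorphisms. -/
def Rigid (N : Type*) [Group N] : Prop :=
  ∃ (p : ℕ) (x v : N), p.Prime ∧ p % 4 = 3 ∧ orderOf x = p ∧ orderOf v = 2 ∧ v * x * v⁻¹ = x⁻¹ ∧
    ∀ σ : N ≃* N, ∃ n : N, n * σ x * n⁻¹ ∈ Subgroup.zpowers x

/-- The Sylow 3-subgroups as in `PSL₂(9)`. -/
def NineData (N : Type*) [Group N] : Prop :=
  Nat.card N = 360 ∧ ∃ P : Sylow 3 N, Nat.card (P : Subgroup N) = 9 ∧
    4 ∣ Nat.card (Subgroup.normalizer ((P : Subgroup N) : Set N))

theorem OneClass.of_equiv {N M : Type*} [Group N] [Group M] (e : N ≃* M) (hN : OneClass N) :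
    OneClass M := by
  obtain ⟨⟨t, ht⟩, hc⟩ := hN
  refine ⟨⟨e t, by rw [MulEquiv.orderOf_eq, ht]⟩, fun a b ha hb => ?_⟩
  obtain ⟨c, hc'⟩ := isConj_iff.1 (hc (e.symm a) (e.symm b) (by rw [MulEquiv.orderOf_eq, ha])
    (by rw [MulEquiv.orderOf_eq, hb]))
  exact isConj_iff.2 ⟨e c, by simpa using congrArg e hc'⟩

theorem Rigid.of_equiv {N M : Type*} [Group N] [Group M] (e : N ≃* M) (hN : Rigid N) : Rigid M := by
  obtain ⟨p, x, v, hp, hp4, hx, hv, hinv, hσ⟩ := hN
  refine ⟨p, e x, e v, hp, hp4, by rw [MulEquiv.orderOf_eq, hx], by rw [MulEquiv.orderOf_eq, hv], ?_,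
    fun σ => ?_⟩
  · rw [← map_mul, ← map_inv, ← map_mul, hinv, map_inv]
  · obtain ⟨n, j, hj⟩ := hσ ((e.trans σ).trans e.symm)
    refine ⟨e n, j, ?_⟩
    have := congrArg e hj
    simpa using this

/-- All subgroups of order `p` are conjugate when a Sylow `p`-subgroup is cyclic. -/
theorem exists_conj_zpowers {N : Type*} [Group N] [Finite N] {p : ℕ} [Fact p.Prime]
    (hcyc : ∀ P : Sylow p N, IsCyclic (P : Subgroup N)) {x y : N} (hx : orderOf x = p)
    (hy : orderOf y = p) : ∃ n : N, n * y * n⁻¹ ∈ Subgroup.zpowers x := by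
  classical
  obtain ⟨P, hP⟩ := (IsPGroup.of_card (n := 1) (by rw [Nat.card_zpowers, hx, pow_one]) :
    IsPGroup p (Subgroup.zpowers x)).exists_le_sylow
  obtain ⟨Q, hQ⟩ := (IsPGroup.of_card (n := 1) (by rw [Nat.card_zpowers, hy, pow_one]) :
    IsPGroup p (Subgroup.zpowers y)).exists_le_sylow
  obtain ⟨n, hn⟩ := MulAction.exists_smul_eq N Q P
  refine ⟨n, ?_⟩
  haveI := hcyc P
  have hmem : n * y * n⁻¹ ∈ (P : Subgroup N) := by
    rw [← hn]
    exact Subgroup.mem_map_of_mem _ (hQ (Subgroup.mem_zpowers y))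
  have hy' : orderOf (n * y * n⁻¹) = p := by
    rw [show n * y * n⁻¹ = MulAut.conj n y from rfl, MulEquiv.orderOf_eq, hy]
  haveI : Fintype (P : Subgroup N) := Fintype.ofFinite _
  let x' : (P : Subgroup N) := ⟨x, hP (Subgroup.mem_zpowers x)⟩
  let y' : (P : Subgroup N) := ⟨n * y * n⁻¹, hmem⟩
  -- in a cyclic group the solutions of `a ^ p = 1` are the powers of `x`
  have hle := IsCyclic.card_pow_eq_one_le (α := (P : Subgroup N)) (Fact.out : p.Prime).pos
  have hsub : (Finset.univ.filter fun a : (P : Subgroup N) => a ∈ Subgroup.zpowers x') ⊆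
      Finset.univ.filter fun a : (P : Subgroup N) => a ^ p = 1 := by
    intro a ha
    simp only [Finset.mem_filter, Finset.mem_univ, true_and] at ha ⊢
    obtain ⟨i, rfl⟩ := ha
    have hx' : x' ^ p = 1 := Subtype.ext (by simpa [x', ← hx] using pow_orderOf_eq_one x)
    rw [← zpow_natCast, ← zpow_mul, mul_comm, zpow_mul, zpow_natCast, hx', one_zpow]
  have heq := Finset.eq_of_subset_of_card_le hsub (hle.trans ?_)
  · have hy1 : y' ∈ Finset.univ.filter fun a : (P : Subgroup N) => a ^ p = 1 := by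
      simp only [Finset.mem_filter, Finset.mem_univ, true_and]
      exact Subtype.ext (by simpa [y', ← hy'] using pow_orderOf_eq_one (n * y * n⁻¹))
    rw [← heq] at hy1
    simp only [Finset.mem_filter, Finset.mem_univ, true_and] at hy1
    obtain ⟨i, hi⟩ := hy1
    exact ⟨i, congrArg Subtype.val hi⟩
  · rw [← Fintype.card_subtype, ← Nat.card_eq_fintype_card]
    show p ≤ Nat.card (Subgroup.zpowers x')
    rw [Nat.card_zpowers, ← Subgroup.orderOf_coe]
    exact hx.ge

variable {K : Type u} [Group K] [Finite K] (h : InvCentTwo K)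
include h

/-- With one class of involutions in the normal subgroup the index is a power of two. -/
theorem exists_index_two_pow {N : Subgroup K} [hN : N.Normal] (hone : OneClass N) :
    ∃ k, N.index = 2 ^ k := by
  haveI : Fact (Nat.Prime 2) := ⟨Nat.prime_two⟩
  obtain ⟨⟨t, ht⟩, hc⟩ := hone
  have ht' : orderOf (t : K) = 2 := by rw [Subgroup.orderOf_coe, ht]
  set C := Subgroup.centralizer ({(t : K)} : Set K)
  have htop : C ⊔ N = ⊤ := by
    refine top_le_iff.1 fun g _ => ?_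
    have ho : orderOf (⟨g * t * g⁻¹, hN.conj_mem _ t.2 g⟩ : N) = 2 := by
      rw [Subgroup.orderOf_mk, show g * (t : K) * g⁻¹ = MulAut.conj g (t : K) from rfl,
        MulEquiv.orderOf_eq, ht']
    obtain ⟨n, hn⟩ := isConj_iff.1 (hc _ t ho ht)
    have hn' : (n : K) * (g * t * g⁻¹) * (n : K)⁻¹ = t := congrArg Subtype.val hn
    have hng : (n : K) * g ∈ C := by
      rw [Subgroup.mem_centralizer_singleton_iff, ← mul_inv_eq_iff_eq_mul, mul_inv_rev]
      refine (?_ : _ = (n : K) * (g * t * g⁻¹) * (n : K)⁻¹).trans hn'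
      group
    rw [show g = (n : K)⁻¹ * ((n : K) * g) by group]
    exact mul_mem (Subgroup.mem_sup_right (inv_mem n.2)) (Subgroup.mem_sup_left hng)
  have hd : N.index ∣ Nat.card C := by
    rw [← Subgroup.relIndex_top_right, ← htop, Subgroup.relIndex_sup_right]
    exact Subgroup.relIndex_dvd_card _ _
  obtain ⟨a, ha⟩ := IsPGroup.iff_card.1 (h _ ht')
  obtain ⟨k, -, hk⟩ := (Nat.dvd_prime_pow Nat.prime_two).1 (ha ▸ hd)
  exact ⟨k, hk⟩

/-- A normal subgroup with these properties is everything. -/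
theorem eq_top_of_rigid {N : Subgroup K} [hN : N.Normal] (hone : OneClass N) (hrig : Rigid N) :
    N = ⊤ := by
  classical
  haveI : Fact (Nat.Prime 2) := ⟨Nat.prime_two⟩
  obtain ⟨k, hk⟩ := exists_index_two_pow h hone
  rcases k with _ | k
  · exact Subgroup.index_eq_one.1 hk
  exfalso
  obtain ⟨q, hq⟩ := exists_prime_orderOf_dvd_card' (G := K ⧸ N) 2
    (show 2 ∣ N.index from hk ▸ dvd_pow_self 2 k.succ_ne_zero)
  obtain ⟨g₀, rfl⟩ := QuotientGroup.mk_surjective q
  have hg₀ : g₀ ∉ N := fun e => by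
    rw [(QuotientGroup.eq_one_iff g₀).2 e, orderOf_one] at hq; omega
  obtain ⟨p, x, v, hp, hp4, hx, hv, hinv, hσ⟩ := hrig
  obtain ⟨n, hn⟩ := hσ (MulAut.conjNormal g₀)
  set g := (n : K) * g₀ with hg
  have hgN : g ∉ N := fun e => hg₀ (by simpa [hg] using mul_mem (inv_mem n.2) e)
  have hgq : ((g : K) : K ⧸ N) = (g₀ : K ⧸ N) := by
    rw [hg, QuotientGroup.mk_mul, (QuotientGroup.eq_one_iff (n : K)).2 n.2, one_mul]
  have hgx : g * (x : K) * g⁻¹ ∈ Subgroup.zpowers (x : K) := by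
    obtain ⟨j, hj⟩ := hn
    refine ⟨j, ?_⟩
    have := congrArg Subtype.val hj
    simp only [Subgroup.coe_mul, Subgroup.coe_zpow, Subgroup.coe_inv, MulAut.conjNormal_apply] at this
    show (x : K) ^ j = _
    rw [this, hg]; group
  -- the 2-part of `g`
  obtain ⟨e, m, hm, hgo⟩ := Nat.exists_eq_two_pow_mul_odd (orderOf_pos g).ne'
  set a := g ^ m with ha
  have ha1 : a ^ 2 ^ e = 1 := by rw [ha, ← pow_mul, mul_comm, ← hgo, pow_orderOf_eq_one]
  have haq : ((a : K) : K ⧸ N) = (g₀ : K ⧸ N) := by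
    obtain ⟨r, rfl⟩ := hm
    rw [ha, QuotientGroup.mk_pow, hgq, pow_succ, pow_mul, ← hq, pow_orderOf_eq_one, one_pow, one_mul]
  haveI : Fact p.Prime := ⟨hp⟩
  have hxK : orderOf (x : K) = p := by rw [Subgroup.orderOf_coe, hx]
  have hpow : ∀ i : ℕ, ∃ j : ℕ, g ^ i * (x : K) * (g ^ i)⁻¹ = (x : K) ^ j := by
    obtain ⟨j, hj⟩ := mem_powers_iff_mem_zpowers.2 hgx
    replace hj : (x : K) ^ j = g * (x : K) * g⁻¹ := hj
    intro i
    induction i with
    | zero => exact ⟨1, by simp⟩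
    | succ i ih =>
      obtain ⟨j', hj'⟩ := ih
      refine ⟨j * j', ?_⟩
      rw [pow_mul, hj, conj_pow, ← hj', pow_succ']
      group
  obtain ⟨j, hj⟩ := hpow m
  rw [← ha] at hj
  have hiter : ∀ i : ℕ, a ^ i * (x : K) * (a ^ i)⁻¹ = (x : K) ^ j ^ i := by
    intro i
    induction i with
    | zero => simp
    | succ i ih =>
      calc a ^ (i + 1) * (x : K) * (a ^ (i + 1))⁻¹ = a * (a ^ i * (x : K) * (a ^ i)⁻¹) * a⁻¹ := by
            rw [pow_succ']; group
        _ = (a * (x : K) * a⁻¹) ^ j ^ i := by rw [ih, conj_pow]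
        _ = (x : K) ^ j ^ (i + 1) := by rw [hj, ← pow_mul, pow_succ']
  have hj2 : ((j : ZMod p)) ^ 2 = 1 := by
    have h1 : ((j : ZMod p)) ^ 2 ^ e = 1 := by
      have := hiter (2 ^ e)
      rw [ha1, one_mul, inv_one, mul_one] at this
      have h2 := (pow_eq_pow_iff_modEq (x := (x : K)) (n := 1) (m := j ^ 2 ^ e)).1 (by rw [pow_one, ← this])
      rw [hxK] at h2
      have h3 := (ZMod.natCast_eq_natCast_iff _ _ p).2 h2
      push_cast at h3
      exact h3.symm
    have hj0 : (j : ZMod p) ≠ 0 := fun e0 => by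
      rw [e0, zero_pow (by positivity)] at h1; exact zero_ne_one h1
    have h2 := (pow_gcd_eq_one (a := (j : ZMod p)) (m := 2 ^ e) (n := p - 1)).2
      ⟨h1, ZMod.pow_card_sub_one_eq_one hj0⟩
    have hgd : Nat.gcd (2 ^ e) (p - 1) ∣ 2 := by
      obtain ⟨s, hs⟩ : ∃ s, p - 1 = 2 * (2 * s + 1) := ⟨p / 4, by omega⟩
      rw [hs]
      rcases e with _ | e
      · simp
      rw [pow_succ', Nat.gcd_mul_left]
      refine Nat.mul_dvd_mul_left 2 ?_ |>.trans (by norm_num : 2 * 1 ∣ 2)
      exact dvd_of_eq (Nat.Coprime.pow_left e (Nat.coprime_two_left.2 ⟨s, rfl⟩))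
    obtain ⟨c, hc⟩ := hgd
    nth_rw 1 [hc]
    rw [pow_mul, h2, one_pow]
  -- `a` inverts `x`
  have hinvA : a * (x : K) * a⁻¹ = (x : K)⁻¹ := by
    rcases sq_eq_one_iff.1 hj2 with e1 | e1
    · exfalso
      have hax : a * (x : K) * a⁻¹ = x := by
        conv_rhs => rw [← pow_one (x : K)]
        rw [hj, pow_eq_pow_iff_modEq, hxK, ← ZMod.natCast_eq_natCast_iff, e1, Nat.cast_one]
      have hac : Commute a (x : K) := mul_inv_eq_iff_eq_mul.1 hax
      obtain ⟨i, -, hi⟩ := (Nat.dvd_prime_pow Nat.prime_two).1 (orderOf_dvd_of_pow_eq_one ha1)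
      have haq1 : a ≠ 1 := fun e => by
        rw [e, QuotientGroup.mk_one] at haq
        rw [← haq, orderOf_one] at hq; omega
      obtain ⟨i', hi'⟩ := h.orderOf_of_commute hi haq1 hac
      rw [hxK] at hi'
      have := (Nat.prime_dvd_prime_iff_eq hp Nat.prime_two).1
        (hp.dvd_of_dvd_pow (show p ∣ 2 ^ i' from dvd_of_eq hi'))
      omega
    · rw [hj, eq_inv_iff_mul_eq_one, ← pow_succ, ← orderOf_dvd_iff_pow_eq_one, hxK,
        ← ZMod.natCast_eq_zero_iff]
      push_cast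
      rw [e1]; ring
  have hvK : (v : K) * (x : K) * (v : K)⁻¹ = (x : K)⁻¹ := congrArg Subtype.val hinv
  set c := a * (v : K) with hc
  have hcx : Commute c (x : K) := by
    show c * (x : K) = (x : K) * c
    rw [← mul_inv_eq_iff_eq_mul, hc, mul_inv_rev]
    calc a * (v : K) * (x : K) * ((v : K)⁻¹ * a⁻¹) = a * ((v : K) * (x : K) * (v : K)⁻¹) * a⁻¹ := by group
      _ = (a * (x : K) * a⁻¹)⁻¹ := by rw [hvK]; group
      _ = x := by rw [hinvA, inv_inv]
  have hcq : ((c : K) : K ⧸ N) = (g₀ : K ⧸ N) := by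
    rw [hc, QuotientGroup.mk_mul, haq, (QuotientGroup.eq_one_iff (v : K)).2 v.2, mul_one]
  obtain ⟨r, hr⟩ : 2 ∣ orderOf c := hq ▸ hcq ▸ orderOf_map_dvd (QuotientGroup.mk' N) c
  have hpos := orderOf_pos c
  have hio : orderOf (c ^ r) = 2 := by
    rw [orderOf_pow_of_dvd (by omega) ⟨2, by omega⟩, hr, Nat.mul_div_cancel _ (by omega)]
  have := h.eq_one_of_odd hio (hcx.pow_left r) (by rw [hxK]; exact hp.odd_of_ne_two (by omega))
  rw [this, orderOf_one] at hxK
  exact hp.ne_one hxK.symm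

/-- No elementary abelian subgroup of order eight when an abelian subgroup of odd order has index
of normaliser not divisible by four. -/
theorem card_exp_two_le_four {P : Subgroup K} (hP : ∀ a ∈ P, ∀ b ∈ P, a * b = b * a)
    (hodd : Odd (Nat.card P)) (hP1 : P ≠ ⊥)
    (hidx : ¬ 4 ∣ (Subgroup.normalizer (P : Set K)).index) {A : Subgroup K}
    (hA : ∀ a ∈ A, a * a = 1) : Nat.card A ≤ 4 := by
  classical
  haveI : Fact (Nat.Prime 2) := ⟨Nat.prime_two⟩
  by_contra hA4
  set N := Subgroup.normalizer (P : Set K)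
  have hAp : IsPGroup 2 A := fun a => ⟨1, Subtype.ext (by rw [pow_one, sq]; exact hA a a.2)⟩
  obtain ⟨n, hn⟩ := IsPGroup.iff_card.1 hAp
  have hn3 : 3 ≤ n := by
    by_contra hlt
    have := Nat.pow_le_pow_right two_pos (show n ≤ 2 by omega)
    rw [← hn] at this
    omega
  -- stabilisers have order at most two
  have hst : ∀ q : K ⧸ N, Nat.card (MulAction.stabilizer A q) ≤ 2 := by
    intro q
    obtain ⟨k, rfl⟩ := QuotientGroup.mk_surjective q
    have hmem : ∀ s ∈ MulAction.stabilizer A ((k : K) : K ⧸ N), k⁻¹ * (s : K) * k ∈ N := by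
      intro s hs
      have h1 : (((s : K) * k : K) : K ⧸ N) = (k : K ⧸ N) := hs
      have := QuotientGroup.eq.1 h1
      simpa [mul_assoc] using inv_mem this
    by_contra hlt
    obtain ⟨i, -, hi⟩ : ∃ i ≤ n, Nat.card (MulAction.stabilizer A ((k : K) : K ⧸ N)) = 2 ^ i :=
      (Nat.dvd_prime_pow Nat.prime_two).1 (hn ▸ Subgroup.card_subgroup_dvd_card _)
    obtain ⟨s, hs1⟩ : ∃ s : MulAction.stabilizer A ((k : K) : K ⧸ N), s ≠ 1 :=
      haveI : Nontrivial (MulAction.stabilizer A ((k : K) : K ⧸ N)) :=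
        Finite.one_lt_card_iff_nontrivial.1 (by omega)
      exists_ne 1
    obtain ⟨s', hs'1, hs'⟩ : ∃ s' : MulAction.stabilizer A ((k : K) : K ⧸ N), s' ≠ 1 ∧ s' ≠ s := by
      by_contra hcon
      push Not at hcon
      haveI : Fintype (MulAction.stabilizer A ((k : K) : K ⧸ N)) := Fintype.ofFinite _
      refine hlt ?_
      rw [Nat.card_eq_fintype_card, ← Finset.card_univ]
      exact (Finset.card_le_card (t := {1, s}) fun y _ => by
        simp only [Finset.mem_insert, Finset.mem_singleton]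
        exact or_iff_not_imp_left.2 (hcon y)).trans Finset.card_le_two
    have hord : ∀ y : K, y ∈ A → y ≠ 1 → orderOf (k⁻¹ * y * k) = 2 := fun y hy hy1 => by
      rw [show k⁻¹ * y * k = MulAut.conj k⁻¹ y by simp, MulEquiv.orderOf_eq]
      exact orderOf_eq_prime (by rw [sq, hA y hy]) hy1
    have hne : ∀ y : MulAction.stabilizer A ((k : K) : K ⧸ N), y ≠ 1 → ((y : A) : K) ≠ 1 :=
      fun y hy e => hy (Subtype.ext (Subtype.ext e))
    obtain ⟨e, he, he1⟩ := P.bot_or_exists_ne_one.resolve_left hP1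
    have h1 := h.inverts hP hodd (hord _ (s : A).2 (hne s hs1))
      (fun z hz => (Subgroup.mem_normalizer_iff.1 (hmem _ s.2) z).1 hz) he
    have h2 := h.inverts hP hodd (hord _ (s' : A).2 (hne s' hs'1))
      (fun z hz => (Subgroup.mem_normalizer_iff.1 (hmem _ s'.2) z).1 hz) (inv_mem he)
    rw [inv_inv] at h2
    have hprod : ((s' : A) : K) * ((s : A) : K) ∈ A := mul_mem (s' : A).2 (s : A).2
    have hprod1 : ((s' : A) : K) * ((s : A) : K) ≠ 1 := fun e' => hs' (Subtype.ext (Subtype.ext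
      ((eq_inv_of_mul_eq_one_left e').trans (inv_eq_of_mul_eq_one_right (hA _ (s : A).2)))))
    refine he1 (h.eq_one_of_odd (hord _ hprod hprod1) ?_ (hodd.of_dvd_nat (Subgroup.orderOf_dvd_natCard P he)))
    show _ = _
    rw [← mul_inv_eq_iff_eq_mul]
    calc k⁻¹ * (((s' : A) : K) * ((s : A) : K)) * k * e * (k⁻¹ * (((s' : A) : K) * ((s : A) : K)) * k)⁻¹
        = (k⁻¹ * ((s' : A) : K) * k) * ((k⁻¹ * ((s : A) : K) * k) * e * (k⁻¹ * ((s : A) : K) * k)⁻¹) *
          (k⁻¹ * ((s' : A) : K) * k)⁻¹ := by group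
      _ = e := by rw [h1, h2]
  refine hidx ?_
  haveI : Fintype (MulAction.orbitRel.Quotient A (K ⧸ N)) := Fintype.ofFinite _
  rw [Subgroup.index, Nat.card_congr (MulAction.selfEquivSigmaOrbits' A (K ⧸ N)), Nat.card_sigma]
  refine Finset.dvd_sum fun ω _ => ?_
  induction ω using Quotient.inductionOn' with
  | _ q =>
    rw [show Nat.card (MulAction.orbitRel.Quotient.orbit (Quotient.mk'' q : MulAction.orbitRel.Quotient A (K ⧸ N))) =
      Nat.card (MulAction.orbit A q) by rw [MulAction.orbitRel.Quotient.orbit_mk]]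
    rw [Nat.card_coe_set_eq, ← MulAction.index_stabilizer]
    have h1 := (MulAction.stabilizer A q).card_mul_index
    obtain ⟨i, -, hi⟩ : ∃ i ≤ n, Nat.card (MulAction.stabilizer A q) = 2 ^ i :=
      (Nat.dvd_prime_pow Nat.prime_two).1 (hn ▸ Subgroup.card_subgroup_dvd_card _)
    obtain ⟨l, -, hl⟩ : ∃ l ≤ n, (MulAction.stabilizer A q).index = 2 ^ l :=
      (Nat.dvd_prime_pow Nat.prime_two).1 (hn ▸ Subgroup.index_dvd_card _)
    have hq2 := hst q
    rw [hn, hi, hl, ← pow_add] at h1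
    have := Nat.pow_right_injective le_rfl h1
    rw [hi] at hq2
    have : i ≤ 1 := (Nat.pow_le_pow_iff_right one_lt_two).1 (hq2.trans_eq (pow_one 2).symm)
    rw [hl]
    exact pow_dvd_pow 2 (show 2 ≤ l by omega)

/-- Over a group like `PSL₂(9)` the index is at most two. -/
theorem nine_bounds {N : Subgroup K} [hN : N.Normal] (hone : OneClass N) (hnine : NineData N) :
    N.index ≤ 2 ∧ ∀ A : Subgroup K, (∀ a ∈ A, a * a = 1) → Nat.card A ≤ 4 := by
  classical
  haveI : Fact (Nat.Prime 2) := ⟨Nat.prime_two⟩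
  haveI : Fact (Nat.Prime 3) := ⟨Nat.prime_three⟩
  obtain ⟨hcard, P, hP9, h4⟩ := hnine
  set P' := (P : Subgroup N).map N.subtype with hP'
  set H := Subgroup.normalizer (P' : Set K) with hH
  have htop : H ⊔ N = ⊤ := Sylow.normalizer_sup_eq_top P
  have hP'c : Nat.card P' = 9 := by
    rw [hP', Subgroup.card_map_of_injective N.subtype_injective, hP9]
  have hsub : H.subgroupOf N = Subgroup.normalizer ((P : Subgroup N) : Set N) := by
    have h0 : P'.subgroupOf N = (P : Subgroup N) :=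
      Subgroup.comap_map_eq_self_of_injective N.subtype_injective _
    rw [hH, Subgroup.subgroupOf_normalizer_eq (Subgroup.map_subtype_le _), h0]
  have hHidx : H.index = (Subgroup.normalizer ((P : Subgroup N) : Set N)).index := by
    have h1 : N.relIndex H = N.index := by
      rw [← Subgroup.relIndex_top_right, ← htop, Subgroup.relIndex_sup_right]
    have h2 := (N.subgroupOf H).card_mul_index
    have h3 : Nat.card (N.subgroupOf H) = Nat.card (H.subgroupOf N) :=
      (Nat.card_congr ⟨fun y => ⟨⟨y.1.1, y.2⟩, y.1.2⟩, fun y => ⟨⟨y.1.1, y.2⟩, y.1.2⟩,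
        fun _ => rfl, fun _ => rfl⟩)
    rw [h3, show (N.subgroupOf H).index = N.index from h1, hsub] at h2
    have h4' := H.card_mul_index
    have h5 := N.card_mul_index
    have h6 := (Subgroup.normalizer ((P : Subgroup N) : Set N)).card_mul_index
    rw [← h5, ← h6, ← h2] at h4'
    refine Nat.eq_of_mul_eq_mul_left (Nat.mul_pos Nat.card_pos
      (Nat.pos_of_ne_zero N.index_ne_zero_of_finite)) (h4'.trans ?_)
    ring
  have hn4 : ¬ 4 ∣ (Subgroup.normalizer ((P : Subgroup N) : Set N)).index := fun hd => by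
    have h6 := Nat.mul_dvd_mul h4 hd
    rw [Subgroup.card_mul_index, hcard] at h6
    norm_num at h6
  have hcomm : ∀ a ∈ P', ∀ b ∈ P', a * b = b * a := by
    intro a ha b hb
    haveI : IsMulCommutative P' :=
      IsPGroup.isMulCommutative_of_card_eq_prime_sq (p := 3) (by rw [hP'c]; norm_num)
    exact congrArg Subtype.val (IsMulCommutative.is_comm.comm (⟨a, ha⟩ : P') ⟨b, hb⟩)
  have hne : P' ≠ ⊥ := fun e => by rw [e, Subgroup.card_bot] at hP'c; omega
  refine ⟨?_, fun A hA => card_exp_two_le_four h hcomm (by rw [hP'c]; decide) hne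
    (by rw [← hH, hHidx]; exact hn4) hA⟩
  by_contra hlt
  obtain ⟨k, hk⟩ := exists_index_two_pow h hone
  have hk2 : 4 ∣ N.index := by
    rw [hk]
    refine pow_dvd_pow 2 (show 2 ≤ k from ?_)
    by_contra hk'
    have := Nat.pow_le_pow_right two_pos (show k ≤ 1 by omega)
    rw [← hk] at this
    omega
  have h16 : 2 ^ 4 ∣ Nat.card H := by
    have h1 : N.relIndex H = N.index := by
      rw [← Subgroup.relIndex_top_right, ← htop, Subgroup.relIndex_sup_right]
    have h2 := (N.subgroupOf H).card_mul_index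
    have h3 : Nat.card (N.subgroupOf H) = Nat.card (H.subgroupOf N) :=
      (Nat.card_congr ⟨fun y => ⟨⟨y.1.1, y.2⟩, y.1.2⟩, fun y => ⟨⟨y.1.1, y.2⟩, y.1.2⟩,
        fun _ => rfl, fun _ => rfl⟩)
    rw [h3, show (N.subgroupOf H).index = N.index from h1, hsub] at h2
    rw [← h2]
    rw [show (2 : ℕ) ^ 4 = 4 * 4 by norm_num]
    exact Nat.mul_dvd_mul h4 hk2
  obtain ⟨R, hR⟩ := Sylow.exists_subgroup_card_pow_prime 2 h16
  obtain ⟨y, hy, hy1⟩ := P'.bot_or_exists_ne_one.resolve_left hne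
  let f : R → {z : P' // z ≠ 1} := fun r =>
    ⟨⟨(r.1 : K) * y * (r.1 : K)⁻¹, (Subgroup.mem_normalizer_iff.1 r.1.2 y).1 hy⟩,
      fun e => hy1 (conj_eq_one_iff.1 (congrArg Subtype.val e))⟩
  have hf : Function.Injective f := by
    intro r r' hrr
    have h1 : (r.1 : K) * y * (r.1 : K)⁻¹ = (r'.1 : K) * y * (r'.1 : K)⁻¹ :=
      congrArg (fun z => ((z.1 : P') : K)) hrr
    by_contra hne'
    set d := (r'⁻¹ * r : R) with hd
    have hd1 : ((d.1 : H) : K) ≠ 1 := fun e => hne' (inv_mul_eq_one.1 (Subtype.ext (Subtype.ext e) : d = 1)).symm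
    have hdy : Commute ((d.1 : H) : K) y := by
      show _ = _
      rw [← mul_inv_eq_iff_eq_mul]
      calc ((d.1 : H) : K) * y * ((d.1 : H) : K)⁻¹
          = (r'.1 : K)⁻¹ * ((r.1 : K) * y * (r.1 : K)⁻¹) * (r'.1 : K) := by simp [hd]; group
        _ = y := by rw [h1]; group
    obtain ⟨i, hi⟩ := IsPGroup.iff_orderOf.1 (IsPGroup.of_card hR) d
    rw [← Subgroup.orderOf_coe, ← Subgroup.orderOf_coe] at hi
    obtain ⟨i', hi'⟩ := h.orderOf_of_commute hi hd1 hdy
    have hd9 := Subgroup.orderOf_dvd_natCard P' hy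
    rw [hP'c, hi'] at hd9
    have hco : Nat.Coprime (2 ^ i') 9 := Nat.Coprime.pow_left _ (by norm_num)
    exact hy1 (orderOf_eq_one_iff.1 (hi'.trans (hco.eq_one_of_dvd hd9)))
  have h1 := Nat.card_le_card_of_injective f hf
  rw [hR] at h1
  have h2 : Nat.card {z : P' // z ≠ 1} < Nat.card P' := Finite.card_subtype_lt (x := 1) (by simp)
  omega

end CfsgLib.CIT
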