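import Cfsg.Agent.CIT.Local

/-!
Either no radical 2-subgroup is bad, or there is one with quotient `S₃` in its normaliser.
-/

set_option autoImplicit false

namespace CfsgLib.CIT

open CfsgLib.CITThreePrime

universe u

variable {G : Type u} [Group G] [Finite G]

/-- A radical 2-subgroup of index six in its normaliser whose involutions form a four-group. -/
structure Bad6 (R : Subgroup G) : Prop where
  isPGroup : IsPGroup 2 R
  card_omegaZ : Nat.card (omegaZ R) = 4
  card_normalizer : Nat.card (Subgroup.normalizer (R : Set G)) = 6 * Nat.card R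
  mem_omegaZ : ∀ w ∈ R, w * w = 1 → w ∈ omegaZ R
  le_self : ∀ E : Subgroup G, E ≤ Subgroup.normalizer (R : Set G) →
    Subgroup.normalizer (R : Set G) ≤ Subgroup.normalizer (E : Set G) → IsPGroup 2 E → E ≤ R

omit [Finite G] in
theorem map_omegaZ {H : Subgroup G} (Q : Subgroup H) :
    (omegaZ Q).map H.subtype = omegaZ (Q.map H.subtype) := by
  ext g
  constructor
  · rintro ⟨z, ⟨hzQ, hzc, hz2⟩, rfl⟩
    refine ⟨⟨z, hzQ, rfl⟩, Subgroup.mem_centralizer_iff.2 ?_, congrArg Subtype.val hz2⟩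
    rintro _ ⟨y, hy, rfl⟩
    exact congrArg Subtype.val (Subgroup.mem_centralizer_iff.1 hzc y hy)
  · rintro ⟨⟨z, hzQ, rfl⟩, hzc, hz2⟩
    refine ⟨z, ⟨hzQ, Subgroup.mem_centralizer_iff.2 fun y hy => Subtype.ext ?_, Subtype.ext hz2⟩, rfl⟩
    exact Subgroup.mem_centralizer_iff.1 hzc _ ⟨y, hy, rfl⟩

theorem noBad_or_bad6 (h : InvCentTwo G)
    (hquot : ∀ R : Subgroup G, Radical R →
      Group.IsSolvable (Subgroup.normalizer (R : Set G) ⧸
          Cfsg.pCore 2 (Subgroup.normalizer (R : Set G))) ∨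
      Tame (Subgroup.normalizer (R : Set G) ⧸ Cfsg.pCore 2 (Subgroup.normalizer (R : Set G)))) :
    NoBad G ∨ ∃ R : Subgroup G, Bad6 R := by
  classical
  haveI : Fact (Nat.Prime 2) := ⟨Nat.prime_two⟩
  by_cases hnb : NoBad G
  · exact Or.inl hnb
  refine Or.inr ?_
  simp only [NoBad, not_forall] at hnb
  obtain ⟨R, hR, S, hS, hbad⟩ := hnb
  obtain ⟨hR1, hRQ⟩ := hR
  set H := Subgroup.normalizer (R : Set G)
  set Q := Cfsg.pCore 2 H with hQdef
  have hmapQ : Q.map H.subtype = R := hRQ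
  have hQ : Q ≠ ⊥ := fun e => hR1 (by rw [← hmapQ, e, Subgroup.map_bot])
  have hRp : IsPGroup 2 R := hmapQ ▸ (Constrained.isPGroup_pCore (p := 2)).map _
  have hQS' : Q ≤ S.subgroupOf H := fun z hz =>
    pCoreOf_le_of_maximal hS (show (z : G) ∈ Cfsg.pCoreOf 2 H from ⟨z, hz, rfl⟩)
  have hmapS : (S.subgroupOf H).map H.subtype = S :=
    (Subgroup.subgroupOf_map_subtype _ _).trans (inf_eq_left.2 hS.1.1)
  have hH : InvCentTwo H := h.of_injective H.subtype Subtype.val_injective
  have hbad' : ¬ Cfsg.thompsonSubgroupOf 2 (S.subgroupOf H) ≤ Q := fun hle => hbad (by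
    have := Subgroup.map_mono (f := H.subtype) hle
    rwa [← LocalP.thompsonSubgroupOf_map H.subtype Subtype.val_injective, hmapS, hmapQ] at this)
  rcases hquot R ⟨hR1, hRQ⟩ with hsol | htame
  · obtain ⟨h4, h6, hinv⟩ := bad_six_of_isSolvable hH hQ hsol hQS' hbad'
    have hcardQ : Nat.card Q = Nat.card R := by
      rw [← hmapQ, Subgroup.card_map_of_injective Subtype.val_injective]
    refine ⟨R, hRp, ?_, ?_, fun w hw hw2 => ?_,
      fun E h1 h2 h3 => (le_pCoreOf h1 h2 h3).trans hRQ.le⟩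
    · rw [← hmapQ, ← map_omegaZ, Subgroup.card_map_of_injective Subtype.val_injective, h4]
    · rw [← hcardQ, ← h6, Subgroup.index_mul_card]
    · rw [← hmapQ] at hw
      obtain ⟨z, hz, rfl⟩ := hw
      rw [← hmapQ, ← map_omegaZ]
      exact ⟨z, hinv z hz (Subtype.ext hw2), rfl⟩
  · exact absurd (thompson_le_pCore_of_tame hH hQ htame hQS') hbad'

end CfsgLib.CIT
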