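import Cfsg.Agent.SL2.Elements
import Mathlib.RingTheory.IntegralDomain

/-!
Elements of orders `q ± 1` in `SL₂(q)` and `(q ± 1)/2` in `PSL₂(q)`.
-/

set_option autoImplicit false

namespace CfsgLib.CIT

open CfsgLib.SL2

variable {F : Type*} [Field F] [Fintype F]

theorem exists_orderOf_sub_one :
    ∃ g : Matrix.SpecialLinearGroup (Fin 2) F, orderOf g = Fintype.card F - 1 := by
  classical
  obtain ⟨a, ha⟩ := IsCyclic.exists_generator (α := Fˣ)
  refine ⟨d a, ?_⟩
  rw [orderOf_injective (d : Fˣ →* Matrix.SpecialLinearGroup (Fin 2) F) ?_ a,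
    orderOf_eq_card_of_forall_mem_zpowers ha, Nat.card_eq_fintype_card, Fintype.card_units]
  intro x y e
  have := congrArg (fun g : Matrix.SpecialLinearGroup (Fin 2) F => g 0 0) e
  exact Units.ext (by simpa [d] using this)

theorem exists_orderOf_add_one :
    ∃ g : Matrix.SpecialLinearGroup (Fin 2) F, orderOf g = Fintype.card F + 1 := by
  obtain ⟨g, -, hC, hcard⟩ := exists_card_centralizer_eq_add_one (F := F)
  obtain ⟨c, hc⟩ := hC.exists_generator
  exact ⟨c, by rw [Subgroup.orderOf_coe, orderOf_eq_card_of_forall_mem_zpowers hc, hcard]⟩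

theorem exists_orderOf_psl_of_two_mul (h2 : (2 : F) ≠ 0) {m : ℕ} (hm : 0 < m)
    {g : Matrix.SpecialLinearGroup (Fin 2) F} (hg : orderOf g = 2 * m) :
    ∃ x : Matrix.ProjectiveSpecialLinearGroup (Fin 2) F, orderOf x = m := by
  refine ⟨QuotientGroup.mk' _ g, Nat.dvd_antisymm ?_ ?_⟩
  · refine orderOf_dvd_of_pow_eq_one ?_
    rw [← map_pow]
    refine (QuotientGroup.eq_one_iff _).2 (mem_center_iff'.2 (Or.inr ?_))
    refine eq_neg_one_of_mul_self h2 (pow_ne_one_of_lt_orderOf hm.ne' (by omega)) ?_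
    rw [← pow_add, show m + m = orderOf g by omega, pow_orderOf_eq_one]
  · set n := orderOf (QuotientGroup.mk' (Subgroup.center (Matrix.SpecialLinearGroup (Fin 2) F)) g)
    have hn : g ^ n ∈ Subgroup.center (Matrix.SpecialLinearGroup (Fin 2) F) :=
      (QuotientGroup.eq_one_iff _).1 (show QuotientGroup.mk' _ (g ^ n) = 1 by
        rw [map_pow]; exact pow_orderOf_eq_one _)
    have hsq : g ^ (2 * n) = 1 := by
      rw [mul_comm, pow_mul]
      rcases mem_center_iff'.1 hn with e | e <;> rw [e] <;> simp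
    have := orderOf_dvd_of_pow_eq_one hsq
    rw [hg] at this
    exact (Nat.mul_dvd_mul_iff_left (by norm_num)).1 this

end CfsgLib.CIT
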