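import Cfsg.Agent.CIT.NoBad

/-!
The local structure of a group with 2-group involution centralisers whose Sylow 2-subgroup has its
Thompson subgroup outside `O₂`.
-/

set_option autoImplicit false

namespace CfsgLib.CIT

open CfsgLib.CITThreePrime

universe u

variable {G : Type u} [Group G] [Finite G]

/-- An involution outside `O₂` inverts an element of odd prime order. -/
theorem exists_inverted {a : G} (haQ : a ∉ Cfsg.pCore 2 G) (ha : a * a = 1) :
    ∃ (x : G) (p : ℕ), p.Prime ∧ p ≠ 2 ∧ orderOf x = p ∧ a * x * a⁻¹ = x⁻¹ := by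
  haveI : Fact (Nat.Prime 2) := ⟨Nat.prime_two⟩
  obtain ⟨g, hg⟩ := exists_conj_pair haQ (by rw [sq, ha]; exact one_mem _)
  set y := a * (g * a * g⁻¹) with hy
  have hyinv : a * y * a⁻¹ = y⁻¹ := by
    rw [hy, mul_inv_rev, show (g * a * g⁻¹)⁻¹ = g * a⁻¹ * g⁻¹ by group,
      inv_eq_of_mul_eq_one_right ha]
    calc a * (a * (g * a * g⁻¹)) * a = (a * a) * (g * a * g⁻¹) * a := by group
      _ = g * a * g⁻¹ * a := by rw [ha, one_mul]
  obtain ⟨e, d, hd, hed⟩ := Nat.exists_eq_two_pow_mul_odd (orderOf_pos y).ne'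
  rcases eq_or_ne d 1 with rfl | hd1
  · exact absurd ⟨e, by rw [hed, mul_one]⟩ hg
  obtain ⟨p, hp, hpd⟩ := Nat.exists_prime_and_dvd hd1
  refine ⟨y ^ (orderOf y / p), p, hp, fun e2 => Nat.not_even_iff_odd.2 hd
    (even_iff_two_dvd.2 (e2 ▸ hpd)), ?_, by rw [← conj_pow, hyinv, inv_pow]⟩
  exact orderOf_pow_orderOf_div (orderOf_pos y).ne' (hed ▸ hpd.mul_left _)

theorem card_map_mk_mul (Q : Subgroup G) [Q.Normal] (A : Subgroup G) :
    Nat.card (A.map (QuotientGroup.mk' Q)) * Nat.card ↥(A ⊓ Q) = Nat.card A := by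
  rw [Subgroup.card_eq_card_quotient_mul_card_subgroup ((QuotientGroup.mk' Q).comp A.subtype).ker]
  refine congrArg₂ (· * ·) ?_ ?_
  · rw [Nat.card_congr (QuotientGroup.quotientKerEquivRange
        ((QuotientGroup.mk' Q).comp A.subtype)).toEquiv, MonoidHom.range_comp, Subgroup.range_subtype]
  · rw [show ((QuotientGroup.mk' Q).comp A.subtype).ker = (A ⊓ Q).subgroupOf A from by
      ext x; simp [Subgroup.mem_subgroupOf, QuotientGroup.eq_one_iff]]
    exact (Nat.card_congr (Subgroup.subgroupOfEquivOfLe inf_le_left).toEquiv).symm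


variable (h : InvCentTwo G)
include h

/-- Data of an elementary subgroup of largest order in `S` not contained in `O₂`. -/
theorem exists_offender (hQ : Cfsg.pCore 2 G ≠ ⊥) {S : Subgroup G}
    (hQS : Cfsg.pCore 2 G ≤ S) (hbad : ¬ Cfsg.thompsonSubgroupOf 2 S ≤ Cfsg.pCore 2 G) :
    ∃ A ∈ LocalP.maxElemIn 2 S, ∃ a ∈ A, a ∉ Cfsg.pCore 2 G ∧
      Nat.card (omegaZ (Cfsg.pCore 2 G)) ≤
        Nat.card (A.map (QuotientGroup.mk' (Cfsg.pCore 2 G))) ^ 2 := by
  classical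
  haveI : Fact (Nat.Prime 2) := ⟨Nat.prime_two⟩
  set Q := Cfsg.pCore 2 G with hQdef
  set π := QuotientGroup.mk' Q
  rw [LocalP.thompsonSubgroupOf_eq_sSup] at hbad
  obtain ⟨A, hA, hAQ⟩ : ∃ A ∈ LocalP.maxElemIn 2 S, ¬ A ≤ Q := by
    by_contra hcon
    push Not at hcon
    exact hbad (sSup_le hcon)
  obtain ⟨a, ha, haQ⟩ := SetLike.not_le_iff_exists.1 hAQ
  refine ⟨A, hA, a, ha, haQ, ?_⟩
  obtain ⟨hAS, hAel, hAmax⟩ := hA
  obtain ⟨hAc, hA2⟩ := (LocalP.isElementaryAbelian_iff).1 hAel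
  set V := omegaZ Q with hVdef
  have hV2 : ∀ z ∈ V, z * z = 1 := fun z hz => (mem_omegaZ.1 hz).2.2
  have hVA : Nat.card V * Nat.card ↥(A ⊓ Q) ≤
      Nat.card A * Nat.card ↥(V ⊓ (A ⊓ Q)) := by
    have hel : Cfsg.IsElementaryAbelian 2 (V ⊔ A ⊓ Q) := by
      refine LocalP.isElementaryAbelian_sup ((LocalP.isElementaryAbelian_iff).2
        ⟨fun x hx y hy => (Subgroup.mem_centralizer_iff.1 hy.2.1 x hx.1),
          fun x hx => (sq x).trans (hV2 x hx)⟩) (LocalP.isElementaryAbelian_mono hAel inf_le_left)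
        fun x hx y hy => (Subgroup.mem_centralizer_iff.1 hx.2.1 y hy.2).symm
    have hle : V ⊔ A ⊓ Q ≤ S := sup_le (fun z hz => hQS hz.1) (inf_le_left.trans hAS)
    exact (LocalP.card_mul_le_card_sup_mul_card_inf V (A ⊓ Q)).trans
      (Nat.mul_le_mul (hAmax _ hle hel) le_rfl)
  have hAcard := card_map_mk_mul Q A
  obtain ⟨g, hg⟩ := exists_conj_pair haQ (by rw [hA2 a ha]; exact one_mem _)
  have h1 := h.card_fix_sq_le V hV2 hg
  have h2 : Nat.card ↥(V ⊓ (A ⊓ Q)) ≤ Nat.card ↥(V ⊓ Subgroup.centralizer ({a} : Set G)) :=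
    Subgroup.card_le_of_le (inf_le_inf_left V fun z hz =>
      Subgroup.mem_centralizer_singleton_iff.2 (hAc z hz.1 a ha))
  have h3' : Nat.card V ≤ Nat.card (A.map π) * Nat.card ↥(V ⊓ Subgroup.centralizer ({a} : Set G)) := by
    rw [← hAcard, mul_right_comm] at hVA
    exact (Nat.le_of_mul_le_mul_right hVA Nat.card_pos).trans (Nat.mul_le_mul_left _ h2)
  have h4 : Nat.card V * Nat.card V ≤ Nat.card (A.map π) ^ 2 * Nat.card V := by
    refine (Nat.mul_le_mul h3' h3').trans ?_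
    rw [mul_mul_mul_comm, ← sq, ← sq]
    exact Nat.mul_le_mul_left _ h1
  exact Nat.le_of_mul_le_mul_right h4 Nat.card_pos

omit h in
/-- Every elementary abelian 2-subgroup is small against an odd divisor of the order. -/
def Tame (K : Type u) [Group K] : Prop :=
  ∀ A : Subgroup K, (∀ a ∈ A, a * a = 1) → ∃ d, Odd d ∧ d ∣ Nat.card K ∧ Nat.card A ^ 2 ≤ d

omit h [Finite G] in
theorem map_sq {Q : Subgroup G} [Q.Normal] {A : Subgroup G} (hA : Cfsg.IsElementaryAbelian 2 A) :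
    ∀ x ∈ A.map (QuotientGroup.mk' Q), x * x = 1 := by
  rintro _ ⟨x, hx, rfl⟩
  rw [← map_mul, ← sq, ((LocalP.isElementaryAbelian_iff).1 hA).2 x hx, map_one]

theorem thompson_le_pCore_of_tame (hQ : Cfsg.pCore 2 G ≠ ⊥)
    (hK : Tame (G ⧸ Cfsg.pCore 2 G)) {S : Subgroup G} (hQS : Cfsg.pCore 2 G ≤ S) :
    Cfsg.thompsonSubgroupOf 2 S ≤ Cfsg.pCore 2 G := by
  by_contra hbad
  obtain ⟨A, hA, a, ha, haQ, hle⟩ := exists_offender h hQ hQS hbad
  obtain ⟨d, hdo, hdd, hd⟩ := hK _ (map_sq hA.2.1)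
  have h1 := h.dvd_card_sub_one (omegaZ (Cfsg.pCore 2 G)) (fun z hz => (mem_omegaZ.1 hz).2.2) hdo
    (hdd.trans (Subgroup.card_quotient_dvd_card _))
  have h2 : 1 < Nat.card (omegaZ (Cfsg.pCore 2 G)) := (Subgroup.one_lt_card_iff_ne_bot _).2
    (haveI : Fact (Nat.Prime 2) := ⟨Nat.prime_two⟩; omegaZ_ne_bot Constrained.isPGroup_pCore hQ)
  have h3 := Nat.le_of_dvd (by omega) h1
  omega

/-- A solvable quotient with an offender has order six. -/
theorem quotient_six_of_isSolvable (hQ : Cfsg.pCore 2 G ≠ ⊥)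
    (hsol : Group.IsSolvable (G ⧸ Cfsg.pCore 2 G)) {A : Subgroup G}
    (hA : Cfsg.IsElementaryAbelian 2 A) {a : G} (ha : a ∈ A) (haQ : a ∉ Cfsg.pCore 2 G)
    (hle : Nat.card (omegaZ (Cfsg.pCore 2 G)) ≤
        Nat.card (A.map (QuotientGroup.mk' (Cfsg.pCore 2 G))) ^ 2) :
    Nat.card (omegaZ (Cfsg.pCore 2 G)) = 4 ∧ (Cfsg.pCore 2 G).index = 6 ∧
      Nat.card (A.map (QuotientGroup.mk' (Cfsg.pCore 2 G))) = 2 := by
  classical
  haveI : Fact (Nat.Prime 2) := ⟨Nat.prime_two⟩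
  set Q := Cfsg.pCore 2 G with hQdef
  set π := QuotientGroup.mk' Q
  have hQp : IsPGroup 2 Q := Constrained.isPGroup_pCore
  set V := omegaZ Q with hVdef
  have hV2 : ∀ z ∈ V, z * z = 1 := fun z hz => (mem_omegaZ.1 hz).2.2
  have hbar : InvCentTwo (G ⧸ Q) :=
    h.of_surjective π (QuotientGroup.mk'_surjective Q) (by rwa [QuotientGroup.ker_mk'])
  obtain ⟨hAc, hA2⟩ := (LocalP.isElementaryAbelian_iff).1 hA
  haveI := hsol
  haveI : Nontrivial (G ⧸ Q) := ⟨⟨π a, 1, fun e => haQ ((QuotientGroup.eq_one_iff a).1 e)⟩⟩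
  obtain ⟨E, hEn, hE1, hEodd, hEc⟩ := exists_abelian_odd_normal
    (Constrained.pCore_quotient_pCore (G := G) (p := 2))
    (N := (⊤ : Subgroup (G ⧸ Q))) inferInstance inferInstance top_ne_bot
  have hsq := map_sq (Q := Q) hA
  have hA2' : Nat.card (A.map π) ≤ 2 := by
    have hsub : ((A.map π : Subgroup (G ⧸ Q)) : Set (G ⧸ Q)) ⊆ {1, π a} := by
      intro x hx
      rcases eq_or_ne x 1 with rfl | hx1
      · exact Or.inl rfl
      refine Or.inr (hbar.eq_of_commute hEc hEodd hE1 hEn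
        (orderOf_eq_prime (by rw [sq]; exact hsq x hx) hx1)
        (orderOf_eq_prime (by rw [sq]; exact hsq _ ⟨a, ha, rfl⟩)
          (fun e => haQ ((QuotientGroup.eq_one_iff a).1 e))) ?_)
      obtain ⟨y, hy, rfl⟩ := hx
      show π y * π a = π a * π y
      rw [← map_mul, ← map_mul, hAc y hy a ha]
    have := Set.ncard_le_ncard hsub (Set.toFinite _)
    rw [← Nat.card_coe_set_eq] at this
    exact this.trans ((Set.ncard_insert_le _ _).trans (by simp))
  have hA2'' : 1 < Nat.card (A.map π) := (Subgroup.one_lt_card_iff_ne_bot _).2 fun e =>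
    haQ ((QuotientGroup.eq_one_iff a).1 ((Subgroup.eq_bot_iff_forall _).1 e _ ⟨a, ha, rfl⟩))
  obtain ⟨p, hp, hpd⟩ := Nat.exists_prime_and_dvd
    (fun e => hE1 (Subgroup.eq_bot_of_card_eq E e))
  have hp2 : p ≠ 2 := fun e => Nat.not_even_iff_odd.2 hEodd (even_iff_two_dvd.2 (e ▸ hpd))
  have hpQ : p ∣ Q.index := hpd.trans (Subgroup.card_subgroup_dvd_card E)
  have hpV := h.pow_dvd_card_sub_one V hV2 (k := 1) hp hp2
    (by rw [pow_one]; exact hpQ.trans Q.index_dvd_card)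
  rw [pow_one] at hpV
  have hVgt : 1 < Nat.card V := (Subgroup.one_lt_card_iff_ne_bot V).2 (omegaZ_ne_bot hQp hQ)
  have h4 : Nat.card V ≤ 4 := hle.trans (by nlinarith)
  have hple := Nat.le_of_dvd (by omega) hpV
  have h2le := hp.two_le
  obtain rfl : p = 3 := by omega
  have hV4 : Nat.card V = 4 := by omega
  refine ⟨hV4, ?_, le_antisymm hA2' hA2''⟩
  -- the action on `V#`
  let α := {z : G // z ∈ V ∧ z ≠ 1}
  letI act : MulAction G α :=
    { smul := fun g z => ⟨g * z * g⁻¹, (inferInstance : V.Normal).conj_mem _ z.2.1 g,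
        fun e => z.2.2 (conj_eq_one_iff.1 e)⟩
      one_smul := fun z => Subtype.ext (show (1 : G) * z * (1 : G)⁻¹ = z by simp)
      mul_smul := fun g g' z => Subtype.ext (show g * g' * z * (g * g')⁻¹ =
        g * (g' * z * g'⁻¹) * g⁻¹ by group) }
  set f := MulAction.toPermHom G α
  have hker : f.ker = Q := by
    refine le_antisymm (fun g hg => ?_) (fun g hg => ?_)
    · refine centralizer_le_pCore h V (fun z => ⟨1, Subtype.ext (by
        rw [pow_one, sq]; exact hV2 z z.2)⟩) (omegaZ_ne_bot hQp hQ) (Subgroup.mem_centralizer_iff.2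
        fun z hz => ?_)
      rcases eq_or_ne z 1 with rfl | hz1
      · rw [one_mul, mul_one]
      exact (mul_inv_eq_iff_eq_mul.1 (congrArg Subtype.val
        (Equiv.ext_iff.1 (MonoidHom.mem_ker.1 hg) ⟨z, hz, hz1⟩))).symm
    · exact MonoidHom.mem_ker.2 (Equiv.ext fun z => Subtype.ext (show g * z * g⁻¹ = z from
        mul_inv_eq_iff_eq_mul.2 (Subgroup.mem_centralizer_iff.1 (mem_omegaZ.1 z.2.1).2.1 g hg)))
  have h6 : Q.index ∣ 6 := by
    have hα : Nat.card α = 3 := by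
      have : Nat.card α = ((V : Set G) \ {1}).ncard := by
        rw [← Nat.card_coe_set_eq]; exact Nat.card_congr (Equiv.setCongr rfl)
      rw [this, Set.ncard_sdiff (Set.singleton_subset_iff.2 V.one_mem), Set.ncard_singleton,
        ← Nat.card_coe_set_eq]
      show Nat.card V - 1 = 3
      omega
    have hP : Nat.card (Equiv.Perm α) = 6 := by rw [Nat.card_perm, hα]; rfl
    rw [← hP, ← hker, Subgroup.index_ker]
    exact Subgroup.card_subgroup_dvd_card _
  have h2 : 2 ∣ Q.index := by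
    have hd := orderOf_dvd_natCard (π a)
    rwa [orderOf_eq_prime (x := π a) (p := 2) (by rw [sq]; exact hsq _ ⟨a, ha, rfl⟩)
      (fun e => haQ ((QuotientGroup.eq_one_iff a).1 e))] at hd
  exact Nat.dvd_antisymm h6 (Nat.Coprime.mul_dvd_of_dvd_of_dvd (by norm_num : Nat.Coprime 2 3) h2 hpQ)

/-- All involutions of `O₂` lie in `Ω₁(Z(O₂))` once an offender is small against it. -/
theorem mem_omegaZ_of_sq {S : Subgroup G} (hQS : Cfsg.pCore 2 G ≤ S) {A : Subgroup G}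
    (hA : A ∈ LocalP.maxElemIn 2 S) {a : G} (ha : a ∈ A) {x : G} (hx : orderOf x = 3)
    (hax : a * x * a⁻¹ = x⁻¹)
    (hle : Nat.card (A.map (QuotientGroup.mk' (Cfsg.pCore 2 G))) ^ 2 ≤
      Nat.card (omegaZ (Cfsg.pCore 2 G))) {w : G} (hw : w ∈ Cfsg.pCore 2 G) (hw2 : w * w = 1) :
    w ∈ omegaZ (Cfsg.pCore 2 G) := by
  classical
  haveI : Fact (Nat.Prime 2) := ⟨Nat.prime_two⟩
  set Q := Cfsg.pCore 2 G with hQdef
  set V := omegaZ Q with hVdef
  have hQp : IsPGroup 2 Q := Constrained.isPGroup_pCore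
  obtain ⟨-, hAel, hAmax⟩ := hA
  obtain ⟨hAc, hA2⟩ := (LocalP.isElementaryAbelian_iff).1 hAel
  set A₀ := A ⊓ Q with hA₀
  set A₁ := A₀.map (MulAut.conj x).toMonoidHom with hA₁
  have hA₀el := LocalP.isElementaryAbelian_mono hAel (inf_le_left : A₀ ≤ A)
  have hA₁Q : A₁ ≤ Q := by
    rintro _ ⟨z, hz, rfl⟩
    exact (inferInstance : Q.Normal).conj_mem z hz.2 x
  have hel : Cfsg.IsElementaryAbelian 2 (A₀ ⊔ A₁) := by
    refine LocalP.isElementaryAbelian_sup hA₀el (LocalP.isElementaryAbelian_map _ hA₀el) ?_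
    rintro u hu _ ⟨v, hv, rfl⟩
    exact commute_conj_of_elementary h Q hQp hx hu.2 hv.2 (by rw [← sq]; exact hA2 u hu.1)
      (by rw [← sq]; exact hA2 v hv.1) (hAc u hu.1 v hv.1)
  have hdis : A₀ ⊓ A₁ = ⊥ := by
    rw [Subgroup.eq_bot_iff_forall]
    rintro z ⟨hz, v, hv, rfl⟩
    by_contra hz1
    obtain ⟨k, hk⟩ := exists_two_pow_of_mem hQp hz.2
    have c1 : Commute (x * v * x⁻¹) a := hAc _ hz.1 a ha
    have c2 : Commute (x * v * x⁻¹) (x * a * x⁻¹) :=
      (show Commute v a from hAc v hv.1 a ha).map (MulAut.conj x).toMonoidHom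
    have e : a * (x * a * x⁻¹) = x := by
      calc a * (x * a * x⁻¹) = (a * x * a⁻¹) * (a * a) * x⁻¹ := by group
        _ = x := by
          rw [hax, ← sq a, hA2 a ha, mul_one, ← mul_inv_rev, ← sq]
          refine inv_eq_of_mul_eq_one_right ?_
          rw [← pow_succ]; show x ^ 3 = 1; rw [← hx]; exact pow_orderOf_eq_one x
    have := h.eq_one_of_commute Nat.prime_three (by norm_num) hk hz1 (a := 1)
      (by rw [hx, pow_one]) (e ▸ c1.mul_right c2)
    rw [this, orderOf_one] at hx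
    omega
  have hcard : Nat.card A₀ ^ 2 ≤ Nat.card A := by
    have h1 := LocalP.card_mul_le_card_sup_mul_card_inf A₀ A₁
    rw [hdis, Subgroup.card_bot, mul_one, hA₁,
      Subgroup.card_map_of_injective (f := (MulAut.conj x).toMonoidHom) (MulAut.conj x).injective] at h1
    rw [sq]
    exact h1.trans (hAmax _ (sup_le (inf_le_right.trans hQS) (hA₁Q.trans hQS)) hel)
  have hAb := card_map_mk_mul Q A
  set m := Nat.card (A.map (QuotientGroup.mk' Q))
  have hA₀m : Nat.card A₀ ≤ m := by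
    refine Nat.le_of_mul_le_mul_right ?_ (Nat.card_pos (α := A₀))
    rw [← sq, hAb]; exact hcard
  have hAV : Nat.card A ≤ Nat.card V := by
    rw [← hAb]
    exact (Nat.mul_le_mul_left m hA₀m).trans (by rwa [← sq])
  have hVel : Cfsg.IsElementaryAbelian 2 V := (LocalP.isElementaryAbelian_iff).2
    ⟨fun z hz z' hz' => Subgroup.mem_centralizer_iff.1 hz'.2.1 z hz.1,
      fun z hz => (sq z).trans hz.2.2⟩
  have hwel : Cfsg.IsElementaryAbelian 2 (V ⊔ Subgroup.zpowers w) := by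
    refine LocalP.isElementaryAbelian_sup hVel ((LocalP.isElementaryAbelian_iff).2 ⟨?_, ?_⟩) ?_
    · rintro _ ⟨i, rfl⟩ _ ⟨j, rfl⟩; rw [← zpow_add, ← zpow_add, add_comm]
    · rintro _ ⟨i, rfl⟩
      show (w ^ i) ^ 2 = 1
      rw [← zpow_natCast, ← zpow_mul, mul_comm, zpow_mul, zpow_natCast, sq, hw2, one_zpow]
    · intro z hz z' hz'
      exact (Subgroup.mem_centralizer_iff.1 hz.2.1 z' (Subgroup.zpowers_le.2 hw hz')).symm
  have hle' := (hAmax _ (sup_le (fun z (hz : z ∈ V) => hQS hz.1) (Subgroup.zpowers_le.2 (hQS hw))) hwel).trans hAV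
  rw [Subgroup.eq_of_le_of_card_ge (le_sup_left : V ≤ V ⊔ Subgroup.zpowers w) hle']
  exact Subgroup.mem_sup_right (Subgroup.mem_zpowers w)

/-- The bad configuration with solvable quotient. -/
theorem bad_six_of_isSolvable (hQ : Cfsg.pCore 2 G ≠ ⊥)
    (hsol : Group.IsSolvable (G ⧸ Cfsg.pCore 2 G)) {S : Subgroup G}
    (hQS : Cfsg.pCore 2 G ≤ S) (hbad : ¬ Cfsg.thompsonSubgroupOf 2 S ≤ Cfsg.pCore 2 G) :
    Nat.card (omegaZ (Cfsg.pCore 2 G)) = 4 ∧ (Cfsg.pCore 2 G).index = 6 ∧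
      ∀ w ∈ Cfsg.pCore 2 G, w * w = 1 → w ∈ omegaZ (Cfsg.pCore 2 G) := by
  obtain ⟨A, hA, a, ha, haQ, hle⟩ := exists_offender h hQ hQS hbad
  obtain ⟨h4, h6, h2⟩ := quotient_six_of_isSolvable h hQ hsol hA.2.1 ha haQ hle
  refine ⟨h4, h6, fun w hw hw2 => ?_⟩
  have ha2 : a * a = 1 := by rw [← sq]; exact ((LocalP.isElementaryAbelian_iff).1 hA.2.1).2 a ha
  obtain ⟨x, p, hp, hp2, hxo, hax⟩ := exists_inverted haQ ha2
  haveI : Fact p.Prime := ⟨hp⟩
  obtain rfl : p = 3 := by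
    have h1 : p ∣ Nat.card G := hxo ▸ orderOf_dvd_natCard x
    rw [← Subgroup.index_mul_card (Cfsg.pCore 2 G), h6] at h1
    rcases hp.dvd_mul.1 h1 with h1 | h1
    · rcases hp.dvd_mul.1 (show p ∣ 2 * 3 from h1) with h1 | h1
      · exact absurd ((Nat.prime_dvd_prime_iff_eq hp Nat.prime_two).1 h1) hp2
      · exact (Nat.prime_dvd_prime_iff_eq hp Nat.prime_three).1 h1
    · obtain ⟨k, hk⟩ := IsPGroup.iff_card.1
        (haveI : Fact (Nat.Prime 2) := ⟨Nat.prime_two⟩; Constrained.isPGroup_pCore (p := 2) (G := G))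
      rw [hk] at h1
      exact absurd ((Nat.prime_dvd_prime_iff_eq hp Nat.prime_two).1 (hp.dvd_of_dvd_pow h1)) hp2
  exact mem_omegaZ_of_sq h hQS hA ha hxo hax (by rw [h2, h4]; norm_num) hw hw2

end CfsgLib.CIT
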