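import Cfsg.Agent.CIT.Extend
import Cfsg.Agent.CIT.SLTwoEven
import Cfsg.Agent.CIT.TorusOrders
import Cfsg.Agent.CIT.Local
import Cfsg.Agent.S0262
import Cfsg.Agent.SL2.Torus
import Cfsg.Agent.PSL2Two.Concrete
import Cfsg.Agent.SelfCentralNoncyclic.PSL
import Cfsg.Agent.Suzuki.Partition
import Cfsg.Agent.Suzuki.TISubgroups
import Cfsg.Agent.Suzuki.SylowTwo
import Cfsg.Agent.Suzuki.LieModel

/-!
One class of involutions, a rigid subgroup of prime order, and tameness, for `SL₂(2ⁿ)`, Suzuki groups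
and `PSL₂(q)`.
-/

set_option autoImplicit false

namespace CfsgLib.CIT

open CfsgLib.SL2

theorem Tame.of_equiv {N M : Type*} [Group N] [Group M] [Finite N] (e : N ≃* M)
    (hN : ∀ A : Subgroup N, (∀ a ∈ A, a * a = 1) → ∃ d, Odd d ∧ d ∣ Nat.card N ∧ Nat.card A ^ 2 ≤ d)
    (A : Subgroup M) (hA : ∀ a ∈ A, a * a = 1) :
    ∃ d, Odd d ∧ d ∣ Nat.card M ∧ Nat.card A ^ 2 ≤ d := by
  obtain ⟨d, h1, h2, h3⟩ := hN (A.map e.symm.toMonoidHom) (by
    rintro _ ⟨a, ha, rfl⟩
    rw [← map_mul, hA a ha, map_one])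
  refine ⟨d, h1, Nat.card_congr e.toEquiv ▸ h2, ?_⟩
  rwa [Subgroup.card_map_of_injective (f := e.symm.toMonoidHom) e.symm.injective] at h3

section SLTwo

variable {F : Type*} [Field F] [Fintype F]

/-- An element of order three inverted by an element squaring to `-1`. -/
theorem exists_three_inverted (h3 : (3 : F) ≠ 0) :
    ∃ g c : Matrix.SpecialLinearGroup (Fin 2) F, orderOf g = 3 ∧ g ∉ Subgroup.center _ ∧
      c * g * c⁻¹ = g⁻¹ ∧ c * c = -1 ∧ c ∉ Subgroup.centralizer ({g} : Set _) := by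
  haveI : Fact (Nat.Prime 3) := ⟨Nat.prime_three⟩
  let g : Matrix.SpecialLinearGroup (Fin 2) F :=
    ⟨!![0, 1; -1, -1], by rw [Matrix.det_fin_two_of]; ring⟩
  have ht : tr g ^ 2 ≠ 4 := fun e => h3 (by
    simp [tr, g] at e
    linear_combination -e)
  obtain ⟨c, hc, hc2, hcg⟩ := exists_inverting ht
  refine ⟨g, c, orderOf_eq_prime ?_ ?_, not_mem_center_of_tr_sq_ne ht, hc, hc2, hcg⟩
  · apply Subtype.ext
    rw [Matrix.SpecialLinearGroup.coe_pow, Matrix.SpecialLinearGroup.coe_one]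
    ext i j
    fin_cases i <;> fin_cases j <;> simp [g, pow_succ, Matrix.mul_apply, Fin.sum_univ_two]
  · intro e
    have := congrArg (fun y : Matrix.SpecialLinearGroup (Fin 2) F => y 0 1) e
    simp [g] at this

variable [CharP F 2]

local notation "SL₂" => Matrix.SpecialLinearGroup (Fin 2) F

theorem oneClass_sl_two : OneClass SL₂ := by
  haveI : Fact (Nat.Prime 2) := ⟨Nat.prime_two⟩
  have hu1 : orderOf (u (1 : F) : SL₂) = 2 := by
    refine orderOf_eq_prime (by rw [sq, u_mul_self]) fun e => ?_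
    have := congrArg (fun y : SL₂ => y 0 1) e
    simp at this
  refine ⟨⟨_, hu1⟩, fun s t hs ht => ?_⟩
  have key : ∀ s : SL₂, orderOf s = 2 → IsConj (u (1 : F)) s := fun s hs => by
    obtain ⟨c, hc⟩ := exists_conj_le_U (IsPGroup.of_card (n := 1)
      (by rw [Nat.card_zpowers, hs, pow_one]) : IsPGroup 2 (Subgroup.zpowers s))
    obtain ⟨r, hr⟩ := hc s (Subgroup.mem_zpowers s)
    have hr0 : r ≠ 0 := fun e => by
      rw [e, u_zero] at hr
      have : s = 1 := by
        calc s = c * (c⁻¹ * s * c) * c⁻¹ := by group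
          _ = 1 := by rw [hr]; group
      rw [this, orderOf_one] at hs; omega
    obtain ⟨a, ha⟩ : ∃ a : F, a ^ 2 = r :=
      Finite.injective_iff_surjective.1 (fun a b e => by
        have : (a - b) ^ 2 = 0 := by
          have e' : a ^ 2 = b ^ 2 := e
          linear_combination e' - (a * b - b ^ 2) * (CharTwo.two_eq_zero (R := F))
        exact sub_eq_zero.1 ((pow_eq_zero_iff two_ne_zero).1 this)) r
    have ha0 : a ≠ 0 := fun e => hr0 (by rw [← ha, e]; ring)
    refine isConj_iff.2 ⟨c * d (Units.mk0 a ha0), ?_⟩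
    calc c * d (Units.mk0 a ha0) * u 1 * (c * d (Units.mk0 a ha0))⁻¹
        = c * (d (Units.mk0 a ha0) * u 1 * (d (Units.mk0 a ha0))⁻¹) * c⁻¹ := by group
      _ = c * (c⁻¹ * s * c) * c⁻¹ := by rw [d_conj_u, Units.val_mk0, mul_one, ha, hr]
      _ = s := by group
  exact (key s hs).symm.trans (key t ht)

theorem rigid_sl_two : Rigid SL₂ := by
  haveI : Fact (Nat.Prime 2) := ⟨Nat.prime_two⟩
  haveI : Fact (Nat.Prime 3) := ⟨Nat.prime_three⟩
  have h3 : (3 : F) ≠ 0 := fun e => by
    have h2 : (2 : F) = 0 := CharTwo.two_eq_zero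
    exact one_ne_zero (show (1 : F) = 0 by linear_combination e - h2)
  obtain ⟨g, c, hg, -, hc, hc2, hcg⟩ := exists_three_inverted h3
  refine ⟨3, g, c, Nat.prime_three, rfl, hg, orderOf_eq_prime ?_ ?_, hc, fun σ =>
    exists_conj_zpowers (fun P => Cfsg.Agent.S0262.result 2 3 (by norm_num) (by norm_num) P) hg
      (by rw [MulEquiv.orderOf_eq, hg])⟩
  · rw [sq, hc2, neg_one_eq_one]
  · intro e
    exact hcg (e ▸ one_mem _)

end SLTwo

section PSLTwo

variable {F : Type} [Field F] [Fintype F]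

local notation "PSL₂" => Matrix.ProjectiveSpecialLinearGroup (Fin 2) F
local notation "π" => QuotientGroup.mk' (Subgroup.center (Matrix.SpecialLinearGroup (Fin 2) F))

variable (hodd : Fintype.card F % 2 = 1)
include hodd

theorem oneClass_psl_two : OneClass PSL₂ :=
  ⟨⟨_, (PSL2Two.dihedralCentralizer hodd).order_two⟩, fun s t hs ht => by
    obtain ⟨a, rfl⟩ := PSL2Two.one_class hodd s hs
    obtain ⟨b, rfl⟩ := PSL2Two.one_class hodd t ht
    exact isConj_iff.2 ⟨b * a⁻¹, by group⟩⟩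

theorem rigid_psl_two (h3 : (3 : F) ≠ 0) : Rigid PSL₂ := by
  haveI : Fact (Nat.Prime 2) := ⟨Nat.prime_two⟩
  haveI : Fact (Nat.Prime 3) := ⟨Nat.prime_three⟩
  obtain ⟨p, hpchar⟩ := CharP.exists F
  haveI : Fact p.Prime := ⟨(CharP.char_is_prime_or_zero F p).resolve_right (CharP.char_ne_zero_of_finite F p)⟩
  have hp3 : 3 ≠ p := fun e => h3 (by subst e; exact_mod_cast CharP.cast_eq_zero F 3)
  obtain ⟨g, c, hg, hgc, hc, hc2, hcg⟩ := exists_three_inverted h3
  have hx : orderOf (π g : PSL₂) = 3 := by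
    refine orderOf_eq_prime ?_ fun e => hgc ((QuotientGroup.eq_one_iff g).1 e)
    rw [← map_pow, ← hg, pow_orderOf_eq_one, map_one]
  refine ⟨3, π g, π c, Nat.prime_three, rfl, hx, orderOf_eq_prime ?_ ?_, ?_, fun σ => ?_⟩
  · rw [sq, ← map_mul, hc2]
    exact (QuotientGroup.eq_one_iff _).2 neg_one_mem_center
  · intro e
    exact hcg (Subgroup.center_le_centralizer _ ((QuotientGroup.eq_one_iff c).1 e))
  · rw [← map_mul, ← map_inv, ← map_mul, hc, map_inv]
  · exact exists_conj_zpowers (fun P => SelfCentralNC.isCyclic_pgroup p (by norm_num) hp3 P.2) hx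
      ((MulEquiv.orderOf_eq σ _).trans hx)

theorem card_exp_two_psl {A : Subgroup PSL₂} (hA : ∀ a ∈ A, a * a = 1) : Nat.card A ≤ 4 := by
  classical
  haveI : Fact (Nat.Prime 2) := ⟨Nat.prime_two⟩
  rcases A.bot_or_exists_ne_one with rfl | ⟨t, ht, ht1⟩
  · rw [Subgroup.card_bot]; norm_num
  obtain ⟨c, hc⟩ := PSL2Two.one_class hodd t (orderOf_eq_prime (by rw [sq, hA t ht]) ht1)
  have H := (PSL2Two.dihedralCentralizer hodd).conj c
  rw [hc] at H
  have hAc : ∀ a ∈ A, Commute a t := fun a ha => by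
    have h1 := hA _ (mul_mem ha ht)
    show a * t = t * a
    calc a * t = (a * a) * (a * t) * (t * t) * (a * t * (a * t))⁻¹ := by rw [hA a ha, hA t ht, h1]; group
      _ = a * (a * (a * t) * t) * t * (a * t * (a * t))⁻¹ := by group
      _ = t * a := by
        rw [show a * (a * t) = t by rw [← mul_assoc, hA a ha, one_mul], hA t ht, mul_one, h1]
        have e1 := inv_eq_of_mul_eq_one_right h1
        rw [mul_inv_rev, inv_eq_of_mul_eq_one_right (hA a ha), inv_eq_of_mul_eq_one_right (hA t ht)] at e1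
        rw [e1]; group
  set B := (Subgroup.map (MulAut.conj c).toMonoidHom
    ((PSL2Two.torus F).map (QuotientGroup.mk' (Subgroup.center _))))
  haveI : IsCyclic B := H.cyclic
  have h2 : Nat.card ↥(A ⊓ B) ≤ 2 := by
    haveI : IsCyclic ↥(A ⊓ B) := isCyclic_of_injective (Subgroup.inclusion inf_le_right)
      (Subgroup.inclusion_injective inf_le_right)
    obtain ⟨z, hz⟩ := IsCyclic.exists_generator (α := ↥(A ⊓ B))
    rw [← orderOf_eq_card_of_forall_mem_zpowers hz]
    exact Nat.le_of_dvd two_pos (orderOf_dvd_of_pow_eq_one (Subtype.ext (by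
      rw [sq]; exact hA z.1 z.2.1)))
  by_cases hAB : A ≤ B
  · rw [inf_eq_left.2 hAB] at h2; omega
  obtain ⟨b, hb, hbB⟩ := SetLike.not_le_iff_exists.1 hAB
  have hsub : (A : Set PSL₂) ⊆ ((A ⊓ B : Subgroup PSL₂) : Set PSL₂) ∪
      (fun y => b * y) '' ((A ⊓ B : Subgroup PSL₂) : Set PSL₂) := by
    intro y hy
    by_cases hyB : y ∈ B
    · exact Or.inl ⟨hy, hyB⟩
    refine Or.inr ⟨b * y, ⟨mul_mem hb hy, H.mul b y (hAc b hb) (hAc y hy) hbB hyB⟩, ?_⟩
    show b * (b * y) = y
    rw [← mul_assoc, hA b hb, one_mul]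
  have h1 := (Set.ncard_le_ncard hsub).trans ((Set.ncard_union_le _ _).trans
    (Nat.add_le_add_left (Set.ncard_image_le (Set.toFinite _)) _))
  simp only [← Nat.card_coe_set_eq, SetLike.coe_sort_coe] at h1
  omega

theorem tame_psl_two (h7 : 7 ≤ Fintype.card F) (hq : (Fintype.card F).Prime ∨ Fintype.card F = 9)
    (A : Subgroup PSL₂) (hA : ∀ a ∈ A, a * a = 1) :
    ∃ d, Odd d ∧ d ∣ Nat.card PSL₂ ∧ Nat.card A ^ 2 ≤ d := by
  have hA4 := Nat.pow_le_pow_left (card_exp_two_psl hodd hA) 2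
  have hcard := CfsgLib.Classical.Linear.card_psl_two (F := F)
  set q := Fintype.card F with hqd
  obtain ⟨r, hr⟩ := Nat.odd_iff.2 hodd
  have hsq : q ^ 2 - 1 = 4 * (r * (r + 1)) := by
    rw [hr, show (2 * r + 1) ^ 2 = 4 * (r * (r + 1)) + 1 by ring, Nat.add_sub_cancel]
  rw [Nat.gcd_eq_left (show 2 ∣ q - 1 from ⟨r, by omega⟩), hsq] at hcard
  have hcard' : Nat.card PSL₂ = q * (2 * (r * (r + 1))) := by
    refine Nat.eq_of_mul_eq_mul_left two_pos (hcard.trans ?_); ring
  rcases hq with hq | hq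
  · rcases Nat.even_or_odd r with he | ho
    · refine ⟨q * (r + 1), (Nat.odd_iff.2 hodd).mul he.add_one, ?_, ?_⟩
      · rw [hcard']; exact Nat.mul_dvd_mul_left _ ⟨2 * r, by ring⟩
      · have : 3 ≤ r + 1 := by omega
        nlinarith
    · refine ⟨q * r, (Nat.odd_iff.2 hodd).mul ho, ?_, ?_⟩
      · rw [hcard']; exact Nat.mul_dvd_mul_left _ ⟨2 * (r + 1), by ring⟩
      · have : 3 ≤ r := by omega
        nlinarith
  · refine ⟨45, by decide, ?_, by omega⟩
    rw [hcard', show r = 4 by omega, hq]; norm_num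

omit hodd in
theorem nineData_psl_two (h9 : Fintype.card F = 9) : NineData PSL₂ := by
  classical
  haveI : Fact (Nat.Prime 2) := ⟨Nat.prime_two⟩
  haveI : Fact (Nat.Prime 3) := ⟨Nat.prime_three⟩
  have hcard : Nat.card PSL₂ = 360 := by
    have := CfsgLib.Classical.Linear.card_psl_two (F := F)
    rw [h9, show Nat.gcd 2 (9 - 1) = 2 from rfl, show 9 * (9 ^ 2 - 1) = 720 from rfl] at this
    omega
  have hodd : Fintype.card F % 2 = 1 := by rw [h9]
  let f : Multiplicative F →* PSL₂ := π |>.comp uHom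
  have hf : Function.Injective f := by
    rw [injective_iff_map_eq_one]
    intro t ht
    have h1 : (u (Multiplicative.toAdd t) : Matrix.SpecialLinearGroup (Fin 2) F) ∈ Subgroup.center _ :=
      (QuotientGroup.eq_one_iff _).1 ht
    rcases mem_center_iff'.1 h1 with e | e <;>
    · have := congrArg (fun y : Matrix.SpecialLinearGroup (Fin 2) F => y 0 1) e
      simp at this
      exact this
  have hPc : Nat.card f.range = 9 := by
    rw [← Nat.card_congr (MonoidHom.ofInjective hf).toEquiv, ← h9, ← Nat.card_eq_fintype_card]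
    exact Nat.card_congr Multiplicative.toAdd
  let P : Sylow 3 PSL₂ := (IsPGroup.of_card (n := 2) (by rw [hPc]; norm_num) : IsPGroup 3 f.range).toSylow
    (fun hd => by
      have h1 := f.range.card_mul_index
      rw [hPc, hcard] at h1
      omega)
  refine ⟨hcard, P, hPc, ?_⟩
  obtain ⟨a, ha⟩ := IsCyclic.exists_generator (α := Fˣ)
  have hao : orderOf a = 8 := by
    rw [orderOf_eq_card_of_forall_mem_zpowers ha, Nat.card_units, Nat.card_eq_fintype_card, h9]
  set x : PSL₂ := π (d a)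
  have hxN : x ∈ Subgroup.normalizer ((P : Subgroup PSL₂) : Set PSL₂) := by
    refine Subgroup.mem_normalizer_fintype (S := ((P : Subgroup PSL₂) : Set PSL₂)) ?_
    rintro _ ⟨t, rfl⟩
    refine ⟨Multiplicative.ofAdd ((a : F) ^ 2 * Multiplicative.toAdd t), ?_⟩
    show π (u ((a : F) ^ 2 * Multiplicative.toAdd t)) = π (d a) * π (u (Multiplicative.toAdd t)) * (π (d a))⁻¹
    rw [← d_conj_u, map_mul, map_mul, map_inv]
  have hd1 : ∀ k, 0 < k → k < 8 → (k ≠ 4) → (d a : Matrix.SpecialLinearGroup (Fin 2) F) ^ k ∉ Subgroup.center _ := by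
    intro k hk0 hk8 hk4 hk
    rw [← map_pow] at hk
    have hk' : (a ^ k) ^ 2 = 1 := by
      rcases mem_center_iff'.1 hk with e | e <;>
      · have := congrArg (fun y : Matrix.SpecialLinearGroup (Fin 2) F => y 0 0) e
        simp [-map_pow] at this
        refine Units.ext ?_
        push_cast
        rw [this]; ring
    rw [← pow_mul] at hk'
    have := orderOf_dvd_of_pow_eq_one hk'
    rw [hao] at this
    omega
  have hx4 : orderOf x = 2 ^ 2 := by
    refine orderOf_eq_prime_pow (fun e => hd1 2 two_pos (by norm_num) (by norm_num)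
      ((QuotientGroup.eq_one_iff _).1 (show π (d a ^ 2) = 1 by rw [map_pow]; simpa [x] using e))) ?_
    rw [← map_pow]
    refine (QuotientGroup.eq_one_iff _).2 (mem_center_iff'.2 (Or.inr ?_))
    refine eq_neg_one_of_mul_self (PSL2Two.two_ne_zero_of_odd hodd) (fun e => ?_) ?_
    · have := congrArg (fun y : Matrix.SpecialLinearGroup (Fin 2) F => y 0 0) e
      rw [← map_pow] at this
      simp [-map_pow] at this
      have h4 : a ^ 4 = 1 := Units.ext (by push_cast; simpa using this)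
      have := orderOf_dvd_of_pow_eq_one h4
      rw [hao] at this
      norm_num at this
    · rw [← pow_add, ← map_pow, show 2 ^ 2 + 2 ^ 2 = orderOf a by rw [hao]; norm_num, pow_orderOf_eq_one,
        map_one]
  have := Subgroup.orderOf_dvd_natCard _ hxN
  rwa [hx4] at this

end PSLTwo

section Suzuki

open CfsgLib.Suzuki

theorem isoSuzuki_model {X : Type*} [Group X] (hX : Cfsg.Lie.IsoSuzuki X) :
    ∃ (F : Type) (_ : Field F) (_ : Fintype F) (_ : CharP F 2) (m : ℕ), 1 ≤ m ∧
      Fintype.card F = 2 ^ (2 * m + 1) ∧ Nonempty (X ≃* grp (theta F m)) := by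
  obtain ⟨F, i1, i2, m, hm, hF, ⟨e₀⟩⟩ := hX
  haveI : CharP F 2 := Suzuki.charP_two hF
  exact ⟨F, i1, i2, inferInstance, m, hm, hF, ⟨(e₀.trans (Suzuki.lieSzEquiv hm hF).symm).trans
    (MulEquiv.subgroupCongr (Suzuki.sz_eq (F := F) (m := m)))⟩⟩

variable {F : Type*} [Field F] [Fintype F] [CharP F 2] {m : ℕ}

omit [Fintype F] in
theorem exists_prime_three_mod_four : ∀ n : ℕ, n % 4 = 3 → ∃ p, p.Prime ∧ p ∣ n ∧ p % 4 = 3 := by
  intro n
  induction n using Nat.strong_induction_on with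
  | _ n ih =>
    intro hn
    obtain ⟨p, hp, hpn⟩ := Nat.exists_prime_and_dvd (show n ≠ 1 by omega)
    obtain ⟨c, rfl⟩ := hpn
    rcases (show p % 4 = 3 ∨ p % 4 = 1 ∨ p % 2 = 0 by omega) with h | h | h
    · exact ⟨p, hp, dvd_mul_right p c, h⟩
    · have hc : c % 4 = 3 := by
        rw [Nat.mul_mod, h, one_mul, Nat.mod_mod] at hn; exact hn
      have hlt : c < p * c := by
        have := hp.two_le
        have : 0 < c := by omega
        nlinarith
      obtain ⟨r, hr, hrc, hr4⟩ := ih c hlt hc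
      exact ⟨r, hr, hrc.mul_left p, hr4⟩
    · exfalso
      have := Nat.mul_mod p c 2
      rw [h, zero_mul, Nat.zero_mod] at this
      omega

variable (hm : 1 ≤ m) (hF : Fintype.card F = 2 ^ (2 * m + 1))
include hm hF

theorem exists_conj_central {s : grp (theta F m)} (hs : s * s = 1) :
    ∃ (c : grp (theta F m)) (b : F), c⁻¹ * s * c = uElt (titsEndo_theta hm hF) 0 b := by
  haveI : Fact (Nat.Prime 2) := ⟨Nat.prime_two⟩
  set hT := titsEndo_theta hm hF
  rcases eq_or_ne s 1 with rfl | hs1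
  · exact ⟨1, 0, by rw [uElt_zero hT]; group⟩
  obtain ⟨P, hP⟩ := (IsPGroup.of_card (n := 1) (by
    rw [Nat.card_zpowers, orderOf_eq_prime (by rw [sq, hs]) hs1, pow_one]) :
    IsPGroup 2 (Subgroup.zpowers s)).exists_le_sylow
  obtain ⟨k, hk⟩ := MulAction.exists_smul_eq (grp (theta F m)) (uSylow hT) P
  have hmem := hP (Subgroup.mem_zpowers s)
  rw [← hk] at hmem
  obtain ⟨u, ⟨a, b, rfl⟩, hu⟩ : ∃ u ∈ uGrp hT, MulAut.conj k u = s := hmem
  have hu' : k * uElt hT a b * k⁻¹ = s := hu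
  have hne : uElt hT a b ≠ 1 := fun e => hs1 (by rw [← hu', e]; group)
  have ha : a = 0 := (orderOf_translation hT hne).1 (by
    rw [← MulEquiv.orderOf_eq (MulAut.conj k) (uElt hT a b), hu]
    exact orderOf_eq_prime (by rw [sq, hs]) hs1)
  exact ⟨k, b, by rw [← hu', ha]; group⟩

theorem oneClass_suzuki : OneClass (grp (theta F m)) := by
  haveI : Fact (Nat.Prime 2) := ⟨Nat.prime_two⟩
  set hT := titsEndo_theta hm hF
  have hne : uElt hT 0 (1 : F) ≠ 1 := fun e => by
    rw [← uElt_zero hT, uElt_inj] at e; exact one_ne_zero e.2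
  refine ⟨⟨_, (orderOf_translation hT hne).2 rfl⟩, fun s t hs ht => ?_⟩
  have key : ∀ s : grp (theta F m), orderOf s = 2 → IsConj (uElt hT 0 (1 : F)) s := fun s hs => by
    have hs2 : s * s = 1 := by rw [← sq, ← hs, pow_orderOf_eq_one]
    obtain ⟨c, b, hb⟩ := exists_conj_central hm hF hs2
    have hb0 : b ≠ 0 := fun e => by
      rw [e, uElt_zero hT] at hb
      have : s = 1 := by
        calc s = c * (c⁻¹ * s * c) * c⁻¹ := by group
          _ = 1 := by rw [hb]; group
      rw [this, orderOf_one] at hs; omega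
    obtain ⟨r, hr⟩ := exists_multiplier hT hb0
    refine isConj_iff.2 ⟨c * tElt hT r, ?_⟩
    calc c * tElt hT r * uElt hT 0 1 * (c * tElt hT r)⁻¹
        = c * (tElt hT r * uElt hT 0 1 * (tElt hT r)⁻¹) * c⁻¹ := by group
      _ = c * (c⁻¹ * s * c) * c⁻¹ := by rw [tElt_conj_central, hr, mul_one, hb]
      _ = s := by group
  exact (key s hs).symm.trans (key t ht)

theorem tame_suzuki (A : Subgroup (grp (theta F m))) (hA : ∀ a ∈ A, a * a = 1) :
    ∃ d, Odd d ∧ d ∣ Nat.card (grp (theta F m)) ∧ Nat.card A ^ 2 ≤ d := by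
  classical
  haveI : Fact (Nat.Prime 2) := ⟨Nat.prime_two⟩
  set hT := titsEndo_theta hm hF
  have hq : Nat.card F = 2 ^ (2 * m + 1) := by rw [Nat.card_eq_fintype_card, hF]
  have hAq : Nat.card A ≤ Nat.card F := by
    obtain ⟨P, hP⟩ := (show IsPGroup 2 A from
      fun a => ⟨1, Subtype.ext (by rw [pow_one, sq]; exact hA a a.2)⟩).exists_le_sylow
    obtain ⟨k, hk⟩ := MulAction.exists_smul_eq (grp (theta F m)) (uSylow hT) P
    have key : ∀ a : A, ∃ b : F, MulAut.conj k (uElt hT 0 b) = (a : grp (theta F m)) := by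
      intro a
      have hmem := hP a.2
      rw [← hk] at hmem
      obtain ⟨u, ⟨x, b, rfl⟩, hu⟩ : ∃ u ∈ uGrp hT, MulAut.conj k u = (a : grp (theta F m)) := hmem
      rcases eq_or_ne (uElt hT x b) 1 with e | e
      · exact ⟨0, by rw [uElt_zero hT, ← e, hu]⟩
      · have ha1 : (a : grp (theta F m)) ≠ 1 := fun e1 =>
          e ((MulAut.conj k).injective (by rw [hu, e1, map_one]))
        have hx : x = 0 := (orderOf_translation hT e).1 (by
          rw [← MulEquiv.orderOf_eq (MulAut.conj k) (uElt hT x b), hu]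
          exact orderOf_eq_prime (by rw [sq]; exact hA a a.2) ha1)
        exact ⟨b, by rw [← hx]; exact hu⟩
    choose g hg using key
    exact Nat.card_le_card_of_injective g fun a b e => Subtype.ext (by rw [← hg a, ← hg b, e])
  have heven : Even (Nat.card F) := hq ▸ Nat.even_pow.2 ⟨even_two, by omega⟩
  have h8 : 2 ^ 1 ≤ Nat.card F := hq ▸ Nat.pow_le_pow_right two_pos (by omega)
  refine ⟨(Nat.card F ^ 2 + 1) * (Nat.card F - 1), ?_, ?_, ?_⟩
  · exact ((heven.pow_of_ne_zero two_ne_zero).add_one).mul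
      (Nat.Even.sub_odd (by omega) heven odd_one)
  · rw [card_grp hT, mul_assoc (Nat.card F ^ 2)]; exact dvd_mul_left _ _
  · refine (Nat.pow_le_pow_left hAq 2).trans ?_
    exact (Nat.le_succ _).trans (Nat.le_mul_of_pos_right _ (by omega))

theorem rigid_suzuki : Rigid (grp (theta F m)) := by
  haveI : Fact (Nat.Prime 2) := ⟨Nat.prime_two⟩
  set hT := titsEndo_theta hm hF
  have hq : Nat.card F = 2 ^ (2 * m + 1) := by rw [Nat.card_eq_fintype_card, hF]
  have h4 : (Nat.card F - 1) % 4 = 3 := by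
    have : 4 ∣ 2 ^ (2 * m + 1) := pow_dvd_pow 2 (show 2 ≤ 2 * m + 1 by omega)
    have h0 : 0 < 2 ^ (2 * m + 1) := by positivity
    omega
  obtain ⟨p, hp, hpd, hp4⟩ := exists_prime_three_mod_four _ h4
  haveI : Fact p.Prime := ⟨hp⟩
  obtain ⟨t, ht⟩ := exists_prime_orderOf_dvd_card' (G := Fˣ) p (by rwa [Nat.card_units])
  have hx : orderOf (tElt hT t) = p := by
    rw [show tElt hT t = tHom hT t from rfl, orderOf_injective _ (tHom_injective hT), ht]
  refine ⟨p, tElt hT t, wElt hT, hp, hp4, hx, orderOf_eq_prime (by rw [sq, wElt_mul_self]) ?_, ?_,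
    fun σ => exists_conj_zpowers (fun P => sylow_odd_cyclic hm hF (by omega) P) hx
      ((MulEquiv.orderOf_eq σ _).trans hx)⟩
  · intro e
    have := wElt_not_mem_stabInf hT
    exact this (e ▸ one_mem _)
  · rw [inv_eq_of_mul_eq_one_right (wElt_mul_self hT), wElt_tElt_wElt, tElt_inv]

end Suzuki

end CfsgLib.CIT
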